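import Cfsg.Agent.MonsterX.Lat

/-!
Pairs and triples of minimal vectors of the Leech lattice with inner products `16`: `Co0` is
transitive on the ordered pairs (hence on the lines `b + c + d = 0`) and on the ordered triples
with all three inner products `16`.  The graph "inner product `±16`" restricted to the `1104`
vectors of shape `(±4, ±4, 0^22)` is connected.
-/

set_option autoImplicit false

namespace Cfsg.Agent.MonsterP.LeechTriple

open Cfsg Cfsg.Agent.MonsterX.KSide Cfsg.Agent.MonsterX.Lat Cfsg.Agent.Leech.Min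
  Cfsg.Agent.Leech.Trans Cfsg.Agent.Leech.TransPair Cfsg.Agent.Leech.Code
  Cfsg.Agent.Leech.Co0Elts

/-! ### Pairs -/

/-- `Co0` is transitive on the ordered pairs of minimal vectors with inner product `16`. -/
theorem exists_pair (b c b' c' : leechLattice) (hb : nrm b = 32) (hc : nrm c = 32)
    (hb' : nrm b' = 32) (hc' : nrm c' = 32) (h : dot b c = 16) (h' : dot b' c' = 16) :
    ∃ g : ↥Co0, g • b = b' ∧ g • c = c' := by
  obtain ⟨g, hg⟩ := co0_transitive_min b b' hb hb'
  obtain ⟨k, hk1, hk2⟩ := co0_transitive_pairs b' (g • (-c)) (-c') hb'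
    (by
      have := nrm_smul g (-c)
      rw [nrm_neg, hc] at this
      exact this)
    (by
      have := nrm_neg c'
      rw [hc'] at this
      exact this)
    (by
      have : dot (g • b) (g • (-c)) = -16 := by rw [dot_smul, dot_neg_right, h]
      rw [hg] at this
      exact this)
    (by
      have : dot b' (-c') = -16 := by rw [dot_neg_right, h']
      exact this)
  refine ⟨k * g, by rw [mul_smul, hg, hk1], ?_⟩
  have : (k * g) • (-c) = -c' := by rw [mul_smul, hk2]
  rw [Cfsg.Agent.LeechMat.Core.co0_smul_neg] at this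
  exact neg_injective this

/-- `Co0` is transitive on the ordered pairs of minimal vectors with inner product `-16`. -/
theorem exists_pair_neg (b c b' c' : leechLattice) (hb : nrm b = 32) (hc : nrm c = 32)
    (hb' : nrm b' = 32) (hc' : nrm c' = 32) (h : dot b c = -16) (h' : dot b' c' = -16) :
    ∃ g : ↥Co0, g • b = b' ∧ g • c = c' := by
  obtain ⟨g, h1, h2⟩ := exists_pair b (-c) b' (-c') hb (by rw [nrm_neg, hc]) hb'
    (by rw [nrm_neg, hc']) (by rw [dot_neg_right, h]; rfl) (by rw [dot_neg_right, h']; rfl)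
  rw [Cfsg.Agent.LeechMat.Core.co0_smul_neg] at h2
  exact ⟨g, h1, neg_injective h2⟩

/-- `Co0` is transitive on the ordered lines `b + c + d = 0` of minimal vectors. -/
theorem exists_line (b c d b' c' d' : leechLattice) (hb : nrm b = 32) (hc : nrm c = 32)
    (hd : nrm d = 32) (hb' : nrm b' = 32) (hc' : nrm c' = 32) (hd' : nrm d' = 32)
    (h : b + c + d = 0) (h' : b' + c' + d' = 0) :
    ∃ g : ↥Co0, g • b = b' ∧ g • c = c' ∧ g • d = d' := by
  have key : ∀ b c d : leechLattice, nrm b = 32 → nrm c = 32 → nrm d = 32 → b + c + d = 0 →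
      dot b c = -16 := by
    intro b c d hb hc hd h
    have e : d = -(b + c) := by rw [eq_neg_iff_add_eq_zero, add_comm]; exact h
    rw [e, nrm_neg, ← KS.dot_self] at hd
    have h1 : dot (b + c) (b + c) = dot b b + 2 * dot b c + dot c c := by
      show dotInt _ _ = dotInt _ _ + 2 * dotInt _ _ + dotInt _ _
      unfold dotInt
      rw [Finset.mul_sum, ← Finset.sum_add_distrib, ← Finset.sum_add_distrib]
      refine Finset.sum_congr rfl fun i _ => ?_
      rw [AddSubgroup.coe_add, Pi.add_apply]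
      ring
    rw [h1, KS.dot_self, KS.dot_self, hb, hc] at hd
    omega
  obtain ⟨g, h1, h2⟩ := exists_pair_neg b c b' c' hb hc hb' hc' (key b c d hb hc hd h)
    (key b' c' d' hb' hc' hd' h')
  refine ⟨g, h1, h2, ?_⟩
  have e : d = -(b + c) := by rw [eq_neg_iff_add_eq_zero, add_comm]; exact h
  have e' : d' = -(b' + c') := by rw [eq_neg_iff_add_eq_zero, add_comm]; exact h'
  rw [e, e', Cfsg.Agent.LeechMat.Core.co0_smul_neg, Cfsg.Agent.LeechMat.Core.co0_smul_add, h1, h2]

/-! ### Moves fixing two vectors -/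

/-- `x` can be moved to `y` by an element of `Co0` fixing `b` and `c`. -/
def F (b c x y : leechLattice) : Prop := ∃ g : ↥Co0, g • b = b ∧ g • c = c ∧ g • x = y

theorem F.refl (b c x : leechLattice) : F b c x x :=
  ⟨1, one_smul _ _, one_smul _ _, one_smul _ _⟩

theorem F.symm {b c x y : leechLattice} (h : F b c x y) : F b c y x := by
  obtain ⟨g, h1, h2, rfl⟩ := h
  exact ⟨g⁻¹, by rw [inv_smul_eq_iff]; exact h1.symm, by rw [inv_smul_eq_iff]; exact h2.symm,
    inv_smul_smul g x⟩

theorem F.trans {b c x y z : leechLattice} (h : F b c x y) (h' : F b c y z) : F b c x z := by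
  obtain ⟨g, h1, h2, rfl⟩ := h
  obtain ⟨g', h1', h2', rfl⟩ := h'
  exact ⟨g' * g, by rw [mul_smul, h1, h1'], by rw [mul_smul, h2, h2'], mul_smul _ _ _⟩

theorem F.nrm_eq {b c x y : leechLattice} (h : F b c x y) : nrm y = nrm x := by
  obtain ⟨g, -, -, rfl⟩ := h
  exact nrm_smul g x

theorem F.dot_left {b c x y : leechLattice} (h : F b c x y) : dot b y = dot b x := by
  obtain ⟨g, h1, -, rfl⟩ := h
  rw [← dot_smul g b x, h1]

theorem F.dot_right {b c x y : leechLattice} (h : F b c x y) : dot c y = dot c x := by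
  obtain ⟨g, -, h1, rfl⟩ := h
  rw [← dot_smul g c x, h1]

section

variable {p q r : GolayPt} (hpq : p ≠ q) (hpr : p ≠ r) (hqr : q ≠ r)

include hpq hpr hqr

theorem F_xi {m : GolayPt} (hpm : p ≠ m) (hqm : q ≠ m) (hrm : r ≠ m) (x : leechLattice) :
    ∃ y : leechLattice, F (v0 p q hpq) (v0 p r hpr) x y ∧
      (∀ i ∈ ({p, q, r, m} : Finset GolayPt), (y : GolayPt → ℤ) i = (x : GolayPt → ℤ) i -
        ((x : GolayPt → ℤ) p + (x : GolayPt → ℤ) q + (x : GolayPt → ℤ) r + (x : GolayPt → ℤ) m) / 2) ∧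
      ((∀ i, i ∉ ({p, q, r, m} : Finset GolayPt) → (x : GolayPt → ℤ) i = 0) →
        ∀ i, i ∉ ({p, q, r, m} : Finset GolayPt) → (y : GolayPt → ℤ) i = 0) := by
  obtain ⟨g, hg1, hg2⟩ := exists_xi {p, q, r, m} (card_four hpq hpr hpm hqr hqm hrm)
  have hfix : ∀ v : leechLattice, (∀ i, i ∉ ({p, q, r, m} : Finset GolayPt) →
      (v : GolayPt → ℤ) i = 0) → ∑ i ∈ ({p, q, r, m} : Finset GolayPt), (v : GolayPt → ℤ) i = 0 →
      g • v = v := by
    intro v hv0 hvs
    apply Subtype.ext
    funext i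
    by_cases hi : i ∈ ({p, q, r, m} : Finset GolayPt)
    · rw [hg1 v i hi, hvs]; simp
    · rw [hg2 v hv0 i hi, hv0 i hi]
  refine ⟨g • x, ⟨g, hfix _ (v0_zero hpq) (v0_sum hpq hpr hpm hqr hqm hrm), hfix _ ?_ ?_, rfl⟩,
    ?_, hg2 x⟩
  · intro i hi
    simp only [Finset.mem_insert, Finset.mem_singleton, not_or] at hi
    exact v0_other hpr hi.1 hi.2.2.1
  · rw [sum_four hpq hpr hpm hqr hqm hrm, v0_left, v0_right, v0_other hpr hpq.symm hqr,
      v0_other hpr hpm.symm hrm.symm]
    rfl
  · intro i hi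
    rw [hg1 x i hi, sum_four hpq hpr hpm hqr hqm hrm]

theorem F_flip {m : GolayPt} (hpm : p ≠ m) (hqm : q ≠ m) (hrm : r ≠ m) (x : leechLattice) :
    ∃ y : leechLattice, F (v0 p q hpq) (v0 p r hpr) x y ∧
      (y : GolayPt → ℤ) m = -(x : GolayPt → ℤ) m ∧
      (∀ i ∈ ({p, q, r} : Finset GolayPt), (y : GolayPt → ℤ) i = (x : GolayPt → ℤ) i) ∧
      ∀ i, (y : GolayPt → ℤ) i = (x : GolayPt → ℤ) i ∨
        (y : GolayPt → ℤ) i = -(x : GolayPt → ℤ) i := by
  obtain ⟨D, hD, hmD, hDs⟩ := exists_word m {p, q, r}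
    (Finset.card_le_three.trans (by norm_num)) (by
      simp only [Finset.mem_insert, Finset.mem_singleton, not_or]
      exact ⟨hpm.symm, hqm.symm, hrm.symm⟩)
  have hco : ∀ (v : leechLattice) (i : GolayPt), ((sgn D hD • v : leechLattice) : GolayPt → ℤ) i =
      if i ∈ D then -(v : GolayPt → ℤ) i else (v : GolayPt → ℤ) i := fun _ _ => rfl
  have hpD := hDs p (by simp)
  have hqD := hDs q (by simp)
  have hrD := hDs r (by simp)
  refine ⟨sgn D hD • x, ⟨sgn D hD, ?_, ?_, rfl⟩, ?_, ?_, ?_⟩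
  · apply Subtype.ext
    funext i
    rw [hco]
    split_ifs with hi
    · rw [v0_other hpq (fun h => hpD (h ▸ hi)) (fun h => hqD (h ▸ hi))]; rfl
    · rfl
  · apply Subtype.ext
    funext i
    rw [hco]
    split_ifs with hi
    · rw [v0_other hpr (fun h => hpD (h ▸ hi)) (fun h => hrD (h ▸ hi))]; rfl
    · rfl
  · rw [hco, if_pos hmD]
  · intro i hi
    rw [hco, if_neg (hDs i hi)]
  · intro i
    rw [hco]
    split_ifs
    · exact Or.inr rfl
    · exact Or.inl rfl

/-! ### Triples -/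

/-- A vector of type 4 with the right inner products is moved to `-4 e_q - 4 e_r`. -/
theorem F_four (w : leechLattice) (hw : Type4 (w : GolayPt → ℤ))
    (h1 : (w : GolayPt → ℤ) p - (w : GolayPt → ℤ) q = 4)
    (h2 : (w : GolayPt → ℤ) p - (w : GolayPt → ℤ) r = 4) :
    F (v0 p q hpq) (v0 p r hpr) w (lv q r (-4) (-4) hqr neg_four_or neg_four_or) := by
  -- the vector `4 e_p + 4 e_m`
  have key : ∀ (m : GolayPt) (hpm : p ≠ m), q ≠ m → r ≠ m →
      F (v0 p q hpq) (v0 p r hpr) (lv p m 4 4 hpm four_or four_or)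
        (lv q r (-4) (-4) hqr neg_four_or neg_four_or) := by
    intro m hpm hqm hrm
    obtain ⟨y, hF, hy, hy0⟩ := F_xi hpq hpr hqr hpm hqm hrm (lv p m 4 4 hpm four_or four_or)
    have e : y = lv q r (-4) (-4) hqr neg_four_or neg_four_or := by
      apply Subtype.ext
      funext i
      rw [lv_coe]
      rw [lv_coe, two_left, two_right hpm, two_other hpq.symm hqm, two_other hpr.symm hrm] at hy
      by_cases hi : i ∈ ({p, q, r, m} : Finset GolayPt)
      · have e1 := hy i hi
        simp only [Finset.mem_insert, Finset.mem_singleton] at hi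
        rcases hi with rfl | rfl | rfl | rfl
        · rw [e1, two_left, two_other hpq hpr]; rfl
        · rw [e1, two_left, two_other hpq.symm hqm]; rfl
        · rw [e1, two_right hqr, two_other hpr.symm hrm]; rfl
        · rw [e1, two_right hpm, two_other hqm.symm hrm.symm]; rfl
      · have hi' := hi
        simp only [Finset.mem_insert, Finset.mem_singleton, not_or] at hi
        rw [hy0 ?_ i hi', two_other hi.2.1 hi.2.2.1]
        intro j hj
        simp only [Finset.mem_insert, Finset.mem_singleton, not_or] at hj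
        rw [lv_coe, two_other hj.1 hj.2.2.2]
    rwa [e] at hF
  have key2 : ∀ (m : GolayPt) (hpm : p ≠ m), q ≠ m → r ≠ m → ∀ s : ℤ, ∀ hs : s = 4 ∨ s = -4,
      F (v0 p q hpq) (v0 p r hpr) (lv p m 4 s hpm four_or hs)
        (lv q r (-4) (-4) hqr neg_four_or neg_four_or) := by
    intro m hpm hqm hrm s hs
    rcases hs with rfl | rfl
    · exact key m hpm hqm hrm
    · obtain ⟨y, hF, hym, hy, hyi⟩ := F_flip hpq hpr hqr hpm hqm hrm
        (lv p m 4 (-4) hpm four_or neg_four_or)
      have e : y = lv p m 4 4 hpm four_or four_or := by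
        apply Subtype.ext
        funext i
        rw [lv_coe]
        by_cases hip : i = p
        · subst hip
          rw [hy i (by simp), lv_coe, two_left, two_left]
        · by_cases him : i = m
          · subst him
            rw [hym, lv_coe, two_right hpm, two_right hpm]; rfl
          · have h3 := hyi i
            rw [lv_coe, two_other hip him] at h3
            rw [two_other hip him]
            omega
      rw [e] at hF
      exact hF.trans (key m hpm hqm hrm)
  obtain ⟨k, l, hkl, a, b, ha, hb, e⟩ := eq_two_of_type4 hw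
  have hwe : w = lv k l a b hkl ha hb := Subtype.ext e
  by_cases hp0 : (w : GolayPt → ℤ) p = 4
  · -- `w = 4 e_p ± 4 e_j`
    have hq0 : (w : GolayPt → ℤ) q = 0 := by omega
    have hr0 : (w : GolayPt → ℤ) r = 0 := by omega
    have hpk : p = k ∨ p = l := by
      by_contra hcon
      push Not at hcon
      rw [e, two_other hcon.1 hcon.2] at hp0
      norm_num at hp0
    rw [e] at hp0 hq0 hr0
    rcases hpk with rfl | rfl
    · rw [two_left] at hp0
      subst hp0
      rw [hwe]
      refine key2 l hkl ?_ ?_ b hb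
      · rintro rfl
        rw [two_right hkl] at hq0
        omega
      · rintro rfl
        rw [two_right hkl] at hr0
        omega
    · rw [two_right hkl] at hp0
      subst hp0
      rw [hwe, lv_swap]
      refine key2 k hkl.symm ?_ ?_ a ha
      · rintro rfl
        rw [two_left] at hq0
        omega
      · rintro rfl
        rw [two_left] at hr0
        omega
  · have hval : ∀ i, (w : GolayPt → ℤ) i = 0 ∨ (w : GolayPt → ℤ) i = 4 ∨
        (w : GolayPt → ℤ) i = -4 := by
      intro i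
      by_cases hik : i = k
      · subst hik; rw [e, two_left]; exact Or.inr ha
      · by_cases hil : i = l
        · subst hil; rw [e, two_right hkl]; exact Or.inr hb
        · left; rw [e, two_other hik hil]
    have hp1 : (w : GolayPt → ℤ) p = 0 := by
      have h3 := hval p
      have h4 := hval q
      omega
    have hq1 : (w : GolayPt → ℤ) q = -4 := by omega
    have hr1 : (w : GolayPt → ℤ) r = -4 := by omega
    have hqk : q = k ∨ q = l := by
      by_contra hcon
      push Not at hcon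
      rw [e, two_other hcon.1 hcon.2] at hq1
      norm_num at hq1
    have hrk : r = k ∨ r = l := by
      by_contra hcon
      push Not at hcon
      rw [e, two_other hcon.1 hcon.2] at hr1
      norm_num at hr1
    have e2 : w = lv q r (-4) (-4) hqr neg_four_or neg_four_or := by
      apply Subtype.ext
      funext i
      rw [lv_coe]
      by_cases hiq : i = q
      · subst hiq; rw [hq1, two_left]
      · by_cases hir : i = r
        · subst hir; rw [hr1, two_right hqr]
        · rw [two_other hiq hir, e]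
          rcases hqk with rfl | rfl <;> rcases hrk with rfl | rfl
          · exact absurd rfl hqr
          · exact two_other hiq hir _ _
          · exact two_other hir hiq _ _
          · exact absurd rfl hqr
    rw [e2]
    exact F.refl _ _ _

/-- A point outside three given ones. -/
theorem exists_fourth : ∃ m, p ≠ m ∧ q ≠ m ∧ r ≠ m := by
  obtain ⟨m, hm⟩ := exists_notMem {p, q, r} (lt_of_le_of_lt Finset.card_le_three (by decide))
  simp only [Finset.mem_insert, Finset.mem_singleton, not_or] at hm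
  exact ⟨m, Ne.symm hm.1, Ne.symm hm.2.1, Ne.symm hm.2.2⟩

/-- The even case. -/
theorem F_even (w : leechLattice) (hn : nrm w = 32) {i : GolayPt}
    (hi : (w : GolayPt → ℤ) i % 2 = 0)
    (h1 : (w : GolayPt → ℤ) p - (w : GolayPt → ℤ) q = 4)
    (h2 : (w : GolayPt → ℤ) p - (w : GolayPt → ℤ) r = 4) :
    F (v0 p q hpq) (v0 p r hpr) w (lv q r (-4) (-4) hqr neg_four_or neg_four_or) := by
  rcases type2_or_type4_of_coord w.2 hn hi with h | h
  · exact F_four hpq hpr hqr w h h1 h2
  obtain ⟨A, hA, hA2, hA0, -⟩ := h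
  have h8 : A.card = 8 := hA.2
  have hval : ∀ i, (w : GolayPt → ℤ) i = 0 ∨ (w : GolayPt → ℤ) i = 2 ∨
      (w : GolayPt → ℤ) i = -2 := by
    intro i
    by_cases hi : i ∈ A
    · exact Or.inr (hA2 i hi)
    · exact Or.inl (hA0 i hi)
  have hvp := hval p
  have hvq := hval q
  have hvr := hval r
  have hp2 : (w : GolayPt → ℤ) p = 2 := by omega
  have hq2 : (w : GolayPt → ℤ) q = -2 := by omega
  have hr2 : (w : GolayPt → ℤ) r = -2 := by omega
  obtain ⟨m, hmA, hpm, hqm, hrm⟩ : ∃ m ∈ A, p ≠ m ∧ q ≠ m ∧ r ≠ m := by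
    have h3 : ({p, q, r} : Finset GolayPt).card < A.card :=
      lt_of_le_of_lt Finset.card_le_three (by omega)
    obtain ⟨m, hm, hm'⟩ := Finset.exists_mem_notMem_of_card_lt_card h3
    simp only [Finset.mem_insert, Finset.mem_singleton, not_or] at hm'
    exact ⟨m, hm, Ne.symm hm'.1, Ne.symm hm'.2.1, Ne.symm hm'.2.2⟩
  obtain ⟨x, hF, hxp, hxq, hxr, hxm⟩ : ∃ x : leechLattice, F (v0 p q hpq) (v0 p r hpr) w x ∧
      (x : GolayPt → ℤ) p = 2 ∧ (x : GolayPt → ℤ) q = -2 ∧ (x : GolayPt → ℤ) r = -2 ∧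
      (x : GolayPt → ℤ) m = -2 := by
    rcases hA2 m hmA with hm | hm
    · obtain ⟨y, hF, hym, hy, -⟩ := F_flip hpq hpr hqr hpm hqm hrm w
      exact ⟨y, hF, by rw [hy p (by simp), hp2], by rw [hy q (by simp), hq2],
        by rw [hy r (by simp), hr2], by rw [hym, hm]⟩
    · exact ⟨w, F.refl _ _ _, hp2, hq2, hr2, hm⟩
  obtain ⟨y, hF', hy, -⟩ := F_xi hpq hpr hqr hpm hqm hrm x
  rw [hxp, hxq, hxr, hxm] at hy
  have hyp := hy p (by simp)
  have hyq := hy q (by simp)
  have hyr := hy r (by simp)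
  rw [hxp] at hyp
  rw [hxq] at hyq
  rw [hxr] at hyr
  have hF2 := hF.trans hF'
  have hny : nrm y = 32 := by rw [hF2.nrm_eq, hn]
  exact hF2.trans (F_four hpq hpr hqr y (type4_of_coord y.2 hny (i := p)
    (Or.inl (by rw [hyp]; rfl))) (by rw [hyp, hyq]; rfl) (by rw [hyp, hyr]; rfl))

theorem F_any (w : leechLattice) (hn : nrm w = 32)
    (h1 : (w : GolayPt → ℤ) p - (w : GolayPt → ℤ) q = 4)
    (h2 : (w : GolayPt → ℤ) p - (w : GolayPt → ℤ) r = 4) :
    F (v0 p q hpq) (v0 p r hpr) w (lv q r (-4) (-4) hqr neg_four_or neg_four_or) := by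
  by_cases hi : ∃ i, (w : GolayPt → ℤ) i % 2 = 0
  · obtain ⟨i, hi⟩ := hi
    exact F_even hpq hpr hqr w hn hi h1 h2
  push Not at hi
  have h3 : Type3 (w : GolayPt → ℤ) := by
    rcases (min_iff _).1 ⟨w.2, hn⟩ with h | h | h
    · obtain ⟨k, l, hkl, hk, hl, h0⟩ := h
      have := hi k
      omega
    · obtain ⟨A, hA, hA2, hA0, -⟩ := h
      have h8 : A.card = 8 := hA.2
      obtain ⟨k, hk⟩ : A.Nonempty := by rw [← Finset.card_pos]; omega
      have := hi k
      have := hA2 k hk
      omega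
    · exact h
  obtain ⟨k, hk, hk1, -⟩ := h3
  have hp3 : (w : GolayPt → ℤ) p = 3 ∧ (w : GolayPt → ℤ) q = -1 ∧ (w : GolayPt → ℤ) r = -1 ∧
      k = p := by
    by_cases hkp : k = p
    · subst hkp
      have h4 := hk1 q hpq.symm
      have h5 := hk1 r hpr.symm
      exact ⟨by omega, by omega, by omega, rfl⟩
    · exfalso
      have h4 := hk1 p (Ne.symm hkp)
      by_cases hkq : k = q
      · have h5 := hk1 r (by rw [hkq]; exact hqr.symm)
        omega
      · have h5 := hk1 q (Ne.symm hkq)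
        omega
  obtain ⟨hp, hq, hr, rfl⟩ := hp3
  obtain ⟨m, hpm, hqm, hrm⟩ := exists_fourth hpq hpr hqr
  obtain ⟨x, hF, hxp, hxq, hxr, hxm⟩ : ∃ x : leechLattice, F (v0 k q hpq) (v0 k r hpr) w x ∧
      (x : GolayPt → ℤ) k = 3 ∧ (x : GolayPt → ℤ) q = -1 ∧ (x : GolayPt → ℤ) r = -1 ∧
      (x : GolayPt → ℤ) m = 1 := by
    rcases hk1 m hpm.symm with hm | hm
    · exact ⟨w, F.refl _ _ _, hp, hq, hr, hm⟩
    · obtain ⟨y, hF, hym, hy, -⟩ := F_flip hpq hpr hqr hpm hqm hrm w
      exact ⟨y, hF, by rw [hy k (by simp), hp], by rw [hy q (by simp), hq],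
        by rw [hy r (by simp), hr], by rw [hym, hm]; rfl⟩
  obtain ⟨y, hF', hy, -⟩ := F_xi hpq hpr hqr hpm hqm hrm x
  rw [hxp, hxq, hxr, hxm] at hy
  have hyp := hy k (by simp)
  have hyq := hy q (by simp)
  have hyr := hy r (by simp)
  rw [hxp] at hyp
  rw [hxq] at hyq
  rw [hxr] at hyr
  have hF2 := hF.trans hF'
  have hny : nrm y = 32 := by rw [hF2.nrm_eq, hn]
  exact hF2.trans (F_even hpq hpr hqr y hny (i := k) (by rw [hyp]; rfl) (by rw [hyp, hyq]; rfl)
    (by rw [hyp, hyr]; rfl))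

end

theorem dot_v0' {p q : GolayPt} (hpq : p ≠ q) (x : leechLattice) :
    dot (v0 p q hpq) x = 4 * ((x : GolayPt → ℤ) p - (x : GolayPt → ℤ) q) := dot_v0 hpq _

theorem nrm_v0 {p q : GolayPt} (hpq : p ≠ q) : nrm (v0 p q hpq) = 32 := sqNorm_v0 hpq

theorem dot_v0_v0 {p q r : GolayPt} (hpq : p ≠ q) (hpr : p ≠ r) (hqr : q ≠ r) :
    dot (v0 p q hpq) (v0 p r hpr) = 16 := by
  rw [dot_v0', v0_left, v0_other hpr hpq.symm hqr]; rfl

/-- `Co0` is transitive on the ordered triples of minimal vectors with inner products `16`. -/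
theorem exists_triple (b c d b' c' d' : leechLattice) (hb : nrm b = 32) (hc : nrm c = 32)
    (hd : nrm d = 32) (hb' : nrm b' = 32) (hc' : nrm c' = 32) (hd' : nrm d' = 32)
    (hbc : dot b c = 16) (hbd : dot b d = 16) (hcd : dot c d = 16)
    (hbc' : dot b' c' = 16) (hbd' : dot b' d' = 16) (hcd' : dot c' d' = 16) :
    ∃ g : ↥Co0, g • b = b' ∧ g • c = c' ∧ g • d = d' := by
  obtain ⟨p, hp⟩ := exists_notMem ∅ (by simp)
  obtain ⟨q, hq⟩ := exists_notMem {p} (by simp)
  obtain ⟨r, hr⟩ := exists_notMem {p, q} (lt_of_le_of_lt Finset.card_le_two (by decide))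
  simp only [Finset.mem_insert, Finset.mem_singleton, not_or] at hq hr
  have hpq : p ≠ q := Ne.symm hq
  have hpr : p ≠ r := Ne.symm hr.1
  have hqr : q ≠ r := Ne.symm hr.2
  have key : ∀ b c d : leechLattice, nrm b = 32 → nrm c = 32 → nrm d = 32 → dot b c = 16 →
      dot b d = 16 → dot c d = 16 → ∃ g : ↥Co0, g • b = v0 p q hpq ∧ g • c = v0 p r hpr ∧
        g • d = lv q r (-4) (-4) hqr neg_four_or neg_four_or := by
    intro b c d hb hc hd hbc hbd hcd
    obtain ⟨g, h1, h2⟩ := exists_pair b c (v0 p q hpq) (v0 p r hpr) hb hc (nrm_v0 _) (nrm_v0 _)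
      hbc (dot_v0_v0 hpq hpr hqr)
    have e1 : dot (g • b) (g • d) = 16 := by rw [dot_smul, hbd]
    have e2 : dot (g • c) (g • d) = 16 := by rw [dot_smul, hcd]
    rw [h1, dot_v0'] at e1
    rw [h2, dot_v0'] at e2
    obtain ⟨k, hk1, hk2, hk3⟩ := F_any hpq hpr hqr (g • d) (by rw [nrm_smul, hd]) (by omega)
      (by omega)
    exact ⟨k * g, by rw [mul_smul, h1, hk1], by rw [mul_smul, h2, hk2], by rw [mul_smul, hk3]⟩
  obtain ⟨g, h1, h2, h3⟩ := key b c d hb hc hd hbc hbd hcd
  obtain ⟨g', h1', h2', h3'⟩ := key b' c' d' hb' hc' hd' hbc' hbd' hcd'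
  refine ⟨g'⁻¹ * g, ?_, ?_, ?_⟩
  · rw [mul_smul, h1, ← h1', inv_smul_smul]
  · rw [mul_smul, h2, ← h2', inv_smul_smul]
  · rw [mul_smul, h3, ← h3', inv_smul_smul]

/-! ### The vectors of shape `(±4, ±4, 0^22)` -/

/-- Adjacency on the `1104` vectors of type 4. -/
def AdjFour (v w : leechLattice) : Prop :=
  Type4 (v : GolayPt → ℤ) ∧ Type4 (w : GolayPt → ℤ) ∧ (dot v w = 16 ∨ dot v w = -16)

theorem adjFour_lv {p q r : GolayPt} (hpq : p ≠ q) (hpr : p ≠ r) (hqr : q ≠ r) {a b c d : ℤ}
    (ha : a = 4 ∨ a = -4) (hb : b = 4 ∨ b = -4) (hc : c = 4 ∨ c = -4) (hd : d = 4 ∨ d = -4) :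
    AdjFour (lv p q a b hpq ha hb) (lv p r c d hpr hc hd) :=
  ⟨type4_two hpq ha hb, type4_two hpr hc hd, (adj_lv hpq hpr hqr ha hb hc hd).2⟩

theorem four_same {p q r : GolayPt} (hpq : p ≠ q) (hpr : p ≠ r) {a b c d : ℤ}
    (ha : a = 4 ∨ a = -4) (hb : b = 4 ∨ b = -4) (hc : c = 4 ∨ c = -4) (hd : d = 4 ∨ d = -4) :
    Relation.ReflTransGen AdjFour (lv p q a b hpq ha hb) (lv p r c d hpr hc hd) := by
  by_cases hqr : q = r
  · subst hqr
    obtain ⟨m, hm⟩ := exists_notMem {p, q} (lt_of_le_of_lt Finset.card_le_two (by decide))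
    simp only [Finset.mem_insert, Finset.mem_singleton, not_or] at hm
    exact (Relation.ReflTransGen.single
      (adjFour_lv hpq (Ne.symm hm.1) (Ne.symm hm.2) ha hb four_or four_or)).tail
      (adjFour_lv (Ne.symm hm.1) hpq hm.2 four_or four_or hc hd)
  · exact Relation.ReflTransGen.single (adjFour_lv hpq hpr hqr ha hb hc hd)

/-- The graph "inner product `±16`" on the vectors of shape `(±4, ±4, 0^22)` is connected. -/
theorem conn_four (v w : leechLattice) (hv : Type4 (v : GolayPt → ℤ))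
    (hw : Type4 (w : GolayPt → ℤ)) : Relation.ReflTransGen AdjFour v w := by
  obtain ⟨p, q, hpq, a, b, ha, hb, e⟩ := eq_two_of_type4 hv
  obtain ⟨k, l, hkl, c, d, hc, hd, e'⟩ := eq_two_of_type4 hw
  have e1 : v = lv p q a b hpq ha hb := Subtype.ext e
  have e2 : w = lv k l c d hkl hc hd := Subtype.ext e'
  rw [e1, e2]
  by_cases hpk : p = k
  · subst hpk
    exact four_same _ _ _ _ _ _
  · refine (four_same hpq hpk ha hb four_or four_or).trans ?_
    rw [lv_swap hpk]
    exact four_same _ _ _ _ _ _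

end Cfsg.Agent.MonsterP.LeechTriple
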