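import Cfsg.Agent.MonsterP.LeechNbr

/-!
`Co0` is transitive on the ordered pairs of minimal vectors of the Leech lattice with inner
product `0`, and on those with inner product `8`.
-/

set_option autoImplicit false

namespace Cfsg.Agent.MonsterP.LeechPairs

open Cfsg Cfsg.Agent.MonsterX.KSide Cfsg.Agent.MonsterX.Lat Cfsg.Agent.Leech.Min
  Cfsg.Agent.Leech.Trans Cfsg.Agent.Leech.TransPair Cfsg.Agent.Leech.Code
  Cfsg.Agent.Leech.Co0Elts Cfsg.Agent.MonsterP.LeechTriple Cfsg.Agent.MonsterP.LeechNbr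
  Cfsg.Agent.Leech.Basic

section

variable {p q : GolayPt} (hpq : p ≠ q)

/-- Flip the sign at one point, keeping those at up to four points. -/
theorem E_flip (x : leechLattice) (m : GolayPt) (s : Finset GolayPt) (hs : s.card ≤ 4)
    (hm : m ∉ s) (hp : p ∈ s) (hq : q ∈ s) :
    ∃ y : leechLattice, E (v0 p q hpq) x y ∧
      (y : GolayPt → ℤ) m = -(x : GolayPt → ℤ) m ∧
      (∀ i ∈ s, (y : GolayPt → ℤ) i = (x : GolayPt → ℤ) i) ∧
      ∀ i, (y : GolayPt → ℤ) i = (x : GolayPt → ℤ) i ∨
        (y : GolayPt → ℤ) i = -(x : GolayPt → ℤ) i := by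
  obtain ⟨D, hD, hmD, hDs⟩ := exists_word m s hs hm
  obtain ⟨y, hE, hy⟩ := E_sgn (v := v0 p q hpq) x hD (fun i hi => v0_other hpq
    (fun h => hDs p hp (h ▸ hi)) (fun h => hDs q hq (h ▸ hi)))
  refine ⟨y, hE, by rw [hy m, if_pos hmD], fun i hi => by rw [hy i, if_neg (hDs i hi)],
    fun i => ?_⟩
  rw [hy i]
  split_ifs
  · exact Or.inr rfl
  · exact Or.inl rfl

/-- The sign at one point can be prescribed. -/
theorem E_sign (x : leechLattice) (m : GolayPt) (s : Finset GolayPt) (hs : s.card ≤ 4)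
    (hm : m ∉ s) (hp : p ∈ s) (hq : q ∈ s) (a : ℤ)
    (ha : (x : GolayPt → ℤ) m = a ∨ (x : GolayPt → ℤ) m = -a) :
    ∃ y : leechLattice, E (v0 p q hpq) x y ∧ (y : GolayPt → ℤ) m = a ∧
      (∀ i ∈ s, (y : GolayPt → ℤ) i = (x : GolayPt → ℤ) i) ∧
      ∀ i, (y : GolayPt → ℤ) i = (x : GolayPt → ℤ) i ∨
        (y : GolayPt → ℤ) i = -(x : GolayPt → ℤ) i := by
  rcases ha with ha | ha
  · exact ⟨x, E.refl _ _, ha, fun _ _ => rfl, fun _ => Or.inl rfl⟩
  · obtain ⟨y, hE, h1, h2, h3⟩ := E_flip hpq x m s hs hm hp hq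
    exact ⟨y, hE, by rw [h1, ha, neg_neg], h2, h3⟩

/-- The map `ξ` on the four points `p, q, k, l`. -/
theorem E_xi4 {k l : GolayPt} (hpk : p ≠ k) (hpl : p ≠ l) (hqk : q ≠ k) (hql : q ≠ l)
    (hkl : k ≠ l) (x : leechLattice) :
    ∃ y : leechLattice, E (v0 p q hpq) x y ∧
      (∀ i ∈ ({p, q, k, l} : Finset GolayPt), (y : GolayPt → ℤ) i = (x : GolayPt → ℤ) i -
        ((x : GolayPt → ℤ) p + (x : GolayPt → ℤ) q + (x : GolayPt → ℤ) k + (x : GolayPt → ℤ) l) / 2) ∧
      ((∀ i, i ∉ ({p, q, k, l} : Finset GolayPt) → (x : GolayPt → ℤ) i = 0) →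
        ∀ i, i ∉ ({p, q, k, l} : Finset GolayPt) → (y : GolayPt → ℤ) i = 0) := by
  obtain ⟨y, hE, hy, hy0⟩ := E_xi x (card_four hpq hpk hpl hqk hql hkl) (v0_zero hpq)
    (v0_sum hpq hpk hpl hqk hql hkl)
  exact ⟨y, hE, fun i hi => by rw [hy i hi, sum_four hpq hpk hpl hqk hql hkl], hy0⟩

theorem lv_eq {k l : GolayPt} (hkl : k ≠ l) {a b : ℤ} (ha : a = 4 ∨ a = -4) (hb : b = 4 ∨ b = -4)
    {x : leechLattice} (hk : (x : GolayPt → ℤ) k = a) (hl : (x : GolayPt → ℤ) l = b)
    (h0 : ∀ i, i ≠ k → i ≠ l → (x : GolayPt → ℤ) i = 0) : x = lv k l a b hkl ha hb := by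
  apply Subtype.ext
  funext i
  rw [lv_coe]
  by_cases hik : i = k
  · subst hik; rw [hk, two_left]
  · by_cases hil : i = l
    · subst hil; rw [hl, two_right hkl]
    · rw [h0 i hik hil, two_other hik hil]

/-! ### Inner product `0` -/

theorem zero_out {k l : GolayPt} (hpk : p ≠ k) (hpl : p ≠ l) (hqk : q ≠ k) (hql : q ≠ l)
    (hkl : k ≠ l) {a b : ℤ} (ha : a = 4 ∨ a = -4) (hb : b = 4 ∨ b = -4) :
    E (v0 p q hpq) (lv k l a b hkl ha hb) (lv p q (-4) (-4) hpq neg_four_or neg_four_or) := by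
  -- make the signs positive
  have h1 : E (v0 p q hpq) (lv k l a b hkl ha hb) (lv k l 4 4 hkl four_or four_or) := by
    obtain ⟨y, hE, hyk, hys, hyi⟩ := E_sign hpq (lv k l a b hkl ha hb) k {p, q, l}
      (Finset.card_le_three.trans (by norm_num)) (by
        simp only [Finset.mem_insert, Finset.mem_singleton, not_or]
        exact ⟨hpk.symm, hqk.symm, hkl⟩) (by simp) (by simp) 4 (by
        rw [lv_coe, two_left]
        exact ha)
    have e : y = lv k l 4 b hkl four_or hb := lv_eq hkl four_or hb hyk (by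
      rw [hys l (by simp), lv_coe, two_right hkl]) (fun i hik hil => by
        have := hyi i
        rw [lv_coe, two_other hik hil] at this
        omega)
    obtain ⟨z, hE', hzl, hzs, hzi⟩ := E_sign hpq y l {p, q, k}
      (Finset.card_le_three.trans (by norm_num)) (by
        simp only [Finset.mem_insert, Finset.mem_singleton, not_or]
        exact ⟨hpl.symm, hql.symm, hkl.symm⟩) (by simp) (by simp) 4 (by
        rw [e, lv_coe, two_right hkl]
        exact hb)
    have e' : z = lv k l 4 4 hkl four_or four_or := lv_eq hkl four_or four_or (by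
      rw [hzs k (by simp), e, lv_coe, two_left]) hzl (fun i hik hil => by
        have := hzi i
        rw [e, lv_coe, two_other hik hil] at this
        omega)
    rw [← e']
    exact hE.trans hE'
  obtain ⟨y, hE, hy, hy0⟩ := E_xi4 hpq hpk hpl hqk hql hkl (lv k l 4 4 hkl four_or four_or)
  rw [lv_coe, two_left, two_right hkl, two_other hpk hpl, two_other hqk hql] at hy
  have e : y = lv p q (-4) (-4) hpq neg_four_or neg_four_or := by
    refine lv_eq hpq neg_four_or neg_four_or ?_ ?_ ?_
    · rw [hy p (by simp), two_other hpk hpl]; rfl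
    · rw [hy q (by simp), two_other hqk hql]; rfl
    · intro i hip hiq
      by_cases hik : i = k
      · subst hik
        rw [hy i (by simp), two_left]; rfl
      · by_cases hil : i = l
        · subst hil
          rw [hy i (by simp), two_right hkl]; rfl
        · refine hy0 (fun j hj => ?_) i (by simp [hip, hiq, hik, hil])
          simp only [Finset.mem_insert, Finset.mem_singleton, not_or] at hj
          rw [lv_coe, two_other hj.2.2.1 hj.2.2.2]
  rw [← e]
  exact h1.trans hE

theorem exists_two_out : ∃ k l, p ≠ k ∧ p ≠ l ∧ q ≠ k ∧ q ≠ l ∧ k ≠ l := by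
  obtain ⟨k, hk⟩ := exists_notMem {p, q} (lt_of_le_of_lt Finset.card_le_two (by decide))
  obtain ⟨l, hl⟩ := exists_notMem {p, q, k} (lt_of_le_of_lt Finset.card_le_three (by decide))
  simp only [Finset.mem_insert, Finset.mem_singleton, not_or] at hk hl
  exact ⟨k, l, Ne.symm hk.1, Ne.symm hl.1, Ne.symm hk.2, Ne.symm hl.2.1, Ne.symm hl.2.2⟩

theorem zero_in {a : ℤ} (ha : a = 4 ∨ a = -4) :
    E (v0 p q hpq) (lv p q a a hpq ha ha) (lv p q (-4) (-4) hpq neg_four_or neg_four_or) := by
  obtain ⟨k, l, hpk, hpl, hqk, hql, hkl⟩ := exists_two_out (p := p) (q := q)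
  obtain ⟨y, hE, hy, hy0⟩ := E_xi4 hpq hpk hpl hqk hql hkl (lv p q a a hpq ha ha)
  rw [lv_coe, two_left, two_right hpq, two_other hpk.symm hqk.symm,
    two_other hpl.symm hql.symm] at hy
  have e : y = lv k l (-a) (-a) hkl (by omega) (by omega) := by
    refine lv_eq hkl (by omega) (by omega) ?_ ?_ ?_
    · rw [hy k (by simp), two_other hpk.symm hqk.symm]
      rcases ha with rfl | rfl <;> rfl
    · rw [hy l (by simp), two_other hpl.symm hql.symm]
      rcases ha with rfl | rfl <;> rfl
    · intro i hik hil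
      by_cases hip : i = p
      · subst hip
        rw [hy i (by simp), two_left]
        rcases ha with rfl | rfl <;> rfl
      · by_cases hiq : i = q
        · subst hiq
          rw [hy i (by simp), two_right hpq]
          rcases ha with rfl | rfl <;> rfl
        · refine hy0 (fun j hj => ?_) i (by simp [hip, hiq, hik, hil])
          simp only [Finset.mem_insert, Finset.mem_singleton, not_or] at hj
          rw [lv_coe, two_other hj.1 hj.2.1]
  rw [e] at hE
  exact hE.trans (zero_out hpq hpk hpl hqk hql hkl _ _)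

theorem zero_four (x : leechLattice) (hx : Type4 (x : GolayPt → ℤ))
    (h : (x : GolayPt → ℤ) p = (x : GolayPt → ℤ) q) :
    E (v0 p q hpq) x (lv p q (-4) (-4) hpq neg_four_or neg_four_or) := by
  obtain ⟨k, l, hkl, a, b, ha, hb, e⟩ := eq_two_of_type4 hx
  have hxe : x = lv k l a b hkl ha hb := Subtype.ext e
  rw [e] at h
  by_cases hpk : p = k
  · subst hpk
    by_cases hql : q = l
    · subst hql
      rw [two_left, two_right hkl] at h
      subst h
      rw [hxe]
      exact zero_in hpq _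
    · rw [two_left, two_other hpq.symm hql] at h
      omega
  · by_cases hpl : p = l
    · subst hpl
      by_cases hqk : q = k
      · subst hqk
        rw [two_left, two_right hkl] at h
        subst h
        rw [hxe, lv_swap]
        exact zero_in hpq _
      · rw [two_right hkl, two_other hqk hpq.symm] at h
        omega
    · rw [two_other hpk hpl] at h
      have hqk : q ≠ k := by
        rintro rfl
        rw [two_left] at h
        omega
      have hql : q ≠ l := by
        rintro rfl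
        rw [two_right hkl] at h
        omega
      rw [hxe]
      exact zero_out hpq hpk hpl hqk hql hkl _ _

theorem zero_even (x : leechLattice) (hn : nrm x = 32) {i : GolayPt}
    (hi : (x : GolayPt → ℤ) i % 2 = 0) (h : (x : GolayPt → ℤ) p = (x : GolayPt → ℤ) q) :
    E (v0 p q hpq) x (lv p q (-4) (-4) hpq neg_four_or neg_four_or) := by
  -- first the case that `p` and `q` are in the support
  have key : ∀ x : leechLattice, nrm x = 32 →
      ((x : GolayPt → ℤ) p = 2 ∨ (x : GolayPt → ℤ) p = -2) →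
      (x : GolayPt → ℤ) p = (x : GolayPt → ℤ) q →
      E (v0 p q hpq) x (lv p q (-4) (-4) hpq neg_four_or neg_four_or) := by
    intro x hn hp h
    rcases type2_or_type4_of_coord x.2 hn (i := p) (by omega) with h4 | h2
    · exact zero_four hpq x h4 h
    obtain ⟨A, hA, hA2, hA0, -⟩ := h2
    have h8 : A.card = 8 := hA.2
    obtain ⟨k, hkA, hk⟩ := Finset.exists_mem_notMem_of_card_lt_card
      (show ({p, q} : Finset GolayPt).card < A.card from
        lt_of_le_of_lt Finset.card_le_two (by omega))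
    obtain ⟨l, hlA, hl⟩ := Finset.exists_mem_notMem_of_card_lt_card
      (show ({p, q, k} : Finset GolayPt).card < A.card from
        lt_of_le_of_lt Finset.card_le_three (by omega))
    simp only [Finset.mem_insert, Finset.mem_singleton, not_or] at hk hl
    have hk2 := hA2 k hkA
    have hl2 := hA2 l hlA
    obtain ⟨y, hE, hyk, hys, hyi⟩ := E_sign hpq x k {p, q, l}
      (Finset.card_le_three.trans (by norm_num)) (by
        simp only [Finset.mem_insert, Finset.mem_singleton, not_or]
        exact ⟨hk.1, hk.2, Ne.symm hl.2.2⟩) (by simp) (by simp) ((x : GolayPt → ℤ) p) (by omega)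
    have hyl := hyi l
    obtain ⟨z, hE', hzl, hzs, hzi⟩ := E_sign hpq y l {p, q, k}
      (Finset.card_le_three.trans (by norm_num)) (by
        simp only [Finset.mem_insert, Finset.mem_singleton, not_or]
        exact ⟨hl.1, hl.2.1, hl.2.2⟩) (by simp) (by simp) (-(x : GolayPt → ℤ) p) (by omega)
    have hzp : (z : GolayPt → ℤ) p = (x : GolayPt → ℤ) p := by
      rw [hzs p (by simp), hys p (by simp)]
    have hzq : (z : GolayPt → ℤ) q = (x : GolayPt → ℤ) p := by
      rw [hzs q (by simp), hys q (by simp), ← h]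
    have hzk : (z : GolayPt → ℤ) k = (x : GolayPt → ℤ) p := by
      rw [hzs k (by simp), hyk]
    obtain ⟨w, hE2, hw, -⟩ := E_xi4 hpq (Ne.symm hk.1) (Ne.symm hl.1) (Ne.symm hk.2)
      (Ne.symm hl.2.1) (Ne.symm hl.2.2) z
    rw [hzp, hzq, hzk, hzl] at hw
    have hwl := hw l (by simp)
    have hwp := hw p (by simp)
    have hwq := hw q (by simp)
    rw [hzl] at hwl
    rw [hzp] at hwp
    rw [hzq] at hwq
    have hEE := (hE.trans hE').trans hE2
    have hnw : nrm w = 32 := by
      have := hEE.sqNorm_eq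
      show sqNorm _ = 32
      rw [this]; exact hn
    exact hEE.trans (zero_four hpq w (type4_of_coord w.2 hnw (i := l) (by omega))
      (by rw [hwp, hwq]))
  rcases type2_or_type4_of_coord x.2 hn hi with h4 | h2
  · exact zero_four hpq x h4 h
  obtain ⟨A, hA, hA2, hA0, -⟩ := h2
  have h8 : A.card = 8 := hA.2
  by_cases hpA : p ∈ A
  · exact key x hn (hA2 p hpA) h
  have hp0 := hA0 p hpA
  have hqA : q ∉ A := by
    intro hq
    have := hA2 q hq
    omega
  have hq0 := hA0 q hqA
  obtain ⟨k, hkA, l, hlA, hkl⟩ := Finset.one_lt_card.1 (show 1 < A.card by omega)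
  have hpk : p ≠ k := by rintro rfl; exact hpA hkA
  have hpl : p ≠ l := by rintro rfl; exact hpA hlA
  have hqk : q ≠ k := by rintro rfl; exact hqA hkA
  have hql : q ≠ l := by rintro rfl; exact hqA hlA
  have hk2 := hA2 k hkA
  have hl2 := hA2 l hlA
  obtain ⟨y, hE, hyk, hys, hyi⟩ := E_sign hpq x k {p, q, l}
    (Finset.card_le_three.trans (by norm_num)) (by
      simp only [Finset.mem_insert, Finset.mem_singleton, not_or]
      exact ⟨hpk.symm, hqk.symm, hkl⟩) (by simp) (by simp) ((x : GolayPt → ℤ) l) (by omega)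
  have hyl := hys l (by simp)
  have hyp := hys p (by simp)
  have hyq := hys q (by simp)
  obtain ⟨w, hE2, hw, -⟩ := E_xi4 hpq hpk hpl hqk hql hkl y
  have hwp := hw p (by simp)
  have hwq := hw q (by simp)
  have hEE := hE.trans hE2
  have hnw : nrm w = 32 := by
    have := hEE.sqNorm_eq
    show sqNorm _ = 32
    rw [this]; exact hn
  exact hEE.trans (key w hnw (by omega) (by omega))

theorem zero_any (x : leechLattice) (hn : nrm x = 32)
    (h : (x : GolayPt → ℤ) p = (x : GolayPt → ℤ) q) :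
    E (v0 p q hpq) x (lv p q (-4) (-4) hpq neg_four_or neg_four_or) := by
  by_cases hi : ∃ i, (x : GolayPt → ℤ) i % 2 = 0
  · obtain ⟨i, hi⟩ := hi
    exact zero_even hpq x hn hi h
  push Not at hi
  obtain ⟨k, l, hpk, hpl, hqk, hql, hkl⟩ := exists_two_out (p := p) (q := q)
  have hp1 := hi p
  have hk1 := hi k
  have hl1 := hi l
  obtain ⟨y, hE, hys, hs⟩ : ∃ y : leechLattice, E (v0 p q hpq) x y ∧
      (y : GolayPt → ℤ) p = (x : GolayPt → ℤ) p ∧
      ((y : GolayPt → ℤ) p + (y : GolayPt → ℤ) q + (y : GolayPt → ℤ) k +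
        (y : GolayPt → ℤ) l) % 4 = 2 := by
    by_cases hs : ((x : GolayPt → ℤ) p + (x : GolayPt → ℤ) q + (x : GolayPt → ℤ) k +
        (x : GolayPt → ℤ) l) % 4 = 2
    · exact ⟨x, E.refl _ _, rfl, hs⟩
    · obtain ⟨y, hE, hyk, hys, -⟩ := E_flip hpq x k {p, q, l}
        (Finset.card_le_three.trans (by norm_num)) (by
          simp only [Finset.mem_insert, Finset.mem_singleton, not_or]
          exact ⟨hpk.symm, hqk.symm, hkl⟩) (by simp) (by simp)
      have h1 := hys p (by simp)
      have h2 := hys q (by simp)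
      have h3 := hys l (by simp)
      exact ⟨y, hE, h1, by omega⟩
  obtain ⟨w, hE2, hw, -⟩ := E_xi4 hpq hpk hpl hqk hql hkl y
  have hwp := hw p (by simp)
  have hEE := hE.trans hE2
  have hnw : nrm w = 32 := by
    have := hEE.sqNorm_eq
    show sqNorm _ = 32
    rw [this]; exact hn
  have hd := sub_of_E hpq hEE
  exact hEE.trans (zero_even hpq w hnw (i := p) (by omega) (by omega))

/-! ### Inner product `8` -/

/-- From a vector with coordinates `2, 0` or `0, -2` at `p`, `q` to one with `3, 1`. -/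
theorem eight_even (x : leechLattice) (hn : nrm x = 32)
    (h : (x : GolayPt → ℤ) p = 2 ∧ (x : GolayPt → ℤ) q = 0 ∨
      (x : GolayPt → ℤ) p = 0 ∧ (x : GolayPt → ℤ) q = -2) :
    ∃ y : leechLattice, E (v0 p q hpq) x y ∧ (y : GolayPt → ℤ) p = 3 ∧
      (y : GolayPt → ℤ) q = 1 := by
  obtain ⟨A, hA, hA2, hA0, -⟩ : Type2 (x : GolayPt → ℤ) := by
    rcases type2_or_type4_of_coord x.2 hn (i := p) (by omega) with h4 | h2
    · exfalso
      obtain ⟨k, l, hkl, hk, hl, h0⟩ := h4
      have hval : ∀ i, (x : GolayPt → ℤ) i = 0 ∨ (x : GolayPt → ℤ) i = 4 ∨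
          (x : GolayPt → ℤ) i = -4 := by
        intro i
        by_cases hik : i = k
        · subst hik; exact Or.inr hk
        · by_cases hil : i = l
          · subst hil; exact Or.inr hl
          · exact Or.inl (h0 i hik hil)
      have := hval p
      have := hval q
      omega
    · exact h2
  have h8 : A.card = 8 := hA.2
  obtain ⟨k, hkA, hk⟩ := Finset.exists_mem_notMem_of_card_lt_card
    (show ({p, q} : Finset GolayPt).card < A.card from
      lt_of_le_of_lt Finset.card_le_two (by omega))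
  obtain ⟨l, hlA, hl⟩ := Finset.exists_mem_notMem_of_card_lt_card
    (show ({p, q, k} : Finset GolayPt).card < A.card from
      lt_of_le_of_lt Finset.card_le_three (by omega))
  simp only [Finset.mem_insert, Finset.mem_singleton, not_or] at hk hl
  have hk2 := hA2 k hkA
  have hl2 := hA2 l hlA
  obtain ⟨y, hE, hyk, hys, hyi⟩ := E_sign hpq x k {p, q, l}
    (Finset.card_le_three.trans (by norm_num)) (by
      simp only [Finset.mem_insert, Finset.mem_singleton, not_or]
      exact ⟨hk.1, hk.2, Ne.symm hl.2.2⟩) (by simp) (by simp) (-2) (by omega)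
  have hyl := hyi l
  obtain ⟨z, hE', hzl, hzs, hzi⟩ := E_sign hpq y l {p, q, k}
    (Finset.card_le_three.trans (by norm_num)) (by
      simp only [Finset.mem_insert, Finset.mem_singleton, not_or]
      exact ⟨hl.1, hl.2.1, hl.2.2⟩) (by simp) (by simp) (-2) (by omega)
  have hzp : (z : GolayPt → ℤ) p = (x : GolayPt → ℤ) p := by
    rw [hzs p (by simp), hys p (by simp)]
  have hzq : (z : GolayPt → ℤ) q = (x : GolayPt → ℤ) q := by
    rw [hzs q (by simp), hys q (by simp)]
  have hzk : (z : GolayPt → ℤ) k = -2 := by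
    rw [hzs k (by simp), hyk]
  obtain ⟨w, hE2, hw, -⟩ := E_xi4 hpq (Ne.symm hk.1) (Ne.symm hl.1) (Ne.symm hk.2)
    (Ne.symm hl.2.1) (Ne.symm hl.2.2) z
  have hwp := hw p (by simp)
  have hwq := hw q (by simp)
  exact ⟨w, (hE.trans hE').trans hE2, by omega, by omega⟩

theorem eight_any (x : leechLattice) (hn : nrm x = 32)
    (h : (x : GolayPt → ℤ) p - (x : GolayPt → ℤ) q = 2) :
    ∃ y : leechLattice, E (v0 p q hpq) x y ∧ (y : GolayPt → ℤ) p = 3 ∧
      (y : GolayPt → ℤ) q = 1 := by
  rcases (min_iff _).1 ⟨x.2, hn⟩ with h4 | h2 | h3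
  · exfalso
    obtain ⟨k, l, hkl, hk, hl, h0⟩ := h4
    have hval : ∀ i, (x : GolayPt → ℤ) i = 0 ∨ (x : GolayPt → ℤ) i = 4 ∨
        (x : GolayPt → ℤ) i = -4 := by
      intro i
      by_cases hik : i = k
      · subst hik; exact Or.inr hk
      · by_cases hil : i = l
        · subst hil; exact Or.inr hl
        · exact Or.inl (h0 i hik hil)
    have := hval p
    have := hval q
    omega
  · obtain ⟨A, hA, hA2, hA0, -⟩ := h2
    have hval : ∀ i, (x : GolayPt → ℤ) i = 0 ∨ (x : GolayPt → ℤ) i = 2 ∨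
        (x : GolayPt → ℤ) i = -2 := by
      intro i
      by_cases hi : i ∈ A
      · exact Or.inr (hA2 i hi)
      · exact Or.inl (hA0 i hi)
    have := hval p
    have := hval q
    exact eight_even hpq x hn (by omega)
  · obtain ⟨m, hm, hm1, -⟩ := h3
    have hval : ∀ i, (x : GolayPt → ℤ) i = 3 ∨ (x : GolayPt → ℤ) i = 1 ∨
        (x : GolayPt → ℤ) i = -1 ∨ (x : GolayPt → ℤ) i = -3 := by
      intro i
      by_cases hi : i = m
      · subst hi; omega
      · have := hm1 i hi; omega
    have hvp := hval p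
    have hvq := hval q
    by_cases hp3 : (x : GolayPt → ℤ) p = 3
    · exact ⟨x, E.refl _ _, hp3, by omega⟩
    -- two points different from `p, q, m`
    obtain ⟨k, hk⟩ := exists_notMem {p, q, m} (lt_of_le_of_lt Finset.card_le_three (by decide))
    obtain ⟨l, hl⟩ := exists_notMem {p, q, m, k} (lt_of_le_of_lt Finset.card_le_four (by decide))
    simp only [Finset.mem_insert, Finset.mem_singleton, not_or] at hk hl
    have hk1 := hm1 k hk.2.2
    have hl1 := hm1 l hl.2.2.1
    -- make the values at `k` and `l` equal to `1`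
    obtain ⟨y, hE, hyk, hys, hyi⟩ := E_sign hpq x k {p, q, l}
      (Finset.card_le_three.trans (by norm_num)) (by
        simp only [Finset.mem_insert, Finset.mem_singleton, not_or]
        exact ⟨hk.1, hk.2.1, Ne.symm hl.2.2.2⟩) (by simp) (by simp) 1 (by omega)
    have hyl := hyi l
    obtain ⟨z, hE', hzl, hzs, hzi⟩ := E_sign hpq y l {p, q, k}
      (Finset.card_le_three.trans (by norm_num)) (by
        simp only [Finset.mem_insert, Finset.mem_singleton, not_or]
        exact ⟨hl.1, hl.2.1, hl.2.2.2⟩) (by simp) (by simp) 1 (by omega)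
    have hzp : (z : GolayPt → ℤ) p = (x : GolayPt → ℤ) p := by
      rw [hzs p (by simp), hys p (by simp)]
    have hzq : (z : GolayPt → ℤ) q = (x : GolayPt → ℤ) q := by
      rw [hzs q (by simp), hys q (by simp)]
    have hzk : (z : GolayPt → ℤ) k = 1 := by
      rw [hzs k (by simp), hyk]
    obtain ⟨w, hE2, hw, -⟩ := E_xi4 hpq (Ne.symm hk.1) (Ne.symm hl.1) (Ne.symm hk.2.1)
      (Ne.symm hl.2.1) (Ne.symm hl.2.2.2) z
    have hwp := hw p (by simp)
    have hwq := hw q (by simp)
    have hEE := (hE.trans hE').trans hE2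
    have hnw : nrm w = 32 := by
      have := hEE.sqNorm_eq
      show sqNorm _ = 32
      rw [this]; exact hn
    obtain ⟨u, hEu, hu⟩ := eight_even hpq w hnw (by omega)
    exact ⟨u, hEE.trans hEu, hu⟩

end

/-- `Co0` is transitive on the ordered pairs of minimal vectors with inner product `0`. -/
theorem exists_pair_zero (b c b' c' : leechLattice) (hb : nrm b = 32) (hc : nrm c = 32)
    (hb' : nrm b' = 32) (hc' : nrm c' = 32) (h : dot b c = 0) (h' : dot b' c' = 0) :
    ∃ g : ↥Co0, g • b = b' ∧ g • c = c' := by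
  obtain ⟨p, hp⟩ := exists_notMem ∅ (by simp)
  obtain ⟨q, hq⟩ := exists_notMem {p} (by simp)
  simp only [Finset.mem_singleton] at hq
  have hpq : p ≠ q := Ne.symm hq
  have key : ∀ b c : leechLattice, nrm b = 32 → nrm c = 32 → dot b c = 0 →
      ∃ g : ↥Co0, g • b = v0 p q hpq ∧ g • c = lv p q (-4) (-4) hpq neg_four_or neg_four_or := by
    intro b c hb hc h
    obtain ⟨g, hg⟩ := co0_transitive_min b (v0 p q hpq) hb (nrm_v0 _)
    have e1 : dot (g • b) (g • c) = 0 := by rw [dot_smul, h]
    rw [hg, dot_v0'] at e1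
    obtain ⟨k, hk1, hk2⟩ := zero_any hpq (g • c) (by rw [nrm_smul, hc]) (by omega)
    exact ⟨k * g, by rw [mul_smul, hg, hk1], by rw [mul_smul, hk2]⟩
  obtain ⟨g, h1, h2⟩ := key b c hb hc h
  obtain ⟨g', h1', h2'⟩ := key b' c' hb' hc' h'
  refine ⟨g'⁻¹ * g, ?_, ?_⟩
  · rw [mul_smul, h1, ← h1', inv_smul_smul]
  · rw [mul_smul, h2, ← h2', inv_smul_smul]

theorem type3_odd_aux {d : leechLattice} (hn : nrm d = 32) {i : GolayPt}
    (hi : (d : GolayPt → ℤ) i % 2 = 1) : Type3 (d : GolayPt → ℤ) := by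
  rcases (min_iff _).1 ⟨d.2, hn⟩ with h | h | h
  · exfalso
    obtain ⟨k, l, hkl, hk, hl, h0⟩ := h
    by_cases hik : i = k
    · subst hik; omega
    · by_cases hil : i = l
      · subst hil; omega
      · rw [h0 i hik hil] at hi; omega
  · exfalso
    obtain ⟨A, -, hA2, hA0, -⟩ := h
    by_cases hiA : i ∈ A
    · have := hA2 i hiA; omega
    · rw [hA0 i hiA] at hi; omega
  · exact h

/-- Vectors with coordinates `3, 1` at `p, q` differ by signs outside `p, q`. -/
theorem E_three {p q : GolayPt} (hpq : p ≠ q) (x y : leechLattice) (hx : nrm x = 32)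
    (hy : nrm y = 32) (hxp : (x : GolayPt → ℤ) p = 3) (hxq : (x : GolayPt → ℤ) q = 1)
    (hyp : (y : GolayPt → ℤ) p = 3) (hyq : (y : GolayPt → ℤ) q = 1) :
    E (v0 p q hpq) x y := by
  obtain ⟨k, hk, hk1, hkW⟩ := type3_odd_aux hx (i := p) (by rw [hxp]; rfl)
  obtain ⟨l, hl, hl1, hlW⟩ := type3_odd_aux hy (i := p) (by rw [hyp]; rfl)
  have hkp : k = p := by
    by_contra hne
    have := hk1 p (Ne.symm hne)
    omega
  have hlp : l = p := by
    by_contra hne
    have := hl1 p (Ne.symm hne)
    omega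
  subst hkp
  subst hlp
  have hD := symmDiff_mem hkW hlW
  have hmem : ∀ (x : leechLattice) (i : GolayPt), i ∈ cls (x : GolayPt → ℤ) 1 ↔
      (x : GolayPt → ℤ) i % 4 = 1 := by
    intro x i
    rw [mem_cls]
    rfl
  obtain ⟨z, hE, hz⟩ := E_sgn (v := v0 l q hpq) x hD (fun i hi => by
    rw [Finset.mem_symmDiff, hmem, hmem] at hi
    refine v0_other hpq ?_ ?_
    · rintro rfl
      rw [hxp, hyp] at hi
      omega
    · rintro rfl
      rw [hxq, hyq] at hi
      omega)
  have e : z = y := by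
    apply Subtype.ext
    funext i
    rw [hz i]
    by_cases hil : i = l
    · subst hil
      rw [if_neg, hxp, hyp]
      rw [Finset.mem_symmDiff, hmem, hmem, hxp, hyp]
      omega
    · have h1 := hk1 i hil
      have h2 := hl1 i hil
      split_ifs with hi <;> rw [Finset.mem_symmDiff, hmem, hmem] at hi <;> omega
  rwa [e] at hE

/-- `Co0` is transitive on the ordered pairs of minimal vectors with inner product `8`. -/
theorem exists_pair_eight (b c b' c' : leechLattice) (hb : nrm b = 32) (hc : nrm c = 32)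
    (hb' : nrm b' = 32) (hc' : nrm c' = 32) (h : dot b c = 8) (h' : dot b' c' = 8) :
    ∃ g : ↥Co0, g • b = b' ∧ g • c = c' := by
  obtain ⟨p, hp⟩ := exists_notMem ∅ (by simp)
  obtain ⟨q, hq⟩ := exists_notMem {p} (by simp)
  simp only [Finset.mem_singleton] at hq
  have hpq : p ≠ q := Ne.symm hq
  have key : ∀ b c : leechLattice, nrm b = 32 → nrm c = 32 → dot b c = 8 →
      ∃ g : ↥Co0, g • b = v0 p q hpq ∧ nrm (g • c) = 32 ∧
        ((g • c : leechLattice) : GolayPt → ℤ) p = 3 ∧
        ((g • c : leechLattice) : GolayPt → ℤ) q = 1 := by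
    intro b c hb hc h
    obtain ⟨g, hg⟩ := co0_transitive_min b (v0 p q hpq) hb (nrm_v0 _)
    have e1 : dot (g • b) (g • c) = 8 := by rw [dot_smul, h]
    rw [hg, dot_v0'] at e1
    obtain ⟨y, ⟨k, hk1, hk2⟩, h3⟩ := eight_any hpq (g • c) (by rw [nrm_smul, hc]) (by omega)
    refine ⟨k * g, by rw [mul_smul, hg, hk1], by rw [nrm_smul, hc], ?_⟩
    rw [mul_smul, hk2]
    exact h3
  obtain ⟨g, h1, h2, h3, h4⟩ := key b c hb hc h
  obtain ⟨g', h1', h2', h3', h4'⟩ := key b' c' hb' hc' h'
  obtain ⟨k, hk1, hk2⟩ := E_three hpq _ _ h2 h2' h3 h4 h3' h4'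
  refine ⟨g'⁻¹ * (k * g), ?_, ?_⟩
  · rw [mul_smul, mul_smul, h1, hk1, ← h1', inv_smul_smul]
  · rw [mul_smul, mul_smul, hk2, inv_smul_smul]

end Cfsg.Agent.MonsterP.LeechPairs
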