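import Cfsg.Agent.MonsterP.NodesGrp

/-!
# The first two nodes are different

`ne_of_prel` (helper34) for any group; `ne H : y H 0 ≠ y H 1` in the group of the model.
-/

set_option autoImplicit false
set_option maxRecDepth 100000

namespace Cfsg.Agent.MonsterP.NodesNe

open Cfsg.Agent.Monster.VecEngine Cfsg.Agent.Monster.VecSpace Cfsg.Agent.MonsterX.Space
open Cfsg.Agent.MonsterX Cfsg.Agent.MonsterX.Model Cfsg.Agent.MonsterX.Conc Cfsg.Agent.MonsterX.InstData
open Cfsg.Agent.MonsterP.NodeData Cfsg.Agent.MonsterP.NodeVec Cfsg.Agent.MonsterP.NodesConj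
open Cfsg.Agent.MonsterP.NodesGrp
open Cfsg.Agent.Bimonster Cfsg.Agent.Bimonster.Tits

section

variable {G : Type*} [Group G] {t : ℕ → G}

theorem step (h : CoxRel 14 t) {i j k : ℕ} (hi : i < 14) (hj : j < 14) (hk : k < 14) (h1 : adjB i k = false)
    (h2 : adjB j k = true) (e : t i = t j) : t j = t k := by
  have c := h.cm i hi k hk h1
  have b := h.br j hj k hk h2
  rw [e] at c
  have s := h.sq j hj
  have s' := h.sq k hk
  have e1 : t j * t k * t j = t k := by rw [c, mul_assoc, s, mul_one]
  have e2 : t k * t j * t k = t j := by rw [← c, mul_assoc, s', mul_one]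
  rw [e1, e2] at b
  exact b.symm

/-- The first two nodes are different. -/
theorem ne_of_prel (h : PRel t) (h1 : t 0 ≠ 1) : t 0 ≠ t 1 := by
  intro e
  have hc := h.cox
  have e2 : t 1 = t 2 := step hc (by norm_num) (by norm_num) (by norm_num) (by decide) (by decide) e
  have e6 : t 0 = t 6 := step hc (by norm_num) (by norm_num) (by norm_num) (by decide) (by decide) e.symm
  have e11 : t 0 = t 11 := step hc (by norm_num) (by norm_num) (by norm_num) (by decide) (by decide) e.symm
  have e12 : t 11 = t 12 := step hc (by norm_num) (by norm_num) (by norm_num) (by decide) (by decide) e11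
  have e13 : t 12 = t 13 := step hc (by norm_num) (by norm_num) (by norm_num) (by decide) (by decide) e12
  have e2' : t 2 = t 0 := by rw [← e2, e]
  have e12' : t 12 = t 0 := by rw [← e12, e11]
  have e13' : t 13 = t 0 := by rw [← e13, e12']
  have h3 := h.f3a
  have hw : ev t f3a = t 0 ^ 7 := by
    unfold f3a
    simp only [ev_cons, ev_nil, mul_one, ← e, ← e6, ← e11, e2', e12', e13', pow_succ, pow_zero, one_mul, mul_assoc]
  rw [hw] at h3
  have hs : t 0 ^ 2 = 1 := by rw [pow_two]; exact hc.sq 0 (by norm_num)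
  apply h1
  calc t 0 = t 0 * ((t 0 ^ 2) ^ 31) := by rw [hs, one_pow, mul_one]
    _ = (t 0 ^ 7) ^ 9 := by group
    _ = 1 := h3

end

variable {K₀ : Type} [Group K₀] (H : Hyp K₀)

theorem ne_one {i : ℕ} (hi : i < 24) : y H i ≠ 1 := by
  intro h
  have h1 : W (aw i) * M.t₀ * (W (aw i))⁻¹ = 1 := by
    rw [← y_conj H hi, h]
    rfl
  rw [mul_inv_eq_one, mul_eq_left] at h1
  exact H.P.hR.t₀_ne h1

/-- The first two nodes are different. -/
theorem ne : y H 0 ≠ y H 1 := ne_of_prel (prel H) (ne_one H (by norm_num))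

end Cfsg.Agent.MonsterP.NodesNe
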