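import Cfsg.Agent.MonsterP.SheetHom
import Cfsg.Agent.MonsterU.GlueP

/-!
# From the sheet on `S` to the isomorphism (Monster, project R19, piece U4, steps 5 and 6)

`D : CovData π H n x₀`, a sheet over a connected set `S ∋ x₀` preserved by `K` and a connected set `T₀ ⊆ S`
preserved by `N` give homomorphisms `α : K →* Γ`, `β : N →* Γ` which agree on `K ∩ N` and satisfy the relations
of the plane; with the local hypotheses of the point graph of `G` (three levels) `π` is an isomorphism.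
-/

set_option autoImplicit false

namespace Cfsg.Agent.MonsterP

open Cfsg.Agent.MonsterU Cfsg.Agent.MonsterU.Morse Cfsg.Agent.MonsterU.GlueP

variable {Γ G X : Type*} [Group Γ] [Group G] [MulAction G X]
variable {π : Γ →* G} {H : Subgroup Γ} {n : Γ} {x₀ : X}

namespace CovData

variable (D : CovData π H n x₀)

include D

/-- A sheet can be moved such that it maps the base point to `H`. -/
theorem normalize {S : Set X} {s : X → Γ ⧸ H} (hs : Sheet (Adj π n x₀) (Adj' H n) D.pr S s) (h₀ : x₀ ∈ S) :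
    ∃ s' : X → Γ ⧸ H, Sheet (Adj π n x₀) (Adj' H n) D.pr S s' ∧ s' x₀ = ((1 : Γ) : Γ ⧸ H) := by
  obtain ⟨r, hr, hr'⟩ := D.fibre (u := s x₀) (v := ((1 : Γ) : Γ ⧸ H))
    (by rw [hs.sec x₀ h₀, D.pr_mk, map_one, one_smul])
  refine ⟨fun x => r • s x, ⟨fun x hx => ?_, fun x hx y hy hxy => (hs.adj x hx y hy hxy).smul r⟩, hr'⟩
  rw [D.pr_smul, hr, one_smul, hs.sec x hx]

/-- The lift of the edge `x₀, π n • x₀`. -/
theorem sheet_edge {S : Set X} {s : X → Γ ⧸ H} (hs : Sheet (Adj π n x₀) (Adj' H n) D.pr S s)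
    (h₀ : x₀ ∈ S) (h₁ : π n • x₀ ∈ S) (hs₀ : s x₀ = ((1 : Γ) : Γ ⧸ H)) :
    s (π n • x₀) = (n : Γ ⧸ H) := by
  have h1 : Adj π n x₀ x₀ (π n • x₀) := ⟨1, by rw [one_smul], by rw [one_smul]⟩
  have h2 := hs.adj _ h₀ _ h₁ h1
  rw [hs₀] at h2
  have h3 : Adj' H n ((1 : Γ) : Γ ⧸ H) (n : Γ ⧸ H) := ⟨1, rfl, by rw [one_mul]⟩
  exact D.uniq _ _ _ h2 h3 (by rw [hs.sec _ h₁, D.pr_mk])

end CovData

/-- The data of the two sets over which the sheet is used. -/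
structure SetData (D : CovData π H n x₀) (K N : Subgroup G) (S T₀ : Set X) (s : X → Γ ⧸ H) : Prop where
  sheet : Sheet (Adj π n x₀) (Adj' H n) D.pr S s
  base : x₀ ∈ T₀
  sub : T₀ ⊆ S
  connS : CovData.Conn π n x₀ S
  connT : CovData.Conn π n x₀ T₀
  K_smul : ∀ k ∈ K, ∀ x, k • x ∈ S ↔ x ∈ S
  N_smul : ∀ m ∈ N, ∀ x, m • x ∈ T₀ ↔ x ∈ T₀
  s₀ : s x₀ = ((1 : Γ) : Γ ⧸ H)

namespace SetData

variable {D : CovData π H n x₀} {K N : Subgroup G} {S T₀ : Set X} {s : X → Γ ⧸ H}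
  (W : SetData D K N S T₀ s)

include W

theorem base' : x₀ ∈ S := W.sub W.base

theorem K_le : K ≤ D.compat S s := fun k hk =>
  D.mem_compat_of_conn W.sheet W.connS ⟨x₀, W.base'⟩ (W.K_smul k hk)

theorem N_le : N ≤ D.compat T₀ s := fun m hm =>
  D.mem_compat_of_conn (W.sheet.mono W.sub) W.connT ⟨x₀, W.base⟩ (W.N_smul m hm)

/-- The homomorphism on `K`. -/
noncomputable def α : K →* Γ := (D.lam S s ⟨x₀, W.base'⟩).comp (Subgroup.inclusion W.K_le)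

/-- The homomorphism on `N`. -/
noncomputable def β : N →* Γ := (D.lam T₀ s ⟨x₀, W.base⟩).comp (Subgroup.inclusion W.N_le)

theorem π_α (k : K) : π (W.α k) = k := D.π_lam ⟨x₀, W.base'⟩ ⟨k, W.K_le k.2⟩

theorem π_β (m : N) : π (W.β m) = m := D.π_lam ⟨x₀, W.base⟩ ⟨m, W.N_le m.2⟩

theorem α_smul (k : K) {x : X} (hx : x ∈ S) : W.α k • s x = s ((k : G) • x) :=
  D.lam_smul ⟨x₀, W.base'⟩ ⟨k, W.K_le k.2⟩ hx

theorem β_smul (m : N) {x : X} (hx : x ∈ T₀) : W.β m • s x = s ((m : G) • x) :=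
  D.lam_smul ⟨x₀, W.base⟩ ⟨m, W.N_le m.2⟩ hx

theorem kn (x : G) (h : x ∈ K) (h' : x ∈ N) : W.α ⟨x, h⟩ = W.β ⟨x, h'⟩ :=
  D.lam_eq_lam_same ⟨x₀, W.base'⟩ ⟨x₀, W.base⟩ (W.K_le h) (W.N_le h') W.base' W.base

/-- The elements of `range α` and `range β`. -/
theorem α_eq {g : Γ} {x : X} (hx : x ∈ S) (hg : π g ∈ K) (h : g • s x = s (π g • x)) :
    W.α ⟨π g, hg⟩ = g :=
  (D.eq_lam (V₀ := S) ⟨x, hx⟩ ⟨π g, W.K_le hg⟩ hx rfl h).symm

theorem β_eq {g : Γ} {x : X} (hx : x ∈ T₀) (hg : π g ∈ N) (h : g • s x = s (π g • x)) :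
    W.β ⟨π g, hg⟩ = g :=
  (D.eq_lam (V₀ := T₀) ⟨x, hx⟩ ⟨π g, W.N_le hg⟩ hx rfl h).symm

/-- Elements of `H` over `K`. -/
theorem α_of_H {g : Γ} (hg : g ∈ H) (hK : π g ∈ K) : W.α ⟨π g, hK⟩ = g := by
  refine W.α_eq W.base' hK ?_
  rw [W.s₀, D.fix g hg, W.s₀]
  show ((g * 1 : Γ) : Γ ⧸ H) = _
  rw [mul_one, eq_comm, QuotientGroup.eq, inv_one, one_mul]
  exact hg

/-- Elements of `H` over `N`. -/
theorem β_of_H {g : Γ} (hg : g ∈ H) (hN : π g ∈ N) : W.β ⟨π g, hN⟩ = g := by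
  refine W.β_eq W.base hN ?_
  rw [W.s₀, D.fix g hg, W.s₀]
  show ((g * 1 : Γ) : Γ ⧸ H) = _
  rw [mul_one, eq_comm, QuotientGroup.eq, inv_one, one_mul]
  exact hg

/-- The edge element. -/
theorem α_n (hn : π n ∈ K) : W.α ⟨π n, hn⟩ = n := by
  refine W.α_eq W.base' hn ?_
  rw [W.s₀, D.sheet_edge W.sheet W.base' ((W.K_smul _ hn _).2 W.base') W.s₀]
  show ((n * 1 : Γ) : Γ ⧸ H) = _
  rw [mul_one]

/-- The relations of the plane hold for `α` and `β` if they hold in `G` and the points met on the way from `x₀`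
are in `T₀`. -/
theorem plane {τ ξ : G} (hτ : τ ∈ N) (hξ : ξ ∈ K)
    (h : ∀ a b, Pm τ a → Pm τ b → ∃ c ∈ K, ∃ m ∈ N, ∃ c' ∈ K, a * ξ * b = c * m * c' ∧
      ξ • b • x₀ ∈ T₀ ∧ c' • x₀ ∈ T₀) : PlaneRel K N W.α W.β τ ξ where
  hτ := hτ
  hξ := hξ
  rel := by
    intro a ha b hb ha' hb'
    obtain ⟨c, hc, m, hm, c', hc', h1, h2, h3⟩ := h a b ha' hb'
    refine ⟨c, hc, m, hm, c', hc', h1, ?_⟩
    refine D.eq_of (u := s x₀) ?_ ?_
    · rw [map_mul, map_mul, map_mul, map_mul, W.π_α, W.π_α, W.π_α, W.π_β, W.π_β, W.π_β]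
      exact h1
    · have e1 : b • x₀ ∈ T₀ := (W.N_smul b hb _).2 W.base
      have e2 : m • c' • x₀ ∈ T₀ := (W.N_smul m hm _).2 h3
      rw [mul_smul, mul_smul, mul_smul, mul_smul, W.β_smul ⟨b, hb⟩ W.base, W.α_smul ⟨ξ, hξ⟩ (W.sub e1),
        W.β_smul ⟨a, ha⟩ h2, W.α_smul ⟨c', hc'⟩ W.base', W.β_smul ⟨m, hm⟩ h3,
        W.α_smul ⟨c, hc⟩ (W.sub e2)]
      congr 1
      show a • ξ • b • x₀ = c • m • c' • x₀
      rw [← mul_smul, ← mul_smul, h1, mul_smul, mul_smul]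

/-- Generation: the images of `α` and `β` generate `Γ`. -/
theorem gen (hn : π n ∈ K)
    (hstab : ∀ g : G, g • x₀ = x₀ →
      g ∈ Subgroup.closure {g | g • x₀ = x₀ ∧ (g ∈ K ∨ g ∈ N)})
    (hΓ : Subgroup.closure ((H : Set Γ) ∪ {n}) = ⊤) :
    Subgroup.closure ((W.α.range : Set Γ) ∪ W.β.range) = ⊤ := by
  obtain ⟨L, hL⟩ : ∃ L, L = Subgroup.closure ((W.α.range : Set Γ) ∪ W.β.range) := ⟨_, rfl⟩
  rw [← hL]
  have hα : ∀ k : K, W.α k ∈ L := fun k => by rw [hL]; exact Subgroup.subset_closure (Or.inl ⟨k, rfl⟩)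
  have hβ : ∀ m : N, W.β m ∈ L := fun m => by rw [hL]; exact Subgroup.subset_closure (Or.inr ⟨m, rfl⟩)
  have hstab' : ∀ g : G, g ∈ Subgroup.closure {g | g • x₀ = x₀ ∧ (g ∈ K ∨ g ∈ N)} →
      ∃ h ∈ H, π h = g ∧ h ∈ L := by
    intro g hg
    induction hg using Subgroup.closure_induction with
    | mem g hg =>
      obtain ⟨hg0, hg'⟩ := hg
      obtain ⟨h, hh, rfl⟩ := D.onto g hg0
      refine ⟨h, hh, rfl, ?_⟩
      rcases hg' with hK | hN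
      · rw [← W.α_of_H hh hK]; exact hα _
      · rw [← W.β_of_H hh hN]; exact hβ _
    | one => exact ⟨1, H.one_mem, map_one _, L.one_mem⟩
    | mul a b _ _ iha ihb =>
      obtain ⟨h, hh, rfl, hl⟩ := iha
      obtain ⟨h', hh', rfl, hl'⟩ := ihb
      exact ⟨h * h', H.mul_mem hh hh', map_mul _ _ _, L.mul_mem hl hl'⟩
    | inv a _ iha =>
      obtain ⟨h, hh, rfl, hl⟩ := iha
      exact ⟨h⁻¹, H.inv_mem hh, map_inv _ _, L.inv_mem hl⟩
  rw [eq_top_iff, ← hΓ, Subgroup.closure_le]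
  rintro x (hx | hx)
  · obtain ⟨h, hh, hπ, hl⟩ := hstab' (π x) (hstab (π x) (D.fix x hx))
    have e1 : h⁻¹ * x = 1 := D.inj _ (H.mul_mem (H.inv_mem hh) hx)
      (by rw [map_mul, map_inv, hπ, inv_mul_cancel])
    rw [← inv_mul_eq_one.1 e1]
    exact hl
  · rw [Set.mem_singleton_iff.1 hx, ← W.α_n hn]
    exact hα _

/-- **The isomorphism.** -/
theorem injective (hn : π n ∈ K)
    (hstab : ∀ g : G, g • x₀ = x₀ →
      g ∈ Subgroup.closure {g | g • x₀ = x₀ ∧ (g ∈ K ∨ g ∈ N)})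
    (hΓ : Subgroup.closure ((H : Set Γ) ∪ {n}) = ⊤)
    (unique : ∀ m ∈ K, ∀ n ∈ N, ∀ n' ∈ N, n' ∉ K → n⁻¹ * m * n' ∈ K → m ∈ N)
    {τ ξ : G} (hτ : τ ∈ N) (hξ : ξ ∈ K)
    (h : ∀ a b, Pm τ a → Pm τ b → ∃ c ∈ K, ∃ m ∈ N, ∃ c' ∈ K, a * ξ * b = c * m * c' ∧
      ξ • b • x₀ ∈ T₀ ∧ c' • x₀ ∈ T₀) (hL : Levels3 K N τ ξ) : Function.Injective π := by
  have hg := W.gen hn hstab hΓ
  have hgen : Subgroup.closure ((K : Set G) ∪ N) = ⊤ := by
    rw [eq_top_iff]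
    intro g _
    obtain ⟨x, rfl⟩ := D.surj g
    have hx : x ∈ Subgroup.closure ((W.α.range : Set Γ) ∪ W.β.range) := by rw [hg]; trivial
    induction hx using Subgroup.closure_induction with
    | mem x hx =>
      rcases hx with ⟨k, rfl⟩ | ⟨m, rfl⟩
      · rw [W.π_α]; exact Subgroup.subset_closure (Or.inl k.2)
      · rw [W.π_β]; exact Subgroup.subset_closure (Or.inr m.2)
    | one => rw [map_one]; exact one_mem _
    | mul a b _ _ iha ihb => rw [map_mul]; exact mul_mem (iha trivial) (ihb trivial)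
    | inv a _ iha => rw [map_inv]; exact inv_mem (iha trivial)
  obtain ⟨φ, hφK, hφN⟩ := exists_hom_of_levels W.kn unique (W.plane hτ hξ h) hgen hL
  have key : ∀ x : Γ, φ (π x) = x := by
    intro x
    have hx : x ∈ Subgroup.closure ((W.α.range : Set Γ) ∪ W.β.range) := by rw [hg]; trivial
    induction hx using Subgroup.closure_induction with
    | mem x hx =>
      rcases hx with ⟨k, rfl⟩ | ⟨m, rfl⟩
      · rw [W.π_α, hφK _ k.2]
      · rw [W.π_β, hφN _ m.2]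
    | one => rw [map_one, map_one]
    | mul a b _ _ iha ihb => rw [map_mul, map_mul, iha, ihb]
    | inv a _ iha => rw [map_inv, map_inv, iha]
  intro a b hab
  rw [← key a, ← key b, hab]

end SetData

end Cfsg.Agent.MonsterP
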