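import Cfsg.Agent.MonsterP.HB

/-!
# Axes and involutions in the model; `n̂` lies over `K`
-/

set_option autoImplicit false

namespace Cfsg.Agent.MonsterP.AxisInj

open Cfsg Cfsg.Agent.LeechMat.Core Cfsg.Agent.MonsterX.KSide Cfsg.Agent.MonsterX.KLift
  Cfsg.Agent.MonsterX.KModel Cfsg.Agent.MonsterX.Model Cfsg.Agent.MonsterX.MainTrans
  Cfsg.Agent.MonsterX.MainBasic
  Cfsg.Agent.Bimonster Cfsg.Agent.Bimonster.Tits Cfsg.Agent.MonsterP.NhatData
  Cfsg.Agent.MonsterP.Nhat Cfsg.Agent.MonsterP.SChar Cfsg.Agent.MonsterP.W2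

variable {V P W : Type} [AddCommGroup V] [Module ℚ V] [Group P] [AddCommGroup W] [Module ℚ W]
variable {D : MData V} {M : KS ↥D.G V P W} {x₀ : P} {θ : leechLattice → P} {K₀ : Type} [Group K₀]

/-- **The axis and the involution of a short element determine each other.** -/
theorem axis_iff (H : Link D M x₀) (L : Lift M θ) (hG : MGroup D K₀) (hR : MRep D)
    (hL : MLat D) (hO : MOrbit D) (hT : MTrans D) {g : D.G} {x y : P} (hx : x ∈ M.Sh)
    (hy : y ∈ M.Sh) : g * M.ι x * g⁻¹ = M.ι y ↔ g • M.a x = M.a y := by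
  refine ⟨HB.smul_a_of_conj H L hG hR hL hO hT hx hy, fun h => ?_⟩
  obtain ⟨k, hk, hk'⟩ := HB.exists_trans H L hx
  obtain ⟨l, hl, hl'⟩ := HB.exists_trans H L hy
  have h1 : ((g * k : D.G) : V ≃ₗ[ℚ] V) D.a₀ = (l : V ≃ₗ[ℚ] V) D.a₀ := by
    rw [H.a₀_eq]
    change (g * k) • M.a x₀ = l • M.a x₀
    rw [mul_smul, hk, hl, h]
  have h2 := conj_eq hG hR hL hO hT (g * k).2 l.2 h1
  rw [H.t₀_eq] at h2
  have h3 : (g * k) * M.ι x₀ * (g * k)⁻¹ = l * M.ι x₀ * l⁻¹ := Subtype.ext h2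
  rw [← hl', ← h3, ← hk']
  group

/-- The involution of the axis `g a₀ = a x` is `ι x`. -/
theorem conj_eq_ι (H : Link D M x₀) (L : Lift M θ) (hG : MGroup D K₀) (hR : MRep D)
    (hL : MLat D) (hO : MOrbit D) (hT : MTrans D) {g : D.G} {x : P} (hx : x ∈ M.Sh)
    (h : g • M.a x₀ = M.a x) : g * M.ι x₀ * g⁻¹ = M.ι x :=
  (axis_iff H L hG hR hL hO hT H.x₀_mem hx).2 h

/-- The product of the three involutions of a triangle of type IIb is `z`. -/
theorem prod (L : Lift M θ) {o o' : P} (ho : o ∈ M.Sh) (ho' : o' ∈ M.Sh) (had : Ad M o o') :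
    M.ι o * M.ι o' * M.ι (M.zc * (o * o')) = M.z := by
  have h1 : (o * o') * (o * o') = 1 := L.sh_sq _ (mul_mem L ho ho' had)
  rw [← map_mul, ← map_mul, KS.z]
  congr 1
  calc o * o' * (M.zc * (o * o')) = M.zc * (o * o') * (o * o') := by
        rw [← mul_assoc (o * o'), ← M.zc_comm]
    _ = M.zc := by rw [mul_assoc, h1, mul_one]

section

variable {Γ : Type*} [Group Γ] {t : ℕ → Γ} {π : Γ →* D.G} {o o' : P}

/-- The reversal commutes with the product of the nodes 10, 5, 0. -/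
theorem nh_comm_prod (hP : PRel t) :
    ev t nhW * (t 10 * t 5 * t 0) = t 10 * t 5 * t 0 * ev t nhW := by
  have c10 := nh_conj hP.cox hP.f1a hP.f2a (i := 10) (by norm_num)
  have c5 := nh_conj hP.cox hP.f1a hP.f2a (i := 5) (by norm_num)
  have c0 := nh_conj hP.cox hP.f1a hP.f2a (i := 0) (by norm_num)
  have hs := nh_sq hP.cox
  change ev t nhW * t 10 * ev t nhW = t 5 at c10
  change ev t nhW * t 5 * ev t nhW = t 10 at c5
  change ev t nhW * t 0 * ev t nhW = t 0 at c0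
  have hc : t 5 * t 10 = t 10 * t 5 := hP.cox.cm 5 (by norm_num) 10 (by norm_num) (by decide)
  have h1 : ev t nhW * (t 10 * t 5 * t 0) * ev t nhW = t 10 * t 5 * t 0 := by
    calc ev t nhW * (t 10 * t 5 * t 0) * ev t nhW
        = (ev t nhW * t 10 * ev t nhW) * ((ev t nhW)⁻¹ * t 5 * ev t nhW) *
            ((ev t nhW)⁻¹ * t 0 * ev t nhW) := by group
      _ = t 10 * t 5 * t 0 := by
        rw [inv_eq_of_mul_eq_one_left hs, c10, c5, c0, hc]
  calc ev t nhW * (t 10 * t 5 * t 0)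
      = ev t nhW * (t 10 * t 5 * t 0) * (ev t nhW * ev t nhW) := by rw [hs, mul_one]
    _ = ev t nhW * (t 10 * t 5 * t 0) * ev t nhW * ev t nhW := by rw [← mul_assoc]
    _ = t 10 * t 5 * t 0 * ev t nhW := by rw [h1]

/-- **The reversal lies over `K`.** -/
theorem nh_mem_K (hP : PRel t) (H : Link D M x₀) (L : Lift M θ) (hG : MGroup D K₀) (hR : MRep D)
    (hL : MLat D) (hO : MOrbit D) (hT : MTrans D) (ho : o ∈ M.Sh) (ho' : o' ∈ M.Sh)
    (had : Ad M o o') (e10 : π (t 10) = M.ι o) (e5 : π (t 5) = M.ι o')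
    (e0 : π (t 0) = M.ι (M.zc * (o * o'))) : π (ev t nhW) ∈ M.K := by
  have h1 := congrArg π (nh_comm_prod hP)
  rw [map_mul, map_mul _ (t 10 * t 5 * t 0), map_mul, map_mul, e10, e5, e0, prod L ho ho' had] at h1
  rw [H.C_iff]
  refine cent_z hG hR hL hO hT (π (ev t nhW)).2 ?_
  rw [H.z_eq]
  exact congrArg (fun t : D.G => (t : V ≃ₗ[ℚ] V)) h1

end

end Cfsg.Agent.MonsterP.AxisInj
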