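import Cfsg.Agent.MonsterU.Morse

/-!
# The covering defined by a subgroup and an edge element

`π : Γ →* G` onto, `G` acts on `X`, `H ≤ Γ` is mapped isomorphically onto the stabiliser of `x₀`,
`n ∈ Γ` an involution such that the stabiliser of `π n • x₀` in `H` is contained in `n H n⁻¹`.  Then
`Γ ⧸ H → X` is a covering of the orbital graphs of `(H, n H)` and `(x₀, π n • x₀)`.
`Closed`: the triangles all of whose lifts close; they form a `G`-invariant set.
-/

set_option autoImplicit false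

namespace Cfsg.Agent.MonsterP

open Cfsg.Agent.MonsterU.Morse

variable {Γ G X : Type*} [Group Γ] [Group G] [MulAction G X]

/-- The data of the covering. -/
structure CovData (π : Γ →* G) (H : Subgroup Γ) (n : Γ) (x₀ : X) : Prop where
  surj : Function.Surjective π
  inj : ∀ h ∈ H, π h = 1 → h = 1
  fix : ∀ h ∈ H, π h • x₀ = x₀
  onto : ∀ g : G, g • x₀ = x₀ → ∃ h ∈ H, π h = g
  sq : n * n = 1
  edge : ∀ h ∈ H, π h • π n • x₀ = π n • x₀ → n⁻¹ * h * n ∈ H

/-- Adjacency downstairs: the orbital of `(x₀, π n • x₀)`. -/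
def Adj (π : Γ →* G) (n : Γ) (x₀ : X) (x y : X) : Prop :=
  ∃ g : G, x = g • x₀ ∧ y = g • π n • x₀

/-- Adjacency upstairs: the orbital of `(H, n H)`. -/
def Adj' (H : Subgroup Γ) (n : Γ) (u v : Γ ⧸ H) : Prop :=
  ∃ g : Γ, u = (g : Γ ⧸ H) ∧ v = ((g * n : Γ) : Γ ⧸ H)

theorem Adj.smul {π : Γ →* G} {n : Γ} {x₀ x y : X} (h : Adj π n x₀ x y) (m : G) :
    Adj π n x₀ (m • x) (m • y) := by
  obtain ⟨g, rfl, rfl⟩ := h
  exact ⟨m * g, by rw [mul_smul], by rw [mul_smul]⟩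

theorem Adj'.smul {H : Subgroup Γ} {n : Γ} {u v : Γ ⧸ H} (h : Adj' H n u v) (m : Γ) :
    Adj' H n (m • u) (m • v) := by
  obtain ⟨g, rfl, rfl⟩ := h
  refine ⟨m * g, rfl, ?_⟩
  rw [mul_assoc]
  rfl

namespace CovData

variable {π : Γ →* G} {H : Subgroup Γ} {n : Γ} {x₀ : X} (D : CovData π H n x₀)

/-- The projection. -/
def pr (D : CovData π H n x₀) : Γ ⧸ H → X :=
  Quotient.lift (fun g : Γ => π g • x₀) (by
    intro a b hab
    have hab' : (QuotientGroup.leftRel H) a b := hab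
    rw [QuotientGroup.leftRel_apply] at hab'
    have h := D.fix _ hab'
    rw [map_mul, map_inv, mul_smul, inv_smul_eq_iff] at h
    exact h.symm)

include D

theorem pr_mk (g : Γ) : D.pr (g : Γ ⧸ H) = π g • x₀ := rfl

theorem pr_smul (g : Γ) (u : Γ ⧸ H) : D.pr (g • u) = π g • D.pr u := by
  obtain ⟨a, rfl⟩ := QuotientGroup.mk_surjective u
  show D.pr ((g * a : Γ) : Γ ⧸ H) = _
  rw [pr_mk, pr_mk, map_mul, mul_smul]

/-- the kernel of `π` acts freely -/
theorem free {g : Γ} (hg : π g = 1) {u : Γ ⧸ H} (hu : g • u = u) : g = 1 := by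
  obtain ⟨a, rfl⟩ := QuotientGroup.mk_surjective u
  have h1 : ((g * a : Γ) : Γ ⧸ H) = (a : Γ ⧸ H) := hu
  rw [eq_comm, QuotientGroup.eq] at h1
  have h2 : a⁻¹ * (g * a) = 1 := by
    apply D.inj _ h1
    rw [map_mul, map_mul, hg, one_mul, ← map_mul, inv_mul_cancel, map_one]
  have h3 : g * a = a := by rw [← mul_right_inj a⁻¹, h2, inv_mul_cancel]
  exact mul_eq_right.1 h3

/-- two elements with the same image and the same value at a point are equal -/
theorem eq_of {g g' : Γ} (h : π g = π g') {u : Γ ⧸ H} (hu : g • u = g' • u) : g = g' := by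
  have h1 : π (g'⁻¹ * g) = 1 := by rw [map_mul, map_inv, h, inv_mul_cancel]
  have h2 : (g'⁻¹ * g) • u = u := by rw [mul_smul, hu, inv_smul_smul]
  exact (inv_mul_eq_one.1 (D.free h1 h2)).symm

/-- the kernel of `π` is transitive on the fibres -/
theorem fibre {u v : Γ ⧸ H} (h : D.pr u = D.pr v) : ∃ r : Γ, π r = 1 ∧ r • u = v := by
  obtain ⟨a, rfl⟩ := QuotientGroup.mk_surjective u
  obtain ⟨b, rfl⟩ := QuotientGroup.mk_surjective v
  rw [pr_mk, pr_mk] at h
  obtain ⟨c, hc, hc'⟩ := D.onto ((π a)⁻¹ * π b) (by rw [mul_smul, ← h, inv_smul_smul])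
  refine ⟨b * c⁻¹ * a⁻¹, ?_, ?_⟩
  · rw [map_mul, map_mul, map_inv, map_inv, hc']
    group
  · show ((b * c⁻¹ * a⁻¹ * a : Γ) : Γ ⧸ H) = (b : Γ ⧸ H)
    rw [inv_mul_cancel_right, eq_comm, QuotientGroup.eq, ← mul_assoc, inv_mul_cancel, one_mul]
    exact H.inv_mem hc

/-- an element over `m` with a prescribed value -/
theorem exists_over (m : G) {u v : Γ ⧸ H} (h : m • D.pr u = D.pr v) :
    ∃ g : Γ, π g = m ∧ g • u = v := by
  obtain ⟨g, rfl⟩ := D.surj m
  obtain ⟨r, hr, hr'⟩ := D.fibre (u := g • u) (v := v) (by rw [D.pr_smul, h])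
  exact ⟨r * g, by rw [map_mul, hr, one_mul], by rw [mul_smul, hr']⟩

theorem symm' {u v : Γ ⧸ H} (h : Adj' H n u v) : Adj' H n v u := by
  obtain ⟨g, rfl, rfl⟩ := h
  exact ⟨g * n, rfl, by rw [mul_assoc, D.sq, mul_one]⟩

theorem symm {x y : X} (h : Adj π n x₀ x y) : Adj π n x₀ y x := by
  obtain ⟨g, rfl, rfl⟩ := h
  refine ⟨g * π n, by rw [mul_smul], ?_⟩
  rw [mul_smul, ← mul_smul (π n) (π n), ← map_mul, D.sq, map_one, one_smul]

theorem map {u v : Γ ⧸ H} (h : Adj' H n u v) : Adj π n x₀ (D.pr u) (D.pr v) := by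
  obtain ⟨g, rfl, rfl⟩ := h
  exact ⟨π g, rfl, by rw [pr_mk, map_mul, mul_smul]⟩

theorem lift (u : Γ ⧸ H) (y : X) (h : Adj π n x₀ (D.pr u) y) : ∃ v, D.pr v = y ∧ Adj' H n u v := by
  obtain ⟨a, rfl⟩ := QuotientGroup.mk_surjective u
  obtain ⟨g, h1, rfl⟩ := h
  rw [pr_mk] at h1
  obtain ⟨c, hc, hc'⟩ := D.onto ((π a)⁻¹ * g) (by rw [mul_smul, ← h1, inv_smul_smul])
  refine ⟨((a * c * n : Γ) : Γ ⧸ H), ?_, ⟨a * c, ?_, rfl⟩⟩
  · rw [pr_mk, map_mul, map_mul, hc', mul_inv_cancel_left, mul_smul]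
  · rw [QuotientGroup.eq, inv_mul_cancel_left]
    exact hc

theorem uniq (u v w : Γ ⧸ H) (hv : Adj' H n u v) (hw : Adj' H n u w) (h : D.pr v = D.pr w) :
    v = w := by
  obtain ⟨a, rfl, rfl⟩ := hv
  obtain ⟨b, hb, rfl⟩ := hw
  rw [QuotientGroup.eq] at hb
  rw [pr_mk, pr_mk, map_mul, map_mul, mul_smul, mul_smul] at h
  have h1 : π (a⁻¹ * b) • π n • x₀ = π n • x₀ := by
    rw [map_mul, map_inv, mul_smul, inv_smul_eq_iff]
    exact h.symm
  rw [QuotientGroup.eq]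
  have h2 := D.edge _ hb h1
  have e : (a * n)⁻¹ * (b * n) = n⁻¹ * (a⁻¹ * b) * n := by group
  rw [e]
  exact h2

/-- The closed triangles: all three sides are edges and every lift of two sides closes. -/
def Closed (D : CovData π H n x₀) (x y w : X) : Prop :=
  Adj π n x₀ x y ∧ Adj π n x₀ x w ∧ Adj π n x₀ y w ∧
    ∀ u v t, D.pr u = x → D.pr v = y → D.pr t = w → Adj' H n u v → Adj' H n u t → Adj' H n v t

theorem Closed.swap {x y w : X} (h : D.Closed x y w) : D.Closed x w y := by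
  obtain ⟨h1, h2, h3, h4⟩ := h
  exact ⟨h2, h1, D.symm h3, fun u v t hu hv ht huv hut => D.symm' (h4 u t v hu ht hv hut huv)⟩

theorem Closed.rot {x y w : X} (h : D.Closed x y w) : D.Closed y w x := by
  obtain ⟨h1, h2, h3, h4⟩ := h
  refine ⟨h3, D.symm h1, D.symm h2, ?_⟩
  intro v t u hv ht hu hvt hvu
  obtain ⟨t', ht', hut'⟩ := D.lift u w (by rw [hu]; exact h2)
  have h5 := h4 u v t' hu hv ht' (D.symm' hvu) hut'
  have h6 : t = t' := D.uniq v t t' hvt h5 (by rw [ht, ht'])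
  rw [h6]
  exact D.symm' hut'

/-- The covering of graphs. -/
theorem cover : Cfsg.Agent.MonsterU.Morse.Cover (Adj π n x₀) (Adj' H n) D.Closed D.pr where
  symm := D.symm
  symm' := D.symm'
  map := D.map
  lift := D.lift
  uniq := D.uniq
  rot := fun h => h.rot
  swap := fun h => h.swap
  adj := fun h => h.1
  tri := fun u v t h huv hut => h.2.2.2 u v t rfl rfl rfl huv hut

/-- one closed lift suffices -/
theorem closed_of_lift {u v t : Γ ⧸ H} (h1 : Adj' H n u v) (h2 : Adj' H n u t) (h3 : Adj' H n v t) :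
    D.Closed (D.pr u) (D.pr v) (D.pr t) := by
  refine ⟨D.map h1, D.map h2, D.map h3, ?_⟩
  intro u' v' t' hu hv ht huv hut
  obtain ⟨r, hr, rfl⟩ := D.fibre hu.symm
  have hp : ∀ a : Γ ⧸ H, D.pr (r • a) = D.pr a := fun a => by rw [D.pr_smul, hr, one_smul]
  have e1 : v' = r • v := D.uniq _ _ _ huv (h1.smul r) (by rw [hv, hp])
  have e2 : t' = r • t := D.uniq _ _ _ hut (h2.smul r) (by rw [ht, hp])
  rw [e1, e2]
  exact h3.smul r

/-- the set of closed triangles is invariant -/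
theorem Closed.smul {x y w : X} (h : D.Closed x y w) (m : G) : D.Closed (m • x) (m • y) (m • w) := by
  obtain ⟨h1, h2, h3, h4⟩ := h
  refine ⟨h1.smul m, h2.smul m, h3.smul m, ?_⟩
  intro u v t hu hv ht huv hut
  obtain ⟨g, rfl⟩ := D.surj m
  have hp : ∀ {a : Γ ⧸ H} {b : X}, D.pr a = π g • b → D.pr (g⁻¹ • a) = b := by
    intro a b hab
    rw [D.pr_smul, hab, map_inv, inv_smul_smul]
  have h5 := h4 (g⁻¹ • u) (g⁻¹ • v) (g⁻¹ • t) (hp hu) (hp hv) (hp ht) (huv.smul _) (hut.smul _)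
  have h6 := h5.smul g
  rwa [smul_inv_smul, smul_inv_smul] at h6

end CovData

end Cfsg.Agent.MonsterP
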