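import Cfsg.Agent.MonsterP.Nhat
import Cfsg.Agent.MonsterP.Cover

/-!
# The closed triangle in the `S12`

The duads `{11,12}`, `{1,2}`, `{6,7}` of the path `S12` (the points of `Γ ⧸ H` belonging to the nodes 10, 5 and 0) are
pairwise adjacent.
-/

set_option autoImplicit false
set_option maxRecDepth 100000

namespace Cfsg.Agent.MonsterP.W2

open Cfsg.Agent.Bimonster Cfsg.Agent.Bimonster.Tits Cfsg.Agent.MonsterP.NhatData
open Cfsg.Agent.MonsterP.Nhat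

variable {G : Type*} [Group G]

/-- the nodes of `Y433` -/
def hNodes : List ℕ := [0, 1, 2, 3, 4, 6, 7, 8, 11, 12, 13]

/-- the subgroup generated by the nodes of `Y433` -/
def HP (t : ℕ → G) : Subgroup G := Subgroup.closure {g | ∃ i ∈ hNodes, t i = g}

theorem mem_HP {t : ℕ → G} {i : ℕ} (hi : i ∈ hNodes) : t i ∈ HP t :=
  Subgroup.subset_closure ⟨i, hi, rfl⟩

theorem ev_mem {t : ℕ → G} {K : Subgroup G} {w : List ℕ} (h : ∀ i ∈ w, t i ∈ K) : ev t w ∈ K := by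
  induction w with
  | nil => exact K.one_mem
  | cons i w ih =>
    rw [ev_cons]
    exact K.mul_mem (h i (by simp)) (ih fun j hj => h j (by simp [hj]))

theorem t5_mem {t : ℕ → G} (h5 : t 5 = ev t f1a ^ 9) : t 5 ∈ HP t := by
  rw [h5]
  refine Subgroup.pow_mem _ (ev_mem fun i hi => mem_HP ?_) _
  revert i
  decide

theorem t10_mem {t : ℕ → G} (h10 : t 10 = ev t f2a ^ 9) : t 10 ∈ HP t := by
  rw [h10]
  refine Subgroup.pow_mem _ (ev_mem fun i hi => mem_HP ?_) _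
  revert i
  decide

/-- every letter except 9 lies in `HP` -/
theorem ev_mem_HP {t : ℕ → G} (h5 : t 5 = ev t f1a ^ 9) (h10 : t 10 = ev t f2a ^ 9) {w : List ℕ}
    (hw : w.all (fun i => Nat.blt i 14 && !Nat.beq i 9) = true) : ev t w ∈ HP t := by
  apply ev_mem
  intro i hi
  have h1 := List.all_eq_true.1 hw i hi
  rw [Bool.and_eq_true, Nat.blt_eq] at h1
  obtain ⟨h1, h2⟩ := h1
  interval_cases i
  all_goals first
    | exact mem_HP (by decide)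
    | exact t5_mem h5
    | exact t10_mem h10
    | exact absurd h2 (by decide)

/-- moves the point of node 5 to the point of node 0 -/
def hW : List ℕ := [1, 0, 2, 1, 3, 2, 4, 3, 5, 4]

/-- a word without the letter 9 -/
def sW : List ℕ := [5, 4, 5, 3, 4, 5, 2, 3, 4, 5, 1, 2, 3, 4, 5, 0, 1, 2, 3, 4, 5, 6, 0, 1, 2, 3, 4, 5, 7, 6, 
  0, 1, 2, 3, 4, 5, 8, 7, 6, 0, 1, 2, 3, 4, 5, 10]

/-- certificate -/
def sC : List ℕ := [56, 60, 50, 55, 57, 53, 57, 44, 49, 52, 54, 46, 50, 54, 38, 43, 46, 49, 51, 40, 43, 47, 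
  51, 32, 37, 40, 43, 46, 49, 52, 26, 31, 34, 37, 40, 43, 46, 49, 53, 58, 20, 25, 28, 31, 
  34, 37, 40, 43, 46, 49, 53, 59, 64, 67, 61, 55, 14, 19, 22, 25, 28, 31, 34, 37, 40, 43, 
  46, 49, 52, 56, 62, 68, 73, 76, 79, 70, 73, 64, 67, 58, 61, 8, 13, 16, 19, 22, 25, 28, 
  31, 34, 37, 40, 43, 46, 49, 52, 55, 58, 62, 68, 74, 80, 85, 88, 91, 94, 82, 85, 88, 76, 
  79, 82, 70, 73, 76, 64, 67, 70, 2, 7, 10, 13, 16, 19, 22, 25, 28, 31, 34, 37, 40, 43, 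
  46, 49, 52, 55, 58, 61, 64, 67, 71, 77, 83, 89, 95, 99, 96, 91, 93, 85, 88, 90, 79, 82, 
  85, 87, 31, 34, 37, 40, 43, 46, 49, 52, 55, 58, 61, 64, 67, 70, 73, 76, 79, 82, 19, 22, 
  25, 28, 31, 16, 19, 22, 25, 28, 32, 37, 13, 16, 19, 22, 25, 28, 32, 38, 43, 46, 40, 34, 
  10, 13, 16, 19, 22, 25, 28, 31, 35, 41, 47, 52, 55, 58, 49, 52, 43, 46, 37, 40, 7, 10, 
  13, 16, 19, 22, 25, 28, 31, 34, 37, 41, 47, 53, 59, 64, 67, 70, 73, 76, 61, 64, 67, 70, 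
  55, 58, 61, 64, 49, 52, 55, 58, 43, 46, 49, 4, 7, 10, 13, 16, 19, 22, 25, 28, 31, 34, 
  37, 40, 43, 46, 50, 55, 59, 65, 71, 77, 83, 88, 91, 94, 97, 99, 79, 83, 88, 91, 94, 96, 
  73, 76, 79, 83, 88, 91, 93, 67, 70, 73, 76, 79, 83, 88, 90, 61, 64, 67, 70, 73, 76, 79, 
  83, 87, 55, 58, 61, 64, 67, 70, 73, 76, 79, 82, 84, 52, 55, 58, 61, 64, 67, 70, 73, 76, 
  80, 84, 81, 1, 4, 7, 10, 13, 16, 19, 22, 25, 28, 31, 34, 37, 40, 43, 46, 49, 52, 55, 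
  58, 61, 64, 67, 70, 73, 76, 79, 82, 85, 88, 91, 94, 97, 100, 103, 106, 109, 112, 115, 
  118, 121, 124, 127, 130, 133, 135, 88, 91, 94, 97, 100, 103, 106, 109, 112, 115, 85, 
  88, 91, 94, 97, 59, 64, 67, 70, 73, 76, 80, 85, 88, 91, 94, 98, 103, 106, 109, 112, 
  116, 121, 124, 127, 130, 132, 55, 59, 64, 67, 70, 73, 76, 80, 85, 88, 91, 94, 98, 103, 
  106, 109, 112, 116, 121, 124, 127, 129, 52, 55, 59, 64, 67, 70, 73, 76, 80, 85, 88, 91, 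
  94, 98, 103, 106, 109, 112, 116, 121, 124, 126, 49, 52, 55, 59, 64, 67, 70, 73, 76, 80, 
  85, 88, 91, 94, 98, 103, 106, 109, 112, 116, 121, 123, 46, 49, 52, 55, 59, 64, 67, 70, 
  73, 76, 80, 85, 88, 91, 94, 98, 103, 106, 109, 112, 116, 120, 117, 100, 103, 106, 109, 
  112, 114, 82, 85, 88, 91, 94, 97, 100, 103, 106, 109, 111, 61, 64, 67, 70, 73, 76, 79, 
  82, 85, 88, 91, 94, 97, 100, 103, 106, 108, 44, 49, 52, 55, 58, 62, 67, 70, 73, 77, 82, 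
  85, 88, 92, 97, 100, 103, 105, 40, 44, 49, 52, 55, 58, 62, 67, 70, 73, 77, 82, 85, 88, 
  92, 97, 100, 102, 37, 40, 44, 49, 52, 55, 58, 62, 67, 70, 73, 77, 82, 85, 88, 92, 97, 
  99, 34, 37, 40, 44, 49, 52, 55, 58, 62, 67, 70, 73, 77, 82, 85, 88, 92, 96, 93, 79, 82, 
  85, 88, 90, 64, 67, 70, 73, 76, 79, 82, 85, 87, 46, 49, 52, 55, 58, 61, 64, 67, 70, 73, 
  76, 79, 82, 84, 32, 37, 40, 43, 47, 52, 55, 59, 64, 67, 71, 76, 79, 81, 28, 32, 37, 40, 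
  43, 47, 52, 55, 59, 64, 67, 71, 76, 78, 25, 28, 32, 37, 40, 43, 47, 52, 55, 59, 64, 67, 
  71, 75, 72, 61, 64, 67, 69, 49, 52, 55, 58, 61, 64, 66, 34, 37, 40, 43, 46, 49, 52, 55, 
  58, 61, 63, 23, 28, 31, 35, 40, 44, 49, 53, 58, 60, 19, 23, 28, 31, 35, 40, 44, 49, 53, 
  57, 54, 46, 49, 51, 37, 40, 43, 46, 48, 25, 28, 31, 34, 37, 40, 43, 45, 17, 22, 26, 32, 
  38, 42, 39, 34, 36, 28, 31, 33, 19, 22, 25, 28, 30, 27, 24, 21, 16, 18, 11, 15, 12, 7, 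
  9, 6, 3, 0]

/-- certificate -/
def hC : List ℕ := [26, 30, 27, 20, 24, 21, 14, 18, 15, 8, 12, 9, 2, 6, 3, 0]

theorem s_ok : nilB 14 sC (((hW.map mir).reverse ++ hW ++ nhW) ++ sW.reverse) = true := by
  decide +kernel

theorem h_ok : nilB 14 hC ((hW ++ [5] ++ hW.reverse) ++ [0].reverse) = true := by decide +kernel

/-- `h t₅ h⁻¹ = t₀` -/
theorem h_conj {t : ℕ → G} (h : CoxRel 14 t) : ev t hW * t 5 * (ev t hW)⁻¹ = t 0 := by
  have h1 : ev t (hW ++ [5] ++ hW.reverse) = ev t [0] :=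
    eq_of_nilB (n := 14) h (lt_of_all (by decide)) h_ok
  simpa only [ev_append, ev_cons, ev_nil, mul_one, ev_rev h (by decide : hW.all (fun i => Nat.blt i 14) = true)]
    using h1

/-- `(h n̂) t₁₀ (h n̂)⁻¹ = t₀` -/
theorem hn_conj {t : ℕ → G} (h : CoxRel 14 t) (h5 : t 5 = ev t f1a ^ 9)
    (h10 : t 10 = ev t f2a ^ 9) :
    (ev t hW * ev t nhW) * t 10 * (ev t hW * ev t nhW)⁻¹ = t 0 := by
  have h1 : ev t nhW * t 10 * (ev t nhW)⁻¹ = t 5 := by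
    rw [inv_eq_of_mul_eq_one_left (nh_sq h)]
    exact nh_conj h h5 h10 (by norm_num)
  calc (ev t hW * ev t nhW) * t 10 * (ev t hW * ev t nhW)⁻¹
      = ev t hW * (ev t nhW * t 10 * (ev t nhW)⁻¹) * (ev t hW)⁻¹ := by group
    _ = t 0 := by rw [h1, h_conj h]

theorem hW_mem {t : ℕ → G} (h5 : t 5 = ev t f1a ^ 9) (h10 : t 10 = ev t f2a ^ 9) :
    ev t hW ∈ HP t := ev_mem_HP h5 h10 (by decide)

/-- the element `k = n̂ h` maps `H` to `n̂ H` and `n̂ H` to `h n̂ H` -/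
theorem k_mem {t : ℕ → G} (h : CoxRel 14 t) (h5 : t 5 = ev t f1a ^ 9)
    (h10 : t 10 = ev t f2a ^ 9) :
    (ev t hW * ev t nhW)⁻¹ * ((ev t nhW * ev t hW) * ev t nhW) ∈ HP t := by
  have h1 : ev t ((hW.map mir).reverse ++ hW ++ nhW) = ev t sW :=
    eq_of_nilB (n := 14) h (lt_of_all (by decide)) s_ok
  have h2 : ev t nhW * ev t hW * ev t nhW = ev t (hW.map mir) := nh_word h h5 h10 (by decide)
  rw [ev_append, ev_append, ev_rev h (by decide)] at h1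
  have h3 : (ev t hW * ev t nhW)⁻¹ * ((ev t nhW * ev t hW) * ev t nhW) = (ev t sW)⁻¹ := by
    rw [h2, ← h1]
    group
  rw [h3]
  exact Subgroup.inv_mem _ (ev_mem_HP h5 h10 (by decide))

variable {t : ℕ → G}

/-- the base edge -/
theorem adj_base (n : G) : Adj' (HP t) n ((1 : G) : G ⧸ HP t) (n : G ⧸ HP t) :=
  ⟨1, rfl, by rw [one_mul]⟩

/-- the edge from `H` to `h n̂ H` -/
theorem adj_h (h5 : t 5 = ev t f1a ^ 9) (h10 : t 10 = ev t f2a ^ 9) :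
    Adj' (HP t) (ev t nhW) ((1 : G) : G ⧸ HP t) ((ev t hW * ev t nhW : G) : G ⧸ HP t) := by
  refine ⟨ev t hW, ?_, rfl⟩
  rw [QuotientGroup.eq, inv_one, one_mul]
  exact hW_mem h5 h10

/-- the edge from `n̂ H` to `h n̂ H` -/
theorem adj_nh (h : CoxRel 14 t) (h5 : t 5 = ev t f1a ^ 9) (h10 : t 10 = ev t f2a ^ 9) :
    Adj' (HP t) (ev t nhW) ((ev t nhW : G) : G ⧸ HP t) ((ev t hW * ev t nhW : G) : G ⧸ HP t) := by
  refine ⟨ev t nhW * ev t hW, ?_, ?_⟩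
  · rw [QuotientGroup.eq, inv_mul_cancel_left]
    exact hW_mem h5 h10
  · rw [QuotientGroup.eq]
    exact k_mem h h5 h10

/-- the whole statement (W2) -/
theorem w2 (h : PRel t) : ∃ g ∈ HP t,
    (g * ev t nhW) * t 10 * (g * ev t nhW)⁻¹ = t 0 ∧
    Adj' (HP t) (ev t nhW) ((1 : G) : G ⧸ HP t) ((g * ev t nhW : G) : G ⧸ HP t) ∧
    Adj' (HP t) (ev t nhW) ((ev t nhW : G) : G ⧸ HP t) ((g * ev t nhW : G) : G ⧸ HP t) :=
  ⟨ev t hW, hW_mem h.f1a h.f2a, hn_conj h.cox h.f1a h.f2a, adj_h h.f1a h.f2a,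
    adj_nh h.cox h.f1a h.f2a⟩

end Cfsg.Agent.MonsterP.W2
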