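import Cfsg.Agent.MonsterP.TwoB
import Cfsg.Agent.MonsterP.W2

/-!
# The covering data for a group with the Monster relations

`(H0)` and `(edge)` of the covering argument: `π : Γ →* G` onto the model, `Γ` generated by `t` with `PRel t`,
`H = ⟨Y433⟩`.  Inputs: simplicity of the presented Baby Monster `BM`, the index of the subgroup of `Y333` in `BM`,
the number of conjugates of a node in `BM`, and a few facts on the stabiliser of `x₀` in the model.
-/

set_option autoImplicit false
set_option linter.unusedVariables false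

namespace Cfsg.Agent.MonsterP.CovP

open Cfsg.Spor
open Cfsg.Agent.Bimonster Cfsg.Agent.Bimonster.Tits
open Cfsg.Agent.MonsterP.NhatData Cfsg.Agent.MonsterP.Nhat Cfsg.Agent.MonsterP.TwoB
open Cfsg.Agent.MonsterP.W2

/-- the subgroup of `Y333` in the presented Baby Monster -/
def KB : Subgroup Spor.BabyMonster :=
  Subgroup.closure {g | ∃ a : BabyMonster.Gen, a ≠ .t1 ∧ (PresentedGroup.of a : Spor.BabyMonster) = g}

/-- The facts on the presented Baby Monster. -/
structure BFacts : Prop where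
  simple : IsSimpleGroup Spor.BabyMonster
  fin : Finite Spor.BabyMonster
  idx : KB.index ≤ 27143910000
  cls : 13571955000 ≤
    (Subgroup.centralizer {(PresentedGroup.of BabyMonster.Gen.t1 : Spor.BabyMonster)}).index

/-- The facts on the model. -/
structure MFacts {G X : Type*} [Group G] [MulAction G X] (y : ℕ → G) (x₀ : X) : Prop where
  fix : ∀ i ∈ hNodes, y i • x₀ = x₀
  cent : ∀ g : G, g • x₀ = x₀ → g * y 10 = y 10 * g
  ne_one : y 10 ≠ 1
  ne : y 0 ≠ y 1
  stab_fin : Finite (MulAction.stabilizer G x₀)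
  stab_card : Nat.card (MulAction.stabilizer G x₀) ≤ 2 * Nat.card Spor.BabyMonster
  conj : ∃ g : G, g • x₀ = x₀ ∧ g * y 5 * g⁻¹ = y 5 * y 10

section

variable {Γ G X : Type*} [Group Γ] [Group G] [MulAction G X] {t : ℕ → Γ} {π : Γ →* G} {x₀ : X}

theorem A_eq (t : ℕ → Γ) : A t = HP t := by
  apply le_antisymm
  · refine (Subgroup.closure_le _).2 ?_
    rintro _ ⟨a, rfl⟩
    exact mem_HP (by cases a <;> decide)
  · refine (Subgroup.closure_le _).2 ?_
    rintro _ ⟨i, hi, rfl⟩
    have key : ∀ i ∈ hNodes, ∃ a : BabyMonster.Gen, mA a = i := by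
      intro i hi
      fin_cases hi
      exacts [⟨.t5, rfl⟩, ⟨.t4, rfl⟩, ⟨.t3, rfl⟩, ⟨.t2, rfl⟩, ⟨.t1, rfl⟩, ⟨.t6, rfl⟩, ⟨.t7, rfl⟩,
        ⟨.t8, rfl⟩, ⟨.t9, rfl⟩, ⟨.t10, rfl⟩, ⟨.t11, rfl⟩]
    obtain ⟨a, rfl⟩ := key i hi
    exact mem_A a

theorem mem_zp {c g : Γ} (hc : c * c = 1) (hg : g ∈ Subgroup.zpowers c) : g = 1 ∨ g = c := by
  obtain ⟨m, rfl⟩ := Subgroup.mem_zpowers_iff.1 hg
  rcases Int.even_or_odd m with ⟨k, rfl⟩ | ⟨k, rfl⟩
  · left
    rw [zpow_add, ← (Commute.refl c).mul_zpow, hc, one_zpow]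
  · right
    rw [zpow_add, zpow_one, zpow_mul, zpow_two, hc, one_zpow, one_mul]

/-- no model in which the nodes lie in `⟨f2⟩` -/
theorem not_both {y : ℕ → G} {x₀ : X} (hM : MFacts y x₀) (hbr : y 0 * y 1 * y 0 = y 1 * y 0 * y 1)
    (h0 : y 0 = 1 ∨ y 0 = y 10) (h1 : y 1 = 1 ∨ y 1 = y 10) : False := by
  rcases h0 with h0 | h0
  · rw [h0] at hbr
    have : y 1 = 1 := by
      have h2 : y 1 * y 1 = y 1 := by simpa using hbr.symm
      simpa using h2
    exact hM.ne (by rw [h0, this])
  · rcases h1 with h1 | h1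
    · rw [h1] at hbr
      have : y 0 = 1 := by
        have h2 : y 0 * y 0 = y 0 := by simpa using hbr
        simpa using h2
      exact hM.ne (by rw [h1, this])
    · exact hM.ne (by rw [h0, h1])

/-- the same for elements of `Γ` -/
theorem not_both' (h : PRel t) (hM : MFacts (fun i => π (t i)) x₀)
    (h0 : π (t 0) = 1 ∨ π (t 0) = π (t 10)) (h1 : π (t 1) = 1 ∨ π (t 1) = π (t 10)) : False := by
  refine not_both hM ?_ h0 h1
  have := h.cox.br 0 (by norm_num) 1 (by norm_num) (by decide)
  simp only [← map_mul, this]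

theorem homA_bijective (hB : BFacts) (h : PRel t) (hM : MFacts (fun i => π (t i)) x₀) :
    Function.Bijective (homA h) := by
  refine ⟨?_, homA_surjective h⟩
  have := hB.simple
  rcases (inferInstance : (homA h).ker.Normal).eq_bot_or_eq_top with hk | hk
  · exact (MonoidHom.ker_eq_bot_iff _).1 hk
  · exfalso
    have htriv : ∀ a : A t, a ∈ Subgroup.zpowers (cA h) := by
      intro a
      rw [← QuotientGroup.eq_one_iff]
      obtain ⟨b, hb⟩ := homA_surjective h (QuotientGroup.mk a)
      rw [← hb]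
      have : b ∈ (homA h).ker := by rw [hk]; trivial
      exact this
    have key : ∀ a : BabyMonster.Gen, π (t (mA a)) = 1 ∨ π (t (mA a)) = π (t 10) := by
      intro a
      rcases mem_zp (cA_sq h) (htriv (gx mA t a)) with h1 | h1
      · left
        have h2 : t (mA a) = 1 := congrArg Subtype.val h1
        rw [h2, map_one]
      · right
        exact congrArg (fun x : A t => π x) h1
    exact not_both' h hM (key .t5) (key .t4)

/-- the projection `H → BM` -/
noncomputable def psi (hB : BFacts) (h : PRel t) (hM : MFacts (fun i => π (t i)) x₀) :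
    A t →* Spor.BabyMonster :=
  (MulEquiv.ofBijective (homA h) (homA_bijective hB h hM)).symm.toMonoidHom.comp
    (QuotientGroup.mk' (Subgroup.zpowers (cA h)))

theorem homA_psi (hB : BFacts) (h : PRel t) (hM : MFacts (fun i => π (t i)) x₀) (a : A t) :
    homA h (psi hB h hM a) = QuotientGroup.mk a := by
  unfold psi
  exact (MulEquiv.ofBijective (homA h) (homA_bijective hB h hM)).apply_symm_apply _

theorem psi_gx (hB : BFacts) (h : PRel t) (hM : MFacts (fun i => π (t i)) x₀)
    (a : BabyMonster.Gen) : psi hB h hM (gx mA t a) = PresentedGroup.of a := by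
  apply (homA_bijective hB h hM).1
  rw [homA_psi, homA_of]

theorem psi_eq_one (hB : BFacts) (h : PRel t) (hM : MFacts (fun i => π (t i)) x₀) {a : A t}
    (ha : psi hB h hM a = 1) : (a : Γ) = 1 ∨ (a : Γ) = t 10 := by
  have h1 := homA_psi hB h hM a
  rw [ha, map_one] at h1
  have h2 : a ∈ Subgroup.zpowers (cA h) := (QuotientGroup.eq_one_iff a).1 h1.symm
  rcases mem_zp (cA_sq h) h2 with h3 | h3
  · left; rw [h3]; rfl
  · right; rw [h3]; rfl

theorem psi_c (hB : BFacts) (h : PRel t) (hM : MFacts (fun i => π (t i)) x₀) :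
    psi hB h hM (cA h) = 1 := by
  apply (homA_bijective hB h hM).1
  rw [homA_psi, map_one]
  exact (QuotientGroup.eq_one_iff _).2 (Subgroup.mem_zpowers _)

theorem psi_surjective (hB : BFacts) (h : PRel t) (hM : MFacts (fun i => π (t i)) x₀) :
    Function.Surjective (psi hB h hM) := by
  intro b
  obtain ⟨a, ha⟩ := QuotientGroup.mk_surjective (homA h b)
  refine ⟨a, (homA_bijective hB h hM).1 ?_⟩
  rw [homA_psi, ha]

/-- `π` is injective on `H` -/
theorem inj (hB : BFacts) (h : PRel t) (hM : MFacts (fun i => π (t i)) x₀) :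
    ∀ g ∈ A t, π g = 1 → g = 1 := by
  have := hB.simple
  let K0 : Subgroup (A t) := (π.comp (A t).subtype).ker
  have hn : (K0.map (psi hB h hM)).Normal :=
    Subgroup.Normal.map inferInstance _ (psi_surjective hB h hM)
  rcases hn.eq_bot_or_eq_top with hk | hk
  · intro g hg hg1
    have h1 : psi hB h hM ⟨g, hg⟩ = 1 := by
      have : psi hB h hM ⟨g, hg⟩ ∈ K0.map (psi hB h hM) := ⟨⟨g, hg⟩, hg1, rfl⟩
      rw [hk] at this
      exact Subgroup.mem_bot.1 this
    rcases psi_eq_one hB h hM h1 with h2 | h2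
    · exact h2
    · exact absurd (by rw [← hg1]; exact congrArg π h2.symm) hM.ne_one
  · exfalso
    have key : ∀ a : BabyMonster.Gen, π (t (mA a)) = 1 ∨ π (t (mA a)) = π (t 10) := by
      intro a
      have h1 : psi hB h hM (gx mA t a) ∈ K0.map (psi hB h hM) := by rw [hk]; trivial
      obtain ⟨k, hk1, hk2⟩ := h1
      have h2 : psi hB h hM (gx mA t a * k⁻¹) = 1 := by
        rw [map_mul, map_inv, hk2, mul_inv_cancel]
      have h3 : π (k : Γ) = 1 := hk1
      have h4 : π ((gx mA t a * k⁻¹ : A t) : Γ) = π (t (mA a)) := by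
        rw [Subgroup.coe_mul, map_mul, Subgroup.coe_inv, map_inv, h3, inv_one, mul_one, gx_coe]
      rcases psi_eq_one hB h hM h2 with h5 | h5
      · left; rw [← h4, h5, map_one]
      · right; rw [← h4, h5]
    exact not_both' h hM (key .t5) (key .t4)

theorem card_A_eq (hB : BFacts) (h : PRel t) (hM : MFacts (fun i => π (t i)) x₀) :
    Nat.card (A t) = 2 * Nat.card Spor.BabyMonster := by
  have h1 : Nat.card (A t ⧸ Subgroup.zpowers (cA h)) = Nat.card Spor.BabyMonster :=
    (Nat.card_congr (Equiv.ofBijective _ (homA_bijective hB h hM))).symm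
  have h2 : Nat.card (Subgroup.zpowers (cA h)) = 2 := by
    rw [Nat.card_zpowers]
    apply orderOf_eq_prime (by rw [pow_two, cA_sq h])
    intro hc
    have h3 : t 10 = 1 := congrArg Subtype.val hc
    exact hM.ne_one (by show π (t 10) = 1; rw [h3, map_one])
  rw [Subgroup.card_eq_card_quotient_mul_card_subgroup (Subgroup.zpowers (cA h)), h1, h2, mul_comm]

theorem fix (hM : MFacts (fun i => π (t i)) x₀) : ∀ h ∈ HP t, π h • x₀ = x₀ := by
  intro g hg
  have h1 : HP t ≤ (MulAction.stabilizer G x₀).comap π := by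
    refine (Subgroup.closure_le _).2 ?_
    rintro _ ⟨i, hi, rfl⟩
    exact hM.fix i hi
  exact h1 hg

theorem onto (hB : BFacts) (h : PRel t) (hM : MFacts (fun i => π (t i)) x₀) :
    ∀ g : G, g • x₀ = x₀ → ∃ k ∈ HP t, π k = g := by
  have := hM.stab_fin
  let f : A t → MulAction.stabilizer G x₀ := fun a =>
    ⟨π a, fix hM a (by rw [← A_eq]; exact a.2)⟩
  have hf : Function.Injective f := by
    intro a b hab
    have h1 : π (a : Γ) = π (b : Γ) := congrArg Subtype.val hab
    have h2 : (a * b⁻¹ : A t) = (1 : Γ) := by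
      apply inj hB h hM _ (a * b⁻¹).2
      rw [Subgroup.coe_mul, Subgroup.coe_inv, map_mul, map_inv, h1, mul_inv_cancel]
    have h3 : a * b⁻¹ = 1 := Subtype.ext h2
    exact mul_inv_eq_one.1 h3
  have hb := hf.bijective_of_nat_card_le (by rw [card_A_eq hB h hM]; exact hM.stab_card)
  intro g hg
  obtain ⟨a, ha⟩ := hb.2 ⟨g, hg⟩
  exact ⟨a, by rw [← A_eq]; exact a.2, congrArg Subtype.val ha⟩

/-- the nodes of `Y333` -/
def jNodes : List ℕ := [0, 1, 2, 3, 6, 7, 8, 11, 12, 13]

/-- the subgroup of `Y333` -/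
def JP (t : ℕ → Γ) : Subgroup Γ := Subgroup.closure {g | ∃ i ∈ jNodes, t i = g}

theorem mem_JP {i : ℕ} (hi : i ∈ jNodes) : t i ∈ JP t := Subgroup.subset_closure ⟨i, hi, rfl⟩

theorem t10_mem_JP (h : PRel t) : t 10 ∈ JP t := by
  rw [← e7A1 h]
  exact pow_mem (mul_mem (mul_mem (mul_mem (mul_mem (mul_mem (mul_mem
    (mem_JP (by decide)) (mem_JP (by decide))) (mem_JP (by decide))) (mem_JP (by decide)))
    (mem_JP (by decide))) (mem_JP (by decide))) (mem_JP (by decide))) 9

theorem JP_comm (h : PRel t) : ∀ g ∈ JP t, g * t 5 = t 5 * g := by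
  intro g hg
  have : JP t ≤ Subgroup.centralizer {t 5} := by
    refine (Subgroup.closure_le _).2 ?_
    rintro _ ⟨i, hi, rfl⟩
    refine Subgroup.mem_centralizer_singleton_iff.2 ?_
    have key : ∀ i ∈ jNodes, i < 14 ∧ adjB i 5 = false := by decide
    exact h.cox.cm i (key i hi).1 5 (by norm_num) (key i hi).2
  exact Subgroup.mem_centralizer_singleton_iff.1 (this hg)

theorem mem_JP_of_psi (hB : BFacts) (h : PRel t) (hM : MFacts (fun i => π (t i)) x₀) {a : A t}
    (ha : psi hB h hM a ∈ KB) : (a : Γ) ∈ JP t := by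
  have h1 : KB ≤ ((JP t).subgroupOf (A t)).map (psi hB h hM) := by
    refine (Subgroup.closure_le _).2 ?_
    rintro _ ⟨b, hb, rfl⟩
    refine ⟨gx mA t b, ?_, psi_gx hB h hM b⟩
    show t (mA b) ∈ JP t
    apply mem_JP
    cases b
    · exact absurd rfl hb
    all_goals decide
  obtain ⟨k, hk, hk2⟩ := h1 ha
  have h2 : psi hB h hM (a * k⁻¹) = 1 := by rw [map_mul, map_inv, hk2, mul_inv_cancel]
  have hk' : (k : Γ) ∈ JP t := hk
  have h3 : (a : Γ) = ((a * k⁻¹ : A t) : Γ) * k := by
    rw [Subgroup.coe_mul, Subgroup.coe_inv, inv_mul_cancel_right]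
  rw [h3]
  rcases psi_eq_one hB h hM h2 with h4 | h4
  · rw [h4, one_mul]; exact hk'
  · rw [h4]; exact mul_mem (t10_mem_JP h) hk'

theorem t5_mem_A (h : PRel t) : t 5 ∈ A t := by rw [A_eq]; exact t5_mem h.f1a

/-- the centraliser of `f1` in `H` is the subgroup of `Y333` -/
theorem cent_f1 (hB : BFacts) (h : PRel t) (hM : MFacts (fun i => π (t i)) x₀) {k : Γ}
    (hk : k ∈ A t) (hkc : k * t 5 = t 5 * k) : k ∈ JP t := by
  have hfin := hB.fin
  let w5 : Spor.BabyMonster := psi hB h hM ⟨t 5, t5_mem_A h⟩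
  let C : Subgroup Spor.BabyMonster := Subgroup.centralizer {w5}
  -- elements of `H` which commute with `f1` up to `f2`
  have hcen : ∀ a : A t, (a : Γ) * t 5 * (a : Γ)⁻¹ = t 5 ∨ (a : Γ) * t 5 * (a : Γ)⁻¹ = t 5 * t 10 →
      psi hB h hM a ∈ C := by
    intro a ha
    have h1 : psi hB h hM a * w5 * (psi hB h hM a)⁻¹ = w5 := by
      show psi hB h hM a * psi hB h hM ⟨t 5, t5_mem_A h⟩ * (psi hB h hM a)⁻¹ =
        psi hB h hM ⟨t 5, t5_mem_A h⟩
      rw [← map_mul, ← map_inv, ← map_mul]
      rcases ha with ha | ha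
      · congr 1
        exact Subtype.ext ha
      · have : a * ⟨t 5, t5_mem_A h⟩ * a⁻¹ = (⟨t 5, t5_mem_A h⟩ : A t) * cA h := Subtype.ext ha
        rw [this, map_mul, psi_c, mul_one]
    rw [Subgroup.mem_centralizer_singleton_iff]
    rw [mul_inv_eq_iff_eq_mul] at h1
    exact h1
  -- the index of the centraliser
  have hidx : C.index = (Subgroup.centralizer
      {(PresentedGroup.of BabyMonster.Gen.t1 : Spor.BabyMonster)}).index := by
    have hb : t 4 * t 5 * t 4 = t 5 * t 4 * t 5 :=
      h.cox.br 4 (by norm_num) 5 (by norm_num) (by decide)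
    let e : A t := gx mA t .t1 * ⟨t 5, t5_mem_A h⟩
    have he : e * gx mA t .t1 * e⁻¹ = ⟨t 5, t5_mem_A h⟩ := by
      apply Subtype.ext
      show t 4 * t 5 * t 4 * (t 4 * t 5)⁻¹ = t 5
      rw [hb]; group
    have hw : psi hB h hM e * PresentedGroup.of BabyMonster.Gen.t1 * (psi hB h hM e)⁻¹ = w5 := by
      have h1 := congrArg (psi hB h hM) he
      rw [map_mul, map_mul, map_inv, psi_gx hB h hM .t1] at h1
      exact h1
    have hC : C = (Subgroup.centralizer
        {(PresentedGroup.of BabyMonster.Gen.t1 : Spor.BabyMonster)}).map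
          (MulAut.conj (psi hB h hM e)).toMonoidHom := by
      ext g
      constructor
      · intro hg
        have hg1 := Subgroup.mem_centralizer_singleton_iff.1 hg
        refine ⟨(psi hB h hM e)⁻¹ * g * psi hB h hM e, ?_, ?_⟩
        · refine Subgroup.mem_centralizer_singleton_iff.2 ?_
          rw [← hw] at hg1
          have h2 := congrArg (fun y => (psi hB h hM e)⁻¹ * y * psi hB h hM e) hg1
          calc (psi hB h hM e)⁻¹ * g * psi hB h hM e * PresentedGroup.of BabyMonster.Gen.t1
              = (psi hB h hM e)⁻¹ * (g * (psi hB h hM e * PresentedGroup.of BabyMonster.Gen.t1 *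
                  (psi hB h hM e)⁻¹)) * psi hB h hM e := by group
            _ = (psi hB h hM e)⁻¹ * ((psi hB h hM e * PresentedGroup.of BabyMonster.Gen.t1 *
                  (psi hB h hM e)⁻¹) * g) * psi hB h hM e := h2
            _ = _ := by group
        · show psi hB h hM e * ((psi hB h hM e)⁻¹ * g * psi hB h hM e) * (psi hB h hM e)⁻¹ = g
          group
      · rintro ⟨k, hk, rfl⟩
        have hk1 := Subgroup.mem_centralizer_singleton_iff.1 hk
        refine Subgroup.mem_centralizer_singleton_iff.2 ?_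
        show psi hB h hM e * k * (psi hB h hM e)⁻¹ * w5 = w5 * (psi hB h hM e * k * (psi hB h hM e)⁻¹)
        rw [← hw]
        calc psi hB h hM e * k * (psi hB h hM e)⁻¹ *
              (psi hB h hM e * PresentedGroup.of BabyMonster.Gen.t1 * (psi hB h hM e)⁻¹)
            = psi hB h hM e * (k * PresentedGroup.of BabyMonster.Gen.t1) * (psi hB h hM e)⁻¹ := by
              group
          _ = psi hB h hM e * (PresentedGroup.of BabyMonster.Gen.t1 * k) * (psi hB h hM e)⁻¹ := by
              rw [hk1]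
          _ = _ := by group
    rw [hC]
    exact Subgroup.index_map_equiv _ (MulAut.conj (psi hB h hM e))
  have hKC : KB ≤ C := by
    refine (Subgroup.closure_le _).2 ?_
    rintro _ ⟨b, hb, rfl⟩
    rw [← psi_gx hB h hM b]
    apply hcen
    left
    have h1 : t (mA b) * t 5 = t 5 * t (mA b) := by
      apply JP_comm h
      apply mem_JP
      cases b
      · exact absurd rfl hb
      all_goals decide
    rw [gx_coe, h1, mul_inv_cancel_right]
  have hrel : KB.relIndex C ≤ 2 := by
    have h1 := Subgroup.relIndex_mul_index hKC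
    have h2 := hB.idx
    have h3 : 13571955000 ≤ C.index := by rw [hidx]; exact hB.cls
    by_contra h4
    rw [not_le] at h4
    have h5 : 3 * 13571955000 ≤ KB.relIndex C * C.index := Nat.mul_le_mul h4 h3
    omega
  by_contra hkJ
  have hkC : psi hB h hM ⟨k, hk⟩ ∈ C := hcen _ (Or.inl (by
    show k * t 5 * k⁻¹ = t 5
    rw [hkc, mul_inv_cancel_right]))
  have hkK : psi hB h hM ⟨k, hk⟩ ∉ KB := fun hh => hkJ (mem_JP_of_psi hB h hM hh)
  -- the element exchanging `f1` and `f1 f2`
  obtain ⟨g, hg, hg5⟩ := hM.conj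
  obtain ⟨s, hs, rfl⟩ := onto hB h hM g hg
  rw [← A_eq] at hs
  have h10 : t 10 ∈ A t := mem_A_ten h
  have hs5 : s * t 5 * s⁻¹ = t 5 * t 10 := by
    have h1 : s * t 5 * s⁻¹ * (t 5 * t 10)⁻¹ = 1 := by
      apply inj hB h hM
      · exact mul_mem (mul_mem (mul_mem hs (t5_mem_A h)) (inv_mem hs))
          (inv_mem (mul_mem (t5_mem_A h) h10))
      · simp only [map_mul, map_inv] at hg5 ⊢
        rw [hg5]; group
    exact mul_inv_eq_one.1 h1
  have hsC : psi hB h hM ⟨s, hs⟩ ∈ C := hcen _ (Or.inr hs5)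
  have ht10 : t 10 ≠ 1 := by
    intro h1
    exact hM.ne_one (by show π (t 10) = 1; rw [h1, map_one])
  have hnot : ∀ a ∈ JP t, ∀ b : Γ, b * t 5 = t 5 * b → s ≠ b * a := by
    intro a ha b hb hsab
    have h1 := JP_comm h a ha
    rw [hsab] at hs5
    have h2 : b * a * t 5 * (b * a)⁻¹ = t 5 := by
      rw [mul_assoc b a, h1, ← mul_assoc b, hb, mul_assoc (t 5), mul_inv_cancel_right]
    rw [h2] at hs5
    exact ht10 (by simpa using hs5.symm)
  have hsK : psi hB h hM ⟨s, hs⟩ ∉ KB := fun hh =>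
    hnot s (mem_JP_of_psi hB h hM hh) 1 (by rw [one_mul, mul_one]) (by rw [one_mul])
  -- index two
  have h2 : (KB.subgroupOf C).index = 2 := by
    have h3 : (KB.subgroupOf C).index ≤ 2 := hrel
    have h4 : (KB.subgroupOf C).index ≠ 0 := Subgroup.index_ne_zero_of_finite
    have h5 : (KB.subgroupOf C).index ≠ 1 := by
      intro h6
      rw [Subgroup.index_eq_one] at h6
      have : (⟨_, hkC⟩ : C) ∈ KB.subgroupOf C := by rw [h6]; trivial
      exact hkK this
    omega
  have h3 := (Subgroup.mul_mem_iff_of_index_two h2 (a := (⟨_, hkC⟩ : C)⁻¹)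
    (b := (⟨_, hsC⟩ : C))).2 (by
      constructor
      · intro hh
        exact absurd ((KB.subgroupOf C).inv_mem_iff.1 hh) hkK
      · intro hh
        exact absurd hh hsK)
  have h4 : psi hB h hM (⟨k, hk⟩⁻¹ * ⟨s, hs⟩) ∈ KB := by
    rw [map_mul, map_inv]; exact h3
  have h5 : k⁻¹ * s ∈ JP t := mem_JP_of_psi hB h hM h4
  exact hnot _ h5 k hkc (by group)

/-- **The covering data** -/
theorem covData (hB : BFacts) (h : PRel t) (hM : MFacts (fun i => π (t i)) x₀)
    (hsurj : Function.Surjective π) : CovData π (HP t) (ev t nhW) x₀ where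
  surj := hsurj
  inj g hg := inj hB h hM g (by rw [A_eq]; exact hg)
  fix := fix hM
  onto := onto hB h hM
  sq := nh_sq h.cox
  edge := by
    intro k hk hk2
    have hn := nh_sq h.cox
    have hn' : (ev t nhW)⁻¹ = ev t nhW := inv_eq_of_mul_eq_one_left hn
    have hk' : k ∈ A t := by rw [A_eq]; exact hk
    -- `k` commutes with `t 5`
    have h10 : ev t nhW * t 10 * ev t nhW = t 5 :=
      nh_conj h.cox h.f1a h.f2a (i := 10) (by norm_num)
    have h1 : (π (ev t nhW))⁻¹ * π k * π (ev t nhW) * π (t 10) =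
        π (t 10) * ((π (ev t nhW))⁻¹ * π k * π (ev t nhW)) := by
      apply hM.cent
      rw [mul_smul, mul_smul, hk2, inv_smul_smul]
    have h2 : π (k * t 5) = π (t 5 * k) := by
      rw [← map_inv, hn', ← map_mul, ← map_mul, ← map_mul, ← map_mul] at h1
      have h3 := congrArg (fun y => π (ev t nhW) * y * π (ev t nhW)) h1
      simp only [← map_mul] at h3
      have e1 : ev t nhW * (ev t nhW * k * ev t nhW * t 10) * ev t nhW = k * t 5 := by
        rw [← h10]
        calc ev t nhW * (ev t nhW * k * ev t nhW * t 10) * ev t nhW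
            = (ev t nhW * ev t nhW) * k * (ev t nhW * t 10 * ev t nhW) := by
              simp only [mul_assoc]
          _ = _ := by rw [hn, one_mul]
      have e2 : ev t nhW * (t 10 * (ev t nhW * k * ev t nhW)) * ev t nhW = t 5 * k := by
        rw [← h10]
        calc ev t nhW * (t 10 * (ev t nhW * k * ev t nhW)) * ev t nhW
            = (ev t nhW * t 10 * ev t nhW) * k * (ev t nhW * ev t nhW) := by
              simp only [mul_assoc]
          _ = _ := by rw [hn, mul_one]
      rw [e1, e2] at h3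
      exact h3
    have h3 : k * t 5 = t 5 * k := by
      have h4 : k * t 5 * (t 5 * k)⁻¹ = 1 := by
        apply inj hB h hM
        · exact mul_mem (mul_mem hk' (t5_mem_A h)) (inv_mem (mul_mem (t5_mem_A h) hk'))
        · rw [map_mul, map_inv, h2, mul_inv_cancel]
      exact mul_inv_eq_one.1 h4
    have h4 : k ∈ JP t := cent_f1 hB h hM hk' h3
    -- conjugation by `n` preserves `JP`
    have h5 : JP t ≤ (HP t).comap (MulAut.conj (ev t nhW)).toMonoidHom := by
      refine (Subgroup.closure_le _).2 ?_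
      rintro _ ⟨i, hi, rfl⟩
      have key : ∀ i ∈ jNodes, i < 14 ∧ mir i ∈ hNodes := by decide
      show ev t nhW * t i * (ev t nhW)⁻¹ ∈ HP t
      rw [hn', nh_conj h.cox h.f1a h.f2a (key i hi).1]
      exact mem_HP (key i hi).2
    have h6 : ev t nhW * k * (ev t nhW)⁻¹ ∈ HP t := h5 h4
    rw [hn'] at h6 ⊢
    exact h6

end

end Cfsg.Agent.MonsterP.CovP
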