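import Cfsg.Agent.BM.KHAll
import Cfsg.Agent.MonsterP.CovP

/-!
# The facts on the presented Baby Monster used by the covering argument (`CovP.BFacts`)
-/

set_option autoImplicit false

namespace Cfsg.Agent.MonsterP.BFactsInst

open Cfsg.Spor Cfsg.Agent.BM.FactsB Cfsg.Agent.BM.StageBFinalOf Cfsg.Agent.BM

theorem KB_eq : CovP.KB = HB gB := by
  apply le_antisymm
  · refine (Subgroup.closure_le _).2 ?_
    rintro _ ⟨a, ha, rfl⟩
    exact mem_HB gB ha
  · refine (Subgroup.closure_le _).2 ?_
    rintro _ ⟨a, ha, rfl⟩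
    exact Subgroup.subset_closure ⟨a, ha, rfl⟩

/-- **The facts on the presented Baby Monster.** -/
theorem bFacts : CovP.BFacts where
  simple := KHAll.isB.1
  fin := KH.finite_B
  idx := by rw [KB_eq, KHAll.index_H]
  cls := le_of_eq (KHAll.index_cent .t1).symm

end Cfsg.Agent.MonsterP.BFactsInst
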