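import Cfsg.Agent.MonsterP.SChar

/-!
# Moving the base pair

The group `K` is transitive on the adjacent pairs of short elements, hence a homomorphism to `G` with a given base
pair can be composed with a conjugation such that the base pair is the standard one.
-/

set_option autoImplicit false

namespace Cfsg.Agent.MonsterP.BaseConj

open Cfsg Cfsg.Agent.MonsterX.KSide Cfsg.Agent.MonsterX.KLift Cfsg.Agent.MonsterP.SChar

variable {G V P W : Type*} [Group G] [AddCommGroup V] [Module ℚ V]
  [DistribMulAction G V] [SMulCommClass G ℚ V] [Group P] [AddCommGroup W] [Module ℚ W]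
  {M : KS G V P W} {θ : leechLattice → P}

/-- Conjugation in `K` of an adjacent pair to another one. -/
theorem exists_conj (L : Lift M θ) {o o' x y : P} (ho : o ∈ M.Sh) (ho' : o' ∈ M.Sh) (hx : x ∈ M.Sh)
    (hy : y ∈ M.Sh) (had : Ad M o o') (had' : Ad M x y) :
    ∃ g ∈ M.K, g * M.ι o * g⁻¹ = M.ι x ∧ g * M.ι o' * g⁻¹ = M.ι y ∧
      g * M.ι (M.zc * (o * o')) * g⁻¹ = M.ι (M.zc * (x * y)) := by
  obtain ⟨k, α, ⟨hk, A, T, hA⟩, h1, h2⟩ := trans_pair L ho ho' hx hy had had'
  refine ⟨k, hk, ?_, ?_, ?_⟩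
  · rw [conj_ι hA, mul_inv_cancel_right, h1]
  · rw [conj_ι hA, mul_inv_cancel_right, h2]
  · rw [conj_ι hA, mul_inv_cancel_right, map_mul α, map_mul α, h1, h2, α_zc L]

/-- The homomorphism followed by the conjugation with `g`. -/
def conjHom {Γ : Type*} [Group Γ] (π : Γ →* G) (g : G) : Γ →* G := (MulAut.conj g).toMonoidHom.comp π

theorem conjHom_apply {Γ : Type*} [Group Γ] (π : Γ →* G) (g : G) (x : Γ) : conjHom π g x = g * π x * g⁻¹ := rfl

theorem surjective_conjHom {Γ : Type*} [Group Γ] {π : Γ →* G} (g : G) :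
    Function.Surjective (conjHom π g) ↔ Function.Surjective π := by
  constructor
  · intro h y
    obtain ⟨x, hx⟩ := h (g * y * g⁻¹)
    rw [conjHom_apply] at hx
    exact ⟨x, mul_left_cancel (mul_right_cancel hx)⟩
  · intro h y
    obtain ⟨x, hx⟩ := h (g⁻¹ * y * g)
    refine ⟨x, ?_⟩
    rw [conjHom_apply, hx]
    group

theorem bijective_conjHom {Γ : Type*} [Group Γ] {π : Γ →* G} (g : G) :
    Function.Bijective (conjHom π g) ↔ Function.Bijective π := by
  unfold conjHom
  rw [MonoidHom.coe_comp]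
  exact (MulAut.conj g).bijective.of_comp_iff' π

end Cfsg.Agent.MonsterP.BaseConj
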