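import Cfsg.Agent.MonsterP.H1Abs

/-!
# The base nodes from the axes; conjugation of the nodes

If the involutions of the nodes are `y i = h i * ι x₀ * (h i)⁻¹`, then `y 10 = ι o`, `y 5 = ι o'`,
`y 0 = ι (z o o')` follow from the images of the base axis.  `PRel`, `ZRel` and generation are preserved by
conjugation.
-/

set_option autoImplicit false

namespace Cfsg.Agent.MonsterP.BaseOf

open Cfsg Cfsg.Agent.LeechMat.Core Cfsg.Agent.MonsterX.KSide Cfsg.Agent.MonsterX.KLift
  Cfsg.Agent.MonsterX.KModel Cfsg.Agent.MonsterX.Model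
  Cfsg.Agent.Bimonster Cfsg.Agent.Bimonster.Tits Cfsg.Agent.MonsterP.SChar Cfsg.Agent.MonsterP.H1Abs

section conj

variable {G : Type*} [Group G]

theorem zrel_map {H : Type*} [Group H] (f : G →* H) {t : ℕ → G} (h : ZRel t) : ZRel fun i => f (t i) where
  cube := by rw [← map_ev, ← map_pow, h.cube, map_one]
  inv i hi := by rw [← map_ev, ← map_mul, ← map_mul, h.inv i hi, map_inv]
  ord := by rw [← map_ev, ← map_mul, ← map_pow, h.ord, map_one]

theorem prel_conj (g : G) {t : ℕ → G} (h : PRel t) : PRel fun i => g * t i * g⁻¹ :=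
  h.map (MulAut.conj g).toMonoidHom

theorem zrel_conj (g : G) {t : ℕ → G} (h : ZRel t) : ZRel fun i => g * t i * g⁻¹ :=
  zrel_map (MulAut.conj g).toMonoidHom h

theorem gen_conj (g : G) {n : ℕ} {t : ℕ → G} (h : Subgroup.closure (nodes n t) = ⊤) :
    Subgroup.closure (nodes n fun i => g * t i * g⁻¹) = ⊤ := by
  have h1 : nodes n (fun i => g * t i * g⁻¹) = (MulAut.conj g).toMonoidHom '' nodes n t := by
    ext x
    constructor
    · rintro ⟨i, hi, rfl⟩
      exact ⟨t i, ⟨i, hi, rfl⟩, rfl⟩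
    · rintro ⟨_, ⟨i, hi, rfl⟩, rfl⟩
      exact ⟨i, hi, rfl⟩
  rw [h1, ← MonoidHom.map_closure, h]
  exact Subgroup.map_top_of_surjective _ (MulAut.conj g).surjective

end conj

variable {V P W : Type} [AddCommGroup V] [Module ℚ V] [Group P] [AddCommGroup W] [Module ℚ W]
variable {D : MData V} {M : KS ↥D.G V P W} {x₀ : P} {θ : leechLattice → P} {K₀ : Type} [Group K₀]

/-- The base nodes from the images of the base axis. -/
theorem base (hM : Model D M x₀ θ K₀) {o o' : P} (ho : o ∈ M.Sh) (ho' : o' ∈ M.Sh) (had : Ad M o o')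
    {y h : ℕ → D.G} (h10 : y 10 = h 10 * M.ι x₀ * (h 10)⁻¹) (h5 : y 5 = h 5 * M.ι x₀ * (h 5)⁻¹)
    (h0 : y 0 = h 0 * M.ι x₀ * (h 0)⁻¹) (e10 : h 10 • M.a x₀ = M.a o) (e5 : h 5 • M.a x₀ = M.a o')
    (e0 : h 0 • M.a x₀ = M.a (M.zc * (o * o'))) : Base M o o' y where
  mem := ho
  mem' := ho'
  ad := had
  e10 := by
    rw [h10]
    exact AxisInj.conj_eq_ι hM.link hM.lift hM.group hM.rep hM.lat hM.orbit hM.trans ho e10
  e5 := by
    rw [h5]
    exact AxisInj.conj_eq_ι hM.link hM.lift hM.group hM.rep hM.lat hM.orbit hM.trans ho' e5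
  e0 := by
    rw [h0]
    exact AxisInj.conj_eq_ι hM.link hM.lift hM.group hM.rep hM.lat hM.orbit hM.trans
      (M.Sh_z _ (mul_mem hM.lift ho ho' had)) e0

end Cfsg.Agent.MonsterP.BaseOf
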