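import Cfsg.Agent.MonsterU.GlueP
import Cfsg.Agent.MonsterP.Cover

/-!
# The bottom of the Morse argument is given by the subgroup `H` (helper227)

`π : Γ →* G`, `H ≤ Γ` is mapped isomorphically onto the stabiliser of `x₀ : X` (`CovData` of `Cover.lean`),
`α : K →* Γ`, `β : N →* Γ` the homomorphisms of the amalgam (`U4`).  The points `g K` of `G ⧸ K` with
`g • x₀ = x₀` carry a sheet (`g K ↦ (g, h)`, `h ∈ H` over `g`), so the Morse argument of ONE level gives a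
homomorphism `φ : G →* Γ` which extends `α`, `β` and maps the stabiliser of `x₀` into `H`; it is onto.
-/

set_option autoImplicit false

namespace Cfsg.Agent.MonsterP.Bottom

open Cfsg.Agent.MonsterU Cfsg.Agent.MonsterU.Morse Cfsg.Agent.MonsterU.GlueP
open Cfsg.Agent.MonsterU.Glue (gr proj mk_eq_mk mem_gr mk_mem_gr mk_mul_gr proj_mk)

section Keep

variable {P P' : Type*} {A : P → P → Prop} {A' : P' → P' → Prop} {T : P → P → P → Prop} {π : P' → P}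

/-- One step of the Morse argument, which keeps the sheet below. -/
theorem step_keep (hc : Cover A A' T π) {E : Set P} {ht : P → ℕ} (hm : MorseHyp A T E ht) (n : ℕ)
    (s : P → P') (hs : Sheet A A' π {x | x ∈ E ∧ ht x ≤ n} s) :
    ∃ s' : P → P', Sheet A A' π {x | x ∈ E ∧ ht x ≤ n + 1} s' ∧ ∀ x, ht x ≤ n → s' x = s x := by
  classical
  have key : ∀ x, ∃ x', x ∈ E → ht x = n + 1 → π x' = x ∧ ∀ q ∈ Low A E ht x, A' (s q) x' := by
    intro x
    by_cases hx : x ∈ E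
    swap
    · exact ⟨s x, fun h => absurd h hx⟩
    by_cases hxn : ht x = n + 1
    swap
    · exact ⟨s x, fun _ h => absurd h hxn⟩
    have hpos : 0 < ht x := by omega
    obtain ⟨q₀, hq₀⟩ := hm.m1 x hx hpos
    have hmem : ∀ q ∈ Low A E ht x, q ∈ {x | x ∈ E ∧ ht x ≤ n} := by
      intro q hq
      have := hq.2.2
      exact ⟨hq.1, by omega⟩
    have hq₀s : π (s q₀) = q₀ := hs.sec q₀ (hmem q₀ hq₀)
    obtain ⟨x', hx', hax⟩ := hc.lift (s q₀) x (by rw [hq₀s]; exact hc.symm hq₀.2.1)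
    refine ⟨x', fun _ _ => ⟨hx', ?_⟩⟩
    intro q hq
    have hchain := hm.m2 x hx hpos q₀ hq₀ q hq
    induction hchain with
    | refl => exact hax
    | @tail b c hab hbc ih =>
      obtain ⟨hb, hc', ht'⟩ := hbc
      have hb' := ih hb
      have hbs : π (s b) = b := hs.sec b (hmem b hb)
      have hcs : π (s c) = c := hs.sec c (hmem c hc')
      have hbc' : A' (s b) (s c) :=
        hs.adj b (hmem b hb) c (hmem c hc') (hc.adj (hc.rot ht'))
      have htri : T (π (s b)) (π (s c)) (π x') := by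
        rw [hbs, hcs, hx']
        exact hc.rot ht'
      exact hc.tri _ _ _ htri hbc' hb'
  choose f hf using key
  refine ⟨fun x => if ht x ≤ n then s x else f x, ⟨?_, ?_⟩, ?_⟩
  · intro x hx
    by_cases h : ht x ≤ n
    · simp only [h, if_true]; exact hs.sec x ⟨hx.1, h⟩
    · simp only [h, if_false]
      have : ht x = n + 1 := by have := hx.2; omega
      exact (hf x hx.1 this).1
  · intro x hx y hy hxy
    by_cases h : ht x ≤ n
    · by_cases h' : ht y ≤ n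
      · simp only [h, h', if_true]; exact hs.adj x ⟨hx.1, h⟩ y ⟨hy.1, h'⟩ hxy
      · simp only [h, h', if_true, if_false]
        have hyn : ht y = n + 1 := by have := hy.2; omega
        exact (hf y hy.1 hyn).2 x ⟨hx.1, hc.symm hxy, by omega⟩
    · have hxn : ht x = n + 1 := by have := hx.2; omega
      by_cases h' : ht y ≤ n
      · simp only [h, h', if_true, if_false]
        exact hc.symm' ((hf x hx.1 hxn).2 y ⟨hy.1, hxy, by omega⟩)
      · simp only [h, h', if_false]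
        have hyn : ht y = n + 1 := by have := hy.2; omega
        obtain ⟨q, hq, ht'⟩ := hm.m3 x hx.1 y hy.1 hxy (by omega) (by omega)
        have h1 : A' (s q) (f x) := (hf x hx.1 hxn).2 q hq
        have hyq : A y q := by
          have := hc.rot ht'
          exact hc.adj this
        have hqy : q ∈ Low A E ht y := ⟨hq.1, hyq, by have := hq.2.2; omega⟩
        have h2 : A' (s q) (f y) := (hf y hy.1 hyn).2 q hqy
        have hqs : π (s q) = q := hs.sec q ⟨hq.1, by have := hq.2.2; omega⟩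
        have htri : T (π (s q)) (π (f x)) (π (f y)) := by
          rw [hqs, (hf x hx.1 hxn).1, (hf y hy.1 hyn).1]
          exact hc.rot (hc.rot ht')
        exact hc.tri _ _ _ htri h1 h2
  · intro x h
    simp only [h, if_true]

/-- **The Morse argument**, which keeps the sheet on the bottom. -/
theorem extend_keep (hc : Cover A A' T π) {E : Set P} {ht : P → ℕ} (hm : MorseHyp A T E ht)
    (hb : ∃ N, ∀ x ∈ E, ht x ≤ N) {s : P → P'} (hs : Sheet A A' π {x | x ∈ E ∧ ht x = 0} s) :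
    ∃ s' : P → P', Sheet A A' π E s' ∧ ∀ x, ht x = 0 → s' x = s x := by
  have key : ∀ n : ℕ, ∃ s' : P → P', Sheet A A' π {x | x ∈ E ∧ ht x ≤ n} s' ∧
      ∀ x, ht x = 0 → s' x = s x := by
    intro n
    induction n with
    | zero =>
      refine ⟨s, hs.mono ?_, fun _ _ => rfl⟩
      rintro x ⟨hx, hx'⟩
      exact ⟨hx, by omega⟩
    | succ n ih =>
      obtain ⟨s', hs', h0⟩ := ih
      obtain ⟨s'', hs'', h1⟩ := step_keep hc hm n s' hs'
      exact ⟨s'', hs'', fun x hx => by rw [h1 x (by omega), h0 x hx]⟩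
  obtain ⟨N, hN⟩ := hb
  obtain ⟨s', hs', h0⟩ := key N
  exact ⟨s', hs'.mono fun x hx => ⟨hx, hN x hx⟩, h0⟩

end Keep

variable {Γ G X : Type*} [Group Γ] [Group G] [MulAction G X]

/-- The points `g K` with `g • x₀ = x₀`. -/
def Bot (K : Subgroup G) (x₀ : X) : Set (G ⧸ K) := {x | ∃ g : G, g • x₀ = x₀ ∧ x = (g : G ⧸ K)}

/-- The inputs of the final step. -/
structure Inputs (π : Γ →* G) (H : Subgroup Γ) (n : Γ) (x₀ : X) (K N : Subgroup G) (α : K →* Γ)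
    (β : N →* Γ) : Prop where
  cov : CovData π H n x₀
  /-- `Γ` is generated by `H` and `n` -/
  gen : Subgroup.closure ((H : Set Γ) ∪ {n}) = ⊤
  /-- `G` is generated by `K` and `N` -/
  genG : Subgroup.closure ((K : Set G) ∪ N) = ⊤
  πα : ∀ x (h : x ∈ K), π (α ⟨x, h⟩) = x
  πβ : ∀ x (h : x ∈ N), π (β ⟨x, h⟩) = x
  αH : ∀ x (h : x ∈ K), x • x₀ = x₀ → α ⟨x, h⟩ ∈ H
  βH : ∀ x (h : x ∈ N), x • x₀ = x₀ → β ⟨x, h⟩ ∈ H
  /-- the edge `(H, n H)` lies in the sheet of `K` -/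
  edgeK : ∃ k, ∃ h : k ∈ K, (α ⟨k, h⟩)⁻¹ * n ∈ H
  /-- the stabiliser of `x₀` in `K` is transitive on the lines joining `K` to a point of `Bot` -/
  trans : ∀ g : G, g • x₀ = x₀ → Glue.Adj K N ((1 : G) : G ⧸ K) (g : G ⧸ K) →
    ∃ c ∈ K, c • x₀ = x₀ ∧ ∃ m ∈ N, m • x₀ = x₀ ∧ (g : G ⧸ K) = ((c * m : G) : G ⧸ K)

namespace Inputs

variable {π : Γ →* G} {H : Subgroup Γ} {n : Γ} {x₀ : X} {K N : Subgroup G} {α : K →* Γ} {β : N →* Γ}

/-- elements of `H` with the same image are equal -/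
theorem eqH (I : Inputs π H n x₀ K N α β) {a b : Γ} (ha : a ∈ H) (hb : b ∈ H) (h : π a = π b) :
    a = b := by
  have h1 : π (a⁻¹ * b) = 1 := by rw [map_mul, map_inv, h, inv_mul_cancel]
  exact inv_mul_eq_one.1 (I.cov.inj _ (H.mul_mem (H.inv_mem ha) hb) h1)

/-- **The sheet on the bottom.** -/
theorem exists_bottom (I : Inputs π H n x₀ K N α β) :
    ∃ s : G ⧸ K → (G × Γ) ⧸ gr K α,
      Sheet (Glue.Adj K N) (Glue.Adj' K N α β) (proj K α) (Bot K x₀) s ∧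
      ∀ (g : G) (h : Γ), g • x₀ = x₀ → h ∈ H → π h = g →
        s (g : G ⧸ K) = (((g, h) : G × Γ) : (G × Γ) ⧸ gr K α) := by
  classical
  have hex : ∀ x : G ⧸ K, ∃ p : G × Γ, x ∈ Bot K x₀ →
      p.1 • x₀ = x₀ ∧ p.2 ∈ H ∧ π p.2 = p.1 ∧ x = (p.1 : G ⧸ K) := by
    intro x
    by_cases hx : x ∈ Bot K x₀
    · obtain ⟨g, hg, rfl⟩ := hx
      obtain ⟨h, hh, hh'⟩ := I.cov.onto g hg
      exact ⟨(g, h), fun _ => ⟨hg, hh, hh', rfl⟩⟩
    · exact ⟨1, fun h => absurd h hx⟩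
  choose f hf using hex
  have hval : ∀ (g : G) (h : Γ), g • x₀ = x₀ → h ∈ H → π h = g →
      ((f (g : G ⧸ K) : G × Γ) : (G × Γ) ⧸ gr K α) = (((g, h) : G × Γ) : (G × Γ) ⧸ gr K α) := by
    intro g h hg hh hπ
    obtain ⟨h1, h2, h3, h4⟩ := hf (g : G ⧸ K) ⟨g, hg, rfl⟩
    rw [mk_eq_mk, mem_gr]
    rw [eq_comm, QuotientGroup.eq] at h4
    refine ⟨h4, ?_⟩
    have hk : ((f (g : G ⧸ K)).1⁻¹ * g) • x₀ = x₀ := by
      rw [mul_smul, hg, inv_smul_eq_iff]; exact h1.symm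
    refine I.eqH (I.αH _ h4 hk) (H.mul_mem (H.inv_mem h2) hh) ?_
    rw [I.πα]
    show _ = π ((f (g : G ⧸ K)).2⁻¹ * h)
    rw [map_mul, map_inv, h3, hπ]
    rfl
  refine ⟨fun x => ((f x : G × Γ) : (G × Γ) ⧸ gr K α), ⟨?_, ?_⟩, hval⟩
  · intro x hx
    obtain ⟨-, -, -, h4⟩ := hf x hx
    rw [proj_mk]
    exact h4.symm
  · rintro x ⟨g, hg, rfl⟩ y ⟨g', hg', rfl⟩ hxy
    obtain ⟨h, hh, hπ⟩ := I.cov.onto g hg
    -- translate to the base point
    have hadj : Glue.Adj K N ((1 : G) : G ⧸ K) ((g⁻¹ * g' : G) : G ⧸ K) := by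
      obtain ⟨a, m, hm, h1, h2⟩ := hxy
      refine ⟨g⁻¹ * a, m, hm, ?_, ?_⟩
      · rw [QuotientGroup.eq] at h1 ⊢
        simpa using h1
      · rw [QuotientGroup.eq] at h2 ⊢
        have e : (g⁻¹ * g')⁻¹ * (g⁻¹ * a * m) = g'⁻¹ * (a * m) := by group
        rw [e]; exact h2
    have hfix : (g⁻¹ * g') • x₀ = x₀ := by rw [mul_smul, hg', inv_smul_eq_iff]; exact hg.symm
    obtain ⟨c, hc, hcx, m, hm, hmx, hcm⟩ := I.trans _ hfix hadj
    have hy : (g' : G ⧸ K) = ((g * c * m : G) : G ⧸ K) := by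
      rw [QuotientGroup.eq] at hcm ⊢
      have e : g'⁻¹ * (g * c * m) = (g⁻¹ * g')⁻¹ * (c * m) := by group
      rw [e]; exact hcm
    have hαc := I.αH c hc hcx
    have hβm := I.βH m hm hmx
    have e1 := hval g h hg hh hπ
    have e2 := hval (g * c * m) (h * α ⟨c, hc⟩ * β ⟨m, hm⟩)
      (by rw [mul_smul, hmx, mul_smul, hcx, hg]) (H.mul_mem (H.mul_mem hh hαc) hβm)
      (by rw [map_mul, map_mul, hπ, I.πα, I.πβ])
    show Glue.Adj' K N α β ((f (g : G ⧸ K) : G × Γ) : (G × Γ) ⧸ gr K α)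
      ((f (g' : G ⧸ K) : G × Γ) : (G × Γ) ⧸ gr K α)
    rw [hy, e1, e2]
    refine ⟨(g, h) * (c, α ⟨c, hc⟩), (m, β ⟨m, hm⟩), mk_mem_gr hm, ?_, rfl⟩
    exact (mk_mul_gr _ _ (mk_mem_gr hc)).symm

/-- A global sheet through `(1, 1)` is the graph of the homomorphism. -/
theorem sheet_eq {T : G ⧸ K → G ⧸ K → G ⧸ K → Prop}
    (hc : Cover (Glue.Adj K N) (Glue.Adj' K N α β) T (proj K α))
    (hgen : Subgroup.closure ((K : Set G) ∪ N) = ⊤) {s : G ⧸ K → (G × Γ) ⧸ gr K α}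
    (hs : Sheet (Glue.Adj K N) (Glue.Adj' K N α β) (proj K α) Set.univ s)
    (h1 : s ((1 : G) : G ⧸ K) = (((1, 1) : G × Γ) : (G × Γ) ⧸ gr K α))
    {φ : G →* Γ} (hα : ∀ x (h : x ∈ K), φ x = α ⟨x, h⟩) (hβ : ∀ x (h : x ∈ N), φ x = β ⟨x, h⟩)
    (g : G) : s (g : G ⧸ K) = (((g, φ g) : G × Γ) : (G × Γ) ⧸ gr K α) := by
  have hN : ∀ (g m : G), m ∈ N → s (g : G ⧸ K) = (((g, φ g) : G × Γ) : (G × Γ) ⧸ gr K α) →
      s ((g * m : G) : G ⧸ K) = (((g * m, φ (g * m)) : G × Γ) : (G × Γ) ⧸ gr K α) := by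
    intro g m hm hg
    have h2 : Glue.Adj K N (g : G ⧸ K) ((g * m : G) : G ⧸ K) := ⟨g, m, hm, rfl, rfl⟩
    have h3 := hs.adj _ (Set.mem_univ _) _ (Set.mem_univ _) h2
    rw [hg] at h3
    refine hc.uniq _ _ _ h3 ⟨(g, φ g), (m, β ⟨m, hm⟩), mk_mem_gr hm, rfl, ?_⟩ ?_
    · rw [map_mul, hβ m hm]
      rfl
    · rw [hs.sec _ (Set.mem_univ _), proj_mk]
  have hK : ∀ (g k : G), k ∈ K → s (g : G ⧸ K) = (((g, φ g) : G × Γ) : (G × Γ) ⧸ gr K α) →
      s ((g * k : G) : G ⧸ K) = (((g * k, φ (g * k)) : G × Γ) : (G × Γ) ⧸ gr K α) := by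
    intro g k hk hg
    have h2 : ((g * k : G) : G ⧸ K) = (g : G ⧸ K) := by
      rw [eq_comm, QuotientGroup.eq, inv_mul_cancel_left]; exact hk
    rw [h2, hg, map_mul, hα k hk]
    exact (mk_mul_gr (g, φ g) (k, α ⟨k, hk⟩) (mk_mem_gr hk)).symm
  have hg : g ∈ Subgroup.closure ((K : Set G) ∪ N) := by rw [hgen]; trivial
  induction hg using Subgroup.closure_induction_right with
  | one => rw [h1, map_one]
  | mul_right x _ y hy ih =>
    rcases hy with hy | hy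
    · exact hK x y hy ih
    · exact hN x y hy ih
  | mul_inv_cancel x _ y hy ih =>
    rcases hy with hy | hy
    · exact hK x y⁻¹ (K.inv_mem hy) ih
    · exact hN x y⁻¹ (N.inv_mem hy) ih

/-- **The homomorphism `G →* Γ`, one Morse level.** -/
theorem exists_hom (I : Inputs π H n x₀ K N α β) {T : G ⧸ K → G ⧸ K → G ⧸ K → Prop}
    (hc : Cover (Glue.Adj K N) (Glue.Adj' K N α β) T (proj K α)) {ht : G ⧸ K → ℕ}
    (hm : MorseHyp (Glue.Adj K N) T Set.univ ht) (hb : ∃ b, ∀ x, ht x ≤ b)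
    (h0 : ∀ x, ht x = 0 ↔ x ∈ Bot K x₀) :
    ∃ φ : G →* Γ, (∀ x (h : x ∈ K), φ x = α ⟨x, h⟩) ∧ (∀ x (h : x ∈ N), φ x = β ⟨x, h⟩) ∧
      (∀ g, π (φ g) = g) ∧ (∀ g, g • x₀ = x₀ → φ g ∈ H) ∧ Function.Surjective φ := by
  obtain ⟨s₀, hs₀, hv⟩ := I.exists_bottom
  obtain ⟨b, hb⟩ := hb
  obtain ⟨s, hs, hkeep⟩ := extend_keep hc hm ⟨b, fun x _ => hb x⟩
    (hs₀.mono (D' := {x | x ∈ Set.univ ∧ ht x = 0}) fun x hx => (h0 x).1 hx.2)
  obtain ⟨φ, hα, hβ⟩ := exists_hom_of_cover hc I.genG hs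
  have hπ : ∀ g, π (φ g) = g := by
    intro g
    have hg : g ∈ Subgroup.closure ((K : Set G) ∪ N) := by rw [I.genG]; trivial
    induction hg using Subgroup.closure_induction with
    | mem x hx =>
      rcases hx with hx | hx
      · rw [hα x hx, I.πα]
      · rw [hβ x hx, I.πβ]
    | one => rw [map_one, map_one]
    | mul x y _ _ hx hy => rw [map_mul, map_mul, hx, hy]
    | inv x _ hx => rw [map_inv, map_inv, hx]
  have hbot : ∀ (g : G) (h : Γ), g • x₀ = x₀ → h ∈ H → π h = g →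
      s (g : G ⧸ K) = (((g, h) : G × Γ) : (G × Γ) ⧸ gr K α) := by
    intro g h hg hh hπh
    rw [hkeep _ ((h0 _).2 ⟨g, hg, rfl⟩), hv g h hg hh hπh]
  have hone := hbot 1 1 (one_smul _ _) (one_mem _) (map_one π)
  have hmemH : ∀ g, g • x₀ = x₀ → φ g ∈ H := by
    intro g hg
    obtain ⟨h, hh, hπh⟩ := I.cov.onto g hg
    have h1 := sheet_eq hc I.genG hs hone hα hβ g
    rw [hbot g h hg hh hπh, mk_eq_mk, mem_gr] at h1
    obtain ⟨h2, h3⟩ := h1
    have h4 : (⟨((g, h)⁻¹ * (g, φ g) : G × Γ).1, h2⟩ : K) = 1 := Subtype.ext (by simp)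
    rw [h4, map_one] at h3
    have h5 : h⁻¹ * φ g = 1 := h3.symm
    rw [← inv_mul_eq_one.1 h5]
    exact hh
  refine ⟨φ, hα, hβ, hπ, hmemH, ?_⟩
  have hHle : H ≤ φ.range := by
    intro h hh
    exact ⟨π h, I.eqH (hmemH _ (I.cov.fix h hh)) hh (hπ _)⟩
  have hn : n ∈ φ.range := by
    obtain ⟨k, hk, hkn⟩ := I.edgeK
    have h1 : α ⟨k, hk⟩ ∈ φ.range := ⟨k, hα k hk⟩
    have h2 := φ.range.mul_mem h1 (hHle hkn)
    rwa [mul_inv_cancel_left] at h2
  rw [← MonoidHom.range_eq_top, eq_top_iff, ← I.gen, Subgroup.closure_le]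
  rintro x (hx | hx)
  · exact hHle hx
  · rw [Set.mem_singleton_iff.1 hx]; exact hn

/-- The presented group is finite and not larger than `G`. -/
theorem card_le (I : Inputs π H n x₀ K N α β) {T : G ⧸ K → G ⧸ K → G ⧸ K → Prop}
    (hc : Cover (Glue.Adj K N) (Glue.Adj' K N α β) T (proj K α)) {ht : G ⧸ K → ℕ}
    (hm : MorseHyp (Glue.Adj K N) T Set.univ ht) (hb : ∃ b, ∀ x, ht x ≤ b)
    (h0 : ∀ x, ht x = 0 ↔ x ∈ Bot K x₀) [Finite G] :
    Finite Γ ∧ Nat.card Γ ≤ Nat.card G := by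
  obtain ⟨φ, -, -, -, -, hs⟩ := I.exists_hom hc hm hb h0
  exact ⟨Finite.of_surjective φ hs, Nat.card_le_card_of_surjective φ hs⟩

/-- The same with `π` an isomorphism. -/
theorem bijective (I : Inputs π H n x₀ K N α β) {T : G ⧸ K → G ⧸ K → G ⧸ K → Prop}
    (hc : Cover (Glue.Adj K N) (Glue.Adj' K N α β) T (proj K α)) {ht : G ⧸ K → ℕ}
    (hm : MorseHyp (Glue.Adj K N) T Set.univ ht) (hb : ∃ b, ∀ x, ht x ≤ b)
    (h0 : ∀ x, ht x = 0 ↔ x ∈ Bot K x₀) : Function.Bijective π := by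
  obtain ⟨φ, -, -, hπ, -, hs⟩ := I.exists_hom hc hm hb h0
  refine ⟨?_, fun g => ⟨φ g, hπ g⟩⟩
  intro a b hab
  obtain ⟨a, rfl⟩ := hs a
  obtain ⟨b, rfl⟩ := hs b
  rw [hπ, hπ] at hab
  rw [hab]

end Inputs

end Cfsg.Agent.MonsterP.Bottom
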