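import Cfsg.Agent.MonsterX.InstData
import Cfsg.Agent.MonsterX.ProgM.Inv
import Cfsg.Agent.MonsterX.CertOrb

/-!
# The set `T₀` of the 1104 axes of the pairs (Monster, project R19, piece U4)

`T₀ = N a₀ ⊆ S`, `N = Conc.N`.  It is preserved by `N` and `τ`, and connected for every `N`-invariant symmetric
relation which joins `a₀` to the axis `b₀` of `x_02`.
-/

set_option autoImplicit false
set_option maxRecDepth 100000

namespace Cfsg.Agent.MonsterP.TZero

open Cfsg.Agent.Monster.VecEngine Cfsg.Agent.MonsterX.Space Cfsg.Agent.MonsterX.ProgTable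
open Cfsg.Agent.MonsterX.Conc Cfsg.Agent.MonsterX Cfsg.Agent.MonsterX.InstData

/-- The base axis. -/
noncomputable def a₀ : V := vecV a0B

theorem a₀_eq' : a₀ = InstData.M.a₀ := M_a₀.symm

/-- The axis of `x_02`. -/
noncomputable def b₀ : V := W [43, 43] a₀

/-- The axes of the pairs. -/
def T₀ : Set V := {x | ∃ g ∈ Conc.N, x = g a₀}

theorem a₀_mem : a₀ ∈ T₀ := ⟨1, Conc.N.one_mem, rfl⟩

theorem T₀_sub : T₀ ⊆ InstData.M.S := by
  rintro x ⟨g, hg, rfl⟩
  exact ⟨g, N_le_C hg, by rw [a₀_eq']⟩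

theorem N_mem {g : V ≃ₗ[ℚ] V} (hg : g ∈ Conc.N) {x : V} (hx : x ∈ T₀) : g x ∈ T₀ := by
  obtain ⟨h, hh, rfl⟩ := hx
  exact ⟨g * h, Conc.N.mul_mem hg hh, rfl⟩

theorem b₀_mem : b₀ ∈ T₀ := by
  refine ⟨W [43, 43], ProgM.Inv.W_mem_N ?_, rfl⟩
  intro n hn
  simp only [List.mem_cons, List.not_mem_nil, or_false, or_self] at hn
  omega

/-! ### Kernel checks -/

/-- The letters fixing the base axis. -/
def fixL : List ℕ :=
  [0, 3, 4, 5, 6, 7, 8, 9, 10, 11, 12, 13, 14, 15, 16, 17, 18, 19, 20, 21, 22, 23, 24, 27, 28, 29, 30, 31, 32,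
    33, 34, 35]

theorem fix_all : ∀ n ∈ fixL, checkFix ([n].map prog) a0B = true := by decide +kernel

theorem E_fix {n : ℕ} (h : n ∈ fixL) : E n a₀ = a₀ := by
  rw [← W_single]
  exact W_fix_of_check (fix_all n h)

theorem tau_a₀ : τ a₀ = a₀ := by
  have h : W [40] (vecV a0B) = vecV a0B := W_fix_of_up (n := 6) (by decide +kernel)
  rw [W_single] at h
  exact h

theorem tauInv_a₀ : τ⁻¹ a₀ = a₀ := by
  have h := tau_a₀
  have h2 : τ⁻¹ (τ a₀) = a₀ := by
    rw [← LinearEquiv.mul_apply, inv_mul_cancel]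
    rfl
  rwa [h] at h2

theorem xi_a₀ : E 39 a₀ = a₀ := by
  have h : W [39] (vecV a0B) = vecV a0B := W_fix_of_up (n := 6) (by decide +kernel)
  rw [W_single] at h
  exact h

/-- The steps of the paths. -/
theorem st1 : W [3, 36, 36, 37, 36, 37, 36, 37, 42] a₀ = b₀ ∧
    W [3, 36, 36, 37, 36, 37, 36, 37, 42] b₀ = E 1 a₀ ∧ E 1 a₀ = E 2 a₀ := by
  refine ⟨?_, ?_, ?_⟩
  · exact W_eq_of_check (w₂ := [43, 43]) (by decide +kernel)
  · rw [b₀, ← LinearEquiv.mul_apply, ← W_append, ← W_single]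
    exact W_eq_of_check (by decide +kernel)
  · rw [← W_single, ← W_single]
    exact W_eq_of_check (by decide +kernel)

theorem st25 : W [27, 36, 36, 37, 36, 37, 36, 37, 42] a₀ = b₀ ∧
    W [27, 36, 36, 37, 36, 37, 36, 37, 42] b₀ = E 25 a₀ ∧ E 25 a₀ = E 26 a₀ := by
  refine ⟨?_, ?_, ?_⟩
  · exact W_eq_of_check (w₂ := [43, 43]) (by decide +kernel)
  · rw [b₀, ← LinearEquiv.mul_apply, ← W_append, ← W_single]
    exact W_eq_of_check (by decide +kernel)
  · rw [← W_single, ← W_single]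
    exact W_eq_of_check (by decide +kernel)

theorem st36 : W [37, 42, 42, 37, 36, 43, 36, 37] a₀ = a₀ ∧
    W [37, 42, 42, 37, 36, 43, 36, 37] b₀ = E 36 a₀ := by
  refine ⟨?_, ?_⟩
  · exact W_fix_of_check (by decide +kernel)
  · rw [b₀, ← LinearEquiv.mul_apply, ← W_append, ← W_single]
    exact W_eq_of_check (by decide +kernel)

theorem st37 : W [38, 42, 42, 43, 36, 38] a₀ = a₀ ∧ W [38, 42, 42, 43, 36, 38] b₀ = E 37 a₀ := by
  refine ⟨?_, ?_⟩
  · exact W_fix_of_check (by decide +kernel)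
  · rw [b₀, ← LinearEquiv.mul_apply, ← W_append, ← W_single]
    exact W_eq_of_check (by decide +kernel)

theorem st38 : W [38, 42, 37, 42, 37, 38] a₀ = a₀ ∧
    W [38, 42, 37, 42, 37, 38] b₀ = W [42, 38, 36, 37, 37, 38] a₀ ∧
    W [42, 38, 36, 37, 37, 38] b₀ = E 38 a₀ := by
  refine ⟨?_, ?_, ?_⟩
  · exact W_fix_of_check (by decide +kernel)
  · rw [b₀, ← LinearEquiv.mul_apply, ← W_append]
    exact W_eq_of_check (by decide +kernel)
  · rw [b₀, ← LinearEquiv.mul_apply, ← W_append, ← W_single]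
    exact W_eq_of_check (by decide +kernel)

/-! ### Connectedness -/

variable {R : V → V → Prop}

/-- The relation inside of `T₀`. -/
def RT (R : V → V → Prop) (x y : V) : Prop := x ∈ T₀ ∧ y ∈ T₀ ∧ R x y

/-- Words in the monomial letters. -/
def okW (w : List ℕ) : Bool := w.all fun n => n < 39 || (42 ≤ n && n < 46)

theorem okW_mem {w : List ℕ} (h : okW w = true) : W w ∈ Conc.N := by
  apply ProgM.Inv.W_mem_N
  intro n hn
  have h1 := List.all_eq_true.1 h n hn
  simp only [Bool.or_eq_true, Bool.and_eq_true, decide_eq_true_eq] at h1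
  exact h1

section conn

variable (hR : ∀ g ∈ Conc.N, ∀ x y, R x y → R (g x) (g y)) (hs : ∀ x y, R x y → R y x) (h₀ : R a₀ b₀)

include hR h₀

theorem step (w : List ℕ) (hw : okW w = true) {x y : V} (hx : W w a₀ = x) (hy : W w b₀ = y) : RT R x y := by
  rw [← hx, ← hy]
  exact ⟨N_mem (okW_mem hw) a₀_mem, N_mem (okW_mem hw) b₀_mem, hR _ (okW_mem hw) _ _ h₀⟩

theorem step₀ : RT R a₀ b₀ := ⟨a₀_mem, b₀_mem, h₀⟩

/-- A path from `a₀` to its image under a letter. -/
theorem path_letter {n : ℕ} (hn : n < 39) : Relation.ReflTransGen (RT R) a₀ (E n a₀) := by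
  by_cases h : n ∈ fixL
  · rw [E_fix h]
  have h' : n = 1 ∨ n = 2 ∨ n = 25 ∨ n = 26 ∨ n = 36 ∨ n = 37 ∨ n = 38 := by
    by_contra hc
    apply h
    have h2 : ∀ n < 39, ¬ (n = 1 ∨ n = 2 ∨ n = 25 ∨ n = 26 ∨ n = 36 ∨ n = 37 ∨ n = 38) → n ∈ fixL := by
      decide
    exact h2 n hn hc
  have h1 : Relation.ReflTransGen (RT R) a₀ (E 1 a₀) :=
    (Relation.ReflTransGen.single (step₀ hR h₀)).tail (step hR h₀ _ (by decide) st1.1 st1.2.1)
  have h25 : Relation.ReflTransGen (RT R) a₀ (E 25 a₀) :=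
    (Relation.ReflTransGen.single (step₀ hR h₀)).tail (step hR h₀ _ (by decide) st25.1 st25.2.1)
  rcases h' with rfl | rfl | rfl | rfl | rfl | rfl | rfl
  · exact h1
  · rw [← st1.2.2]; exact h1
  · exact h25
  · rw [← st25.2.2]; exact h25
  · exact Relation.ReflTransGen.single (step hR h₀ _ (by decide) st36.1 st36.2)
  · exact Relation.ReflTransGen.single (step hR h₀ _ (by decide) st37.1 st37.2)
  · exact (Relation.ReflTransGen.single (step hR h₀ _ (by decide) st38.1 st38.2.1)).tail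
      (step hR h₀ _ (by decide) rfl st38.2.2)

include hs

/-- **`T₀` is connected.** -/
theorem conn : ∀ x ∈ T₀, ∀ y ∈ T₀, Relation.ReflTransGen (RT R) x y := by
  have hsm : ∀ g ∈ Conc.N, ∀ {x y : V}, Relation.ReflTransGen (RT R) x y →
      Relation.ReflTransGen (RT R) (g x) (g y) := by
    intro g hg x y h
    induction h with
    | refl => exact Relation.ReflTransGen.refl
    | tail _ h2 ih => exact ih.tail ⟨N_mem hg h2.1, N_mem hg h2.2.1, hR g hg _ _ h2.2.2⟩
  have hsy : ∀ {x y : V}, Relation.ReflTransGen (RT R) x y → Relation.ReflTransGen (RT R) y x := by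
    intro x y h
    induction h with
    | refl => exact Relation.ReflTransGen.refl
    | tail _ h2 ih => exact (Relation.ReflTransGen.single ⟨h2.2.1, h2.1, hs _ _ h2.2.2⟩).trans ih
  have key : ∀ g ∈ Subgroup.closure {g | ∃ n : ℕ, n < 39 ∧ g = E n},
      Relation.ReflTransGen (RT R) a₀ (g a₀) := by
    intro g hg
    induction hg using Subgroup.closure_induction with
    | mem g hg =>
      obtain ⟨n, hn, rfl⟩ := hg
      exact path_letter hR h₀ hn
    | one => exact Relation.ReflTransGen.refl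
    | mul a b ha hb iha ihb => exact iha.trans (hsm a ha ihb)
    | inv a ha iha =>
      have h1 := hsm a⁻¹ (Conc.N.inv_mem ha) iha
      have h2 : a⁻¹ (a a₀) = a₀ := by
        rw [← LinearEquiv.mul_apply, inv_mul_cancel]
        rfl
      rw [h2] at h1
      exact hsy h1
  rintro x ⟨g, hg, rfl⟩ y ⟨h, hh, rfl⟩
  exact (hsy (key g hg)).trans (key h hh)

end conn

/-! ### Invariance under `τ` -/

open Cfsg.Agent.MonsterX.CertOrb

theorem tau_mem {D₀ : Subgroup (V ≃ₗ[ℚ] V)} (h : TauData Conc.N D₀ τ (E 12)) {x : V} (hx : x ∈ T₀) :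
    τ x ∈ T₀ ∧ τ⁻¹ x ∈ T₀ := by
  obtain ⟨g, hg, rfl⟩ := hx
  have he : E 12 a₀ = a₀ := E_fix (by decide)
  obtain ⟨d, hd, hgd⟩ : ∃ d ∈ D₀, g a₀ = d a₀ := by
    rcases h.cosets g hg with h1 | h1
    · exact ⟨g, h1, rfl⟩
    · refine ⟨g * E 12, h1, ?_⟩
      rw [LinearEquiv.mul_apply, he]
  rw [hgd]
  constructor
  · refine ⟨τ * d * τ⁻¹, h.conj d hd, ?_⟩
    rw [LinearEquiv.mul_apply, LinearEquiv.mul_apply, tauInv_a₀]
  · refine ⟨τ⁻¹ * d * τ, h.conj' d hd, ?_⟩
    rw [LinearEquiv.mul_apply, LinearEquiv.mul_apply, tau_a₀]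

end Cfsg.Agent.MonsterP.TZero
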