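import Cfsg.Agent.MonsterX.CertOrbModel

/-!
# The lines with two points of the lowest type (helper227)

The input `hT` of `OneLevel.bijective` from the orbit table of the axes.
-/

set_option autoImplicit false

namespace Cfsg.Agent.MonsterP.HT

open Cfsg.Agent.MonsterX.CertOrb Cfsg.Agent.MonsterX.CertOrbModel Cfsg.Agent.MonsterX.Model

/-- `TauData` for the inverse. -/
theorem tauData_inv {G : Type*} [Group G] {D D₀ : Subgroup G} {τ e : G} (h : TauData D D₀ τ e) :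
    TauData D D₀ τ⁻¹ e where
  le := h.le
  e_mem := h.e_mem
  e_not := h.e_not
  cosets := h.cosets
  conj := fun d hd => by rw [inv_inv]; exact h.conj' d hd
  conj' := fun d hd => by rw [inv_inv]; exact h.conj d hd
  inv := by
    have h1 := congrArg (fun x => x⁻¹) h.inv
    simp only [mul_inv_rev, inv_inv] at h1
    rw [inv_inv, mul_assoc]
    exact h1

variable {W : Type} [AddCommGroup W] [Module ℚ W]
variable {M : MData W} {ρ : Type*} {D D₀ : Subgroup (W ≃ₗ[ℚ] W)} {e : W ≃ₗ[ℚ] W} {v : ρ → W}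
  {jof : ρ → M.J} {tp tm : ρ → ρ}

theorem hT (h : OrbTable M D D₀ e v jof tp tm) {j₀ : M.J} {r₀ : ρ}
    (hv : v r₀ ∈ MulAction.orbit D (M.d j₀))
    (htab : ∀ r, jof r = j₀ → (jof (tp r) = j₀ ∨ jof (tm r) = j₀) → r = r₀) :
    ∀ k ∈ M.C, (∃ k' ∈ M.C, M.τ • k • M.d j₀ = k' • M.d j₀ ∨ M.τ⁻¹ • k • M.d j₀ = k' • M.d j₀) →
      ∃ d ∈ D, k • M.d j₀ = d • M.d j₀ := by
  intro k hk ⟨k', hk', hkk⟩
  obtain ⟨r, hr, hx⟩ := h.ref.cov j₀ (k • M.d j₀) ⟨⟨k, hk⟩, rfl⟩
  have hK : k' • M.d j₀ ∈ MulAction.orbit M.C (M.d j₀) := ⟨⟨k', hk'⟩, rfl⟩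
  have key : jof (tp r) = j₀ ∨ jof (tm r) = j₀ := by
    have hcl : k' • M.d j₀ ∈ MulAction.orbit D (v (tp r)) ∨ k' • M.d j₀ ∈ MulAction.orbit D (v (tm r)) := by
      rcases hkk with h1 | h1
      · rw [← h1]
        exact h.tau.closed v tp tm h.htp h.htm r hx
      · rw [← h1]
        have h2 := (tauData_inv h.tau).closed v tm tp h.htm
          (fun r => by rw [inv_inv]; exact h.htp r) r hx
        exact h2.symm
    rcases hcl with h1 | h1
    · left
      exact h.disj_orbit _ _ (mem_orbit_self_of (h.ref.mem_K h1) hK)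
    · right
      exact h.disj_orbit _ _ (mem_orbit_self_of (h.ref.mem_K h1) hK)
  obtain rfl := htab r hr key
  have h3 : k • M.d j₀ ∈ MulAction.orbit D (M.d j₀) := by
    rw [← MulAction.orbit_eq_iff] at hx hv ⊢
    rw [hx, hv]
  obtain ⟨d, hd⟩ := h3
  exact ⟨d, d.2, hd.symm⟩

end Cfsg.Agent.MonsterP.HT
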