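import Cfsg.Agent.MonsterP.GeoInst
import Cfsg.Agent.MonsterU.TabInst
import Cfsg.Agent.MonsterU.LevelOneX
import Cfsg.Agent.MonsterX.InstanceFinal

/-!
# The geometric inputs of S1705 for the concrete model, without hypotheses (helper227)
-/

set_option autoImplicit false
set_option maxRecDepth 100000

namespace Cfsg.Agent.MonsterP.GeoDone

open Cfsg Cfsg.Agent.MonsterX Cfsg.Agent.MonsterX.Space Cfsg.Agent.MonsterX.Conc
open Cfsg.Agent.MonsterU Cfsg.Agent.MonsterU.ModelGeo
open Cfsg.Agent.MonsterP.TZero Cfsg.Agent.MonsterP.SetInst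

theorem cent : ∀ g ∈ InstData.M.G, g * InstData.M.z = InstData.M.z * g → g ∈ InstData.M.C := fun _ h h' =>
  MainTrans.cent_z KDone.mGroup KDone.mRep KDone.mLat InstanceFinal.mOrbit Instance.mTrans h h'

/-- The facts on the axes. -/
theorem tab : LineTab.Tab (Subgroup.closure ((Conc.N : Set (V ≃ₗ[ℚ] V)) ∪ {τ})) := TabInst.tab OrbDone.ref

/-- **The geometric inputs of S1705.** -/
theorem geo : H1Abs.Geo1 zE aE bE τE ξE y₁ (fun x => x ∈ InstData.M.X) LineTab.hh a₀ :=
  GeoInst.geo1 tab cent (LevelOneX.l₁_tab OrbDone.U tab)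

end Cfsg.Agent.MonsterP.GeoDone
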