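import Cfsg.Agent.MonsterP.NodeVec

/-!
# The word `g` which moves the axes of the nodes 10, 5, 0 to the base axes

`W gw (ax 10) = a₀`, `W gw (ax 5) = b₀ = W [43, 43] a₀`, `W gw (ax 0) = c₀ = W [1, 36] a₀` (kernel checks).
Data: `blueprints/R19/helper484/data/nodes_M_v3.txt` (helper484).
-/

set_option autoImplicit false
set_option maxRecDepth 100000
set_option Elab.async false

namespace Cfsg.Agent.MonsterP.NodeBase

open Cfsg.Agent.MonsterX.Space
open Cfsg.Agent.MonsterX Cfsg.Agent.MonsterX.Conc Cfsg.Agent.MonsterX.InstData Cfsg.Agent.MonsterP.NodeData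
open Cfsg.Agent.MonsterP.NodeVec

/-- The word. -/
def gw : List ℕ :=
  [39, 40, 43, 26, 38, 39, 37, 34, 25, 39, 36, 38, 39, 40, 42, 42, 42, 42, 37, 3, 42, 42, 38, 42, 37, 37, 36]

theorem gw_lt : ∀ n ∈ gw, n < 46 := by decide

theorem c_10 : OrdChk.eqC (OrdChk.cat (aw 10) gw) [] = true := by decide +kernel

theorem c_5 : OrdChk.eqC (OrdChk.cat (aw 5) gw) [43, 43] = true := by decide +kernel

theorem c_0 : OrdChk.eqC (OrdChk.cat (aw 0) gw) [1, 36] = true := by decide +kernel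

theorem W_gw {i : ℕ} {w : List ℕ} (h : OrdChk.eqC (OrdChk.cat (aw i) gw) w = true) :
    W gw (ax i) = W w M.a₀ := by
  have h1 := OrdChk.eqC_sound h
  rw [OrdChk.cat_eq, W_append, LinearEquiv.mul_apply] at h1
  exact h1

theorem g_10 : W gw (ax 10) = M.a₀ := by rw [W_gw c_10, W_nil]; rfl

theorem g_5 : W gw (ax 5) = W [43, 43] M.a₀ := W_gw c_5

theorem g_0 : W gw (ax 0) = W [1, 36] M.a₀ := W_gw c_0

end Cfsg.Agent.MonsterP.NodeBase
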