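import Cfsg.Agent.MonsterP.OneLevel
import Cfsg.Agent.MonsterU.PlaneGeo

/-!
# The isomorphism from the plane (helper227)

`PlaneGeo.Plane z a b τ ξ y` gives all the geometric inputs of `OneLevel.bijective` for `K = C(z)`, `N = N(⟨z, a⟩)`,
if `τ`, `ξ`, `y` fix the base point.
-/

set_option autoImplicit false

namespace Cfsg.Agent.MonsterP.PlaneIn

open Cfsg.Agent.MonsterU Cfsg.Agent.MonsterU.Morse Cfsg.Agent.MonsterU.GlueP Cfsg.Agent.MonsterU.Local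
open Cfsg.Agent.MonsterU.PlaneGeo

variable {Γ G X : Type*} [Group Γ] [Group G] [MulAction G X]

/-- The local hypotheses are monotone in `D`. -/
theorem locHyp_mono {W : Type*} [MulAction G W] {K D D' : Subgroup G} {τ ξ : G} {P : W → Prop} {h : W → ℕ}
    (hD : D ≤ D') (hL : LocHyp K D τ ξ P h) : LocHyp K D' τ ξ P h where
  m1 := hL.m1
  m2 := by
    intro w hw hpos x hx y hy h1 h2
    refine Relation.ReflTransGen.mono ?_ _ _ (hL.m2 w hw hpos x hx y hy h1 h2)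
    rintro u v ⟨h3, h4, h5⟩
    refine ⟨h3, h4, ?_⟩
    rcases h5 with ⟨d, hd, h5⟩ | h5
    · exact Or.inl ⟨d, hD hd, h5⟩
    · exact Or.inr h5
  m3 := by
    intro w hw hpos hf
    rcases hL.m3 w hw hpos hf with h1 | ⟨d, hd, h1⟩
    · exact Or.inl h1
    · exact Or.inr ⟨d, hD hd, h1⟩

section plane

variable {z a b τ ξ y : G} (h : Plane z a b τ ξ y)

include h

/-- The geometry for the local hypotheses. -/
theorem geom (hξ : ξ * ξ = 1) : Geom (K z) (N z a) (K z ⊓ N z a) τ ξ where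
  D_K := inf_le_left
  D_N := inf_le_right
  τ_N := h.τ_mem_N
  ξ_K := h.ξ_mem_K
  ξ_sq := hξ
  cases := by
    intro n hn
    obtain ⟨t, ht, d, hd, rfl⟩ := h.N_eq hn
    simp only [Set.mem_insert_iff, Set.mem_singleton_iff] at ht
    rcases ht with rfl | rfl | rfl
    · left
      rw [one_mul]
      exact hd
    · exact Or.inr (Or.inl ⟨d, hd, rfl⟩)
    · refine Or.inr (Or.inr ⟨τ * τ * τ * d, ?_, by group⟩)
      refine mul_mem (Subgroup.mem_inf.2 ⟨?_, ?_⟩) hd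
      · rw [mem_K]
        calc τ * τ * τ * z * (τ * τ * τ)⁻¹ = τ * (τ * (τ * z * τ⁻¹) * τ⁻¹) * τ⁻¹ := by group
          _ = τ * (z * a) * τ⁻¹ := by rw [h.τ_z, h.τ_a]
          _ = (τ * z * τ⁻¹) * (τ * a * τ⁻¹) := by group
          _ = a * (z * a) := by rw [h.τ_z, h.τ_a]
          _ = z := by rw [← mul_assoc, ← h.za, mul_assoc, h.a_sq, mul_one]
      · exact mul_mem (mul_mem h.τ_mem_N h.τ_mem_N) h.τ_mem_N

/-- The four identities. -/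
theorem h4 {x₀ : X} (hτ : τ • x₀ = x₀) (hξ : ξ • x₀ = x₀) (hy : y • x₀ = x₀) {T₀ : Set X} (h₀ : x₀ ∈ T₀) :
    ∀ p q, Pm τ p → Pm τ q → ∃ c ∈ K z, ∃ m ∈ N z a, ∃ c' ∈ K z, p * ξ * q = c * m * c' ∧
      ξ • q • x₀ ∈ T₀ ∧ c' • x₀ ∈ T₀ := by
  intro p q hp hq
  have hτi : τ⁻¹ • x₀ = x₀ := by rw [inv_smul_eq_iff, hτ]
  have hpm : ∀ r, Pm τ r → r ∈ P z a b ∧ r • x₀ = x₀ := by
    rintro r (rfl | rfl)
    · exact ⟨h.τ_mem_P, hτ⟩
    · exact ⟨inv_mem h.τ_mem_P, hτi⟩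
  obtain ⟨hpP, hpx⟩ := hpm p hp
  obtain ⟨hqP, hqx⟩ := hpm q hq
  obtain ⟨k, hk, n, hn, k', hk', e⟩ := h.P_eq (mul_mem (mul_mem hpP h.ξ_mem_P) hqP)
  have hkx : k • x₀ = x₀ := by
    simp only [Set.mem_insert_iff, Set.mem_singleton_iff] at hk
    rcases hk with rfl | rfl | rfl
    · exact one_smul _ _
    · exact hξ
    · rw [mul_smul, hξ, hy]
  have hnx : n • x₀ = x₀ := by
    simp only [Set.mem_insert_iff, Set.mem_singleton_iff] at hn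
    rcases hn with rfl | rfl | rfl
    · exact one_smul _ _
    · exact hτ
    · rw [mul_smul, hτ, hτ]
  have hk'x : k' • x₀ = x₀ := by
    have e1 : k' = n⁻¹ * (k⁻¹ * (p * ξ * q)) := by rw [e]; group
    have hkx' : k⁻¹ • x₀ = x₀ := by rw [inv_smul_eq_iff, hkx]
    have hnx' : n⁻¹ • x₀ = x₀ := by rw [inv_smul_eq_iff, hnx]
    rw [e1, mul_smul, mul_smul, mul_smul, mul_smul, hqx, hξ, hpx, hkx', hnx']
  refine ⟨k, (h.word_mem_KP hk).1, n, h.word_mem_N hn, k', hk'.1, e, ?_, ?_⟩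
  · rw [hqx, hξ]; exact h₀
  · rw [hk'x]; exact h₀

/-- **The isomorphism**, all geometric inputs from the plane. -/
theorem bijective {π : Γ →* G} {H : Subgroup Γ} {n : Γ} {x₀ : X} {D : CovData π H n x₀} {S T₀ : Set X}
    {s : X → Γ ⧸ H} (W : SetData D (K z) (N z a) S T₀ s) (hn : π n ∈ K z)
    (hΓ : Subgroup.closure ((H : Set Γ) ∪ {n}) = ⊤) (hgen : Subgroup.closure ((K z : Set G) ∪ {τ}) = ⊤)
    (hξ2 : ξ * ξ = 1) (hτ : τ • x₀ = x₀) (hξ : ξ • x₀ = x₀) (hy : y • x₀ = x₀)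
    (hT : ∀ k ∈ K z, (∃ k' ∈ K z, τ • k • x₀ = k' • x₀ ∨ τ⁻¹ • k • x₀ = k' • x₀) →
      ∃ d ∈ K z ⊓ N z a, k • x₀ = d • x₀)
    {Q : X → Prop} {ht : X → ℕ} (hi : Inv (K z) Q ht) (hL : LocHyp (K z) (K z ⊓ N z a) τ ξ Q ht)
    (hQ : ∀ g : G, Q (g • x₀)) (hb : ∃ b, ∀ g : G, ht (g • x₀) ≤ b)
    (hz : ∀ g : G, ht (g • x₀) = 0 ↔ ∃ k ∈ K z, g • x₀ = k • x₀) : Function.Bijective π :=
  OneLevel.bijective W hn hΓ (h.gen hgen) h.geo.unique (geom h hξ2) hτ (h4 h hτ hξ hy W.base) hT hi hL hQ hb hz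

end plane

end Cfsg.Agent.MonsterP.PlaneIn
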