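import Cfsg.Agent.MonsterP.SInst
import Cfsg.Agent.MonsterP.PlaneIn
import Cfsg.Agent.MonsterU.ModelCent
import Cfsg.Agent.MonsterX.FrameU
import Cfsg.Agent.MonsterX.ConcGrp

/-!
# The set data of the concrete model

`KΓ`, `NΓ` (the stabilisers of the point `z` and of the line `⟨z, x_Ω⟩` in the group of the model) against the
subgroups `Conc.C`, `Conc.N` generated by letters, and `SetData` for `S` and `T₀`.

`hc` is `cent_z`: the centraliser of `z` in the group is `C`.
-/

set_option autoImplicit false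
set_option maxRecDepth 100000

namespace Cfsg.Agent.MonsterP.SetInst

open Cfsg Cfsg.Agent.Monster.PauliBasic Cfsg.Agent.LeechMat.Core Cfsg.Agent.LeechMat.Code
open Cfsg.Agent.LeechMat.Elements Cfsg.Agent.SporadicA.Co0Card
open Cfsg.Agent.MonsterX Cfsg.Agent.MonsterX.Space Cfsg.Agent.MonsterX.Conc
open Cfsg.Agent.MonsterX.KSide Cfsg.Agent.MonsterX.KLift Cfsg.Agent.MonsterX.FrameStab
open Cfsg.Agent.MonsterX.FrameInst Cfsg.Agent.MonsterX.FrameConc
open Cfsg.Agent.MonsterX.ConcMono Cfsg.Agent.MonsterX.TauRel Cfsg.Agent.MonsterX.RelAll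
open Cfsg.Agent.MonsterU Cfsg.Agent.MonsterU.Morse Cfsg.Agent.MonsterU.PlaneGeo
open Cfsg.Agent.MonsterU.ModelGeo Cfsg.Agent.MonsterU.ModelCent
open Cfsg.Agent.MonsterP.TZero Cfsg.Agent.MonsterP.SInst

/-! ### An element `y` fixing the base axis -/

/-- The letter `27`. -/
noncomputable def y₁ : ModelGeo.Γ := ⟨E 27, C_le_G (E_mem_C (by norm_num))⟩

theorem y₁_sq : E 27 * E 27 = 1 := by
  have h : W [27, 27] = W [] := ConcMono.W_eq_of_same (by decide +kernel)
  rw [W2, W_nil] at h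
  exact h

theorem y₁_a : E 27 * E 0 = E 0 * E 27 := by
  have h : W [0, 27] = W [27, 0] := ConcMono.W_eq_of_same (by decide +kernel)
  rw [W2, W2] at h
  exact h

theorem y₁_b : E 27 * xT * (E 27)⁻¹ = E 0 * xT := by
  have h : W ([27] ++ ([13, 14, 15, 16] ++ [27])) = W ([0] ++ [13, 14, 15, 16]) :=
    ConcMono.W_eq_of_same (by decide +kernel)
  rw [W_append, W_append, W_append, W_single, W_single] at h
  rw [inv_eq_of_mul_eq_one_right y₁_sq, ModelGeo.a_b]
  exact h

/-- The plane with an element `y` which fixes the base axis. -/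
theorem plane₁ : Plane zE aE bE τE ξE y₁ :=
  { ModelGeo.plane with
    y_z := Subtype.ext (by
      show E 27 * z * (E 27)⁻¹ = z
      rw [z_comm_C _ (E_mem_C (by norm_num)), mul_inv_cancel_right])
    y_a := Subtype.ext (by
      show E 27 * E 0 * (E 27)⁻¹ = E 0
      rw [y₁_a, mul_inv_cancel_right])
    y_b := Subtype.ext SetInst.y₁_b }

theorem y₁_a₀ : y₁ • a₀ = a₀ := E_fix (by decide)

theorem τE_a₀ : τE • a₀ = a₀ := tau_a₀

theorem ξE_a₀ : ξE • a₀ = a₀ := xi_a₀

theorem ξE_sq : ξE * ξE = 1 := Subtype.ext ConcGrp.ξ_sq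

/-! ### The stabiliser of the frame -/

/-- The packed vector `4 e_0 - 4 e_∞`. -/
def nw : ℕ := 0x642108421084210842108421084214

def vw : leechLattice := ⟨vec nw, isLeech_sound (by decide +kernel)⟩

theorem v8_sub : v8 - v0 = 2 • vw := by
  apply Subtype.ext
  funext p
  have h : ∀ p : GolayPt, sdig n8 (pos p) - (Pi.single none 8 : GolayPt → ℤ) p = sdig nw (pos p) + sdig nw (pos p) := by
    decide +kernel
  have h2 : ((2 • vw : leechLattice) : GolayPt → ℤ) p = sdig nw (pos p) + sdig nw (pos p) := by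
    rw [two_smul]
    rfl
  rw [h2, ← h p]
  rfl

/-- `A` fixes the class of `8 e_0` if and only if it fixes the class of `8 e_∞`. -/
theorem fixes_iff (A : Co0) : FixesFrame A ↔ ∃ w : leechLattice, v8 - A • v8 = 2 • w := by
  have e : v8 = v0 + 2 • vw := by rw [← v8_sub]; abel
  have e2 : A • v8 = A • v0 + 2 • (A • vw) := by rw [e, co0_smul_add, two_smul, co0_smul_add, ← two_smul ℕ]
  constructor
  · rintro ⟨w, hw⟩
    refine ⟨w + vw - A • vw, ?_⟩
    rw [e2, smul_sub, smul_add, ← hw]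
    nth_rewrite 1 [e]
    abel
  · rintro ⟨w, hw⟩
    refine ⟨w - vw + A • vw, ?_⟩
    rw [smul_add, smul_sub, ← hw, e2]
    nth_rewrite 1 [e]
    abel

theorem U : ULink USide.u := FrameU.ulink ConcGrp.ξ_sq KDone.ker_C

/-- Two lattice vectors have the same image up to the centre if and only if they are congruent. -/
theorem eqz_iff {v w : leechLattice} : Eqz KDone.K (ShortQ.theta v) (ShortQ.theta w) ↔
    ∃ x : leechLattice, w - v = 2 • x := by
  have L := KDone.lft
  constructor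
  · intro h
    have e1 : Eqz KDone.K (ShortQ.theta (w + -v)) (ShortQ.theta w * ShortQ.theta (-v)) := L.add _ _
    have e2 := (Eqz.refl (M := KDone.K) (ShortQ.theta w)).mul (θ_neg L v)
    have e3 := (Eqz.refl (M := KDone.K) (ShortQ.theta w)).mul h
    have e4 : Eqz KDone.K (ShortQ.theta w * ShortQ.theta w) 1 := by
      rcases L.sq (ShortQ.theta w) with e | e
      · exact Or.inl e
      · right; rw [e, mul_one]
    have e5 := ((e1.trans e2).trans e3).trans e4
    rw [← sub_eq_add_neg] at e5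
    apply L.ker
    rcases e5 with e | e
    · exact Or.inl e
    · right; rwa [mul_one] at e
  · rintro ⟨x, hx⟩
    have e0 : w = v + 2 • x := by rw [← hx]; abel
    have e1 : Eqz KDone.K (ShortQ.theta w) (ShortQ.theta v * ShortQ.theta (2 • x)) := by
      rw [e0]; exact L.add _ _
    have e2 := (Eqz.refl (M := KDone.K) (ShortQ.theta v)).mul (θ_two L x)
    rw [mul_one] at e2
    exact (e1.trans e2).symm

/-- **The stabiliser of the frame**: an element of `C` is in `N` if and only if it maps `x_Ω` to `x_Ω` or `z x_Ω`. -/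
theorem mem_N_iff {g : ModelGeo.Γ} (hg : (g : V ≃ₗ[ℚ] V) ∈ C) :
    (g : V ≃ₗ[ℚ] V) ∈ Conc.N ↔ (g * aE * g⁻¹ = aE ∨ g * aE * g⁻¹ = zE * aE) := by
  have L := KDone.lft
  obtain ⟨A, α, T, hA⟩ := KDone.K.acts g (Subgroup.mem_subgroupOf.2 hg)
  have hinj := KDone.K.ι_injective (fun p hp => L.center p (fun y => mul_inv_eq_iff_eq_mul.1 (hp y)))
  have h1 := conj_ι hA pa
  rw [ι_a] at h1
  have h2 : KDone.K.ι (α pa) = g * aE * g⁻¹ := by rw [h1, mul_inv_cancel_right]
  have hz : zE * aE = KDone.K.ι (KDone.K.zc * pa) := by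
    rw [map_mul, ι_a]
    congr 1
    exact z_eq.symm
  have h3 : (g * aE * g⁻¹ = aE ∨ g * aE * g⁻¹ = zE * aE) ↔ Eqz KDone.K (α pa) pa := by
    rw [← h2, hz]
    constructor
    · rintro (h | h)
      · left
        rw [← ι_a] at h
        exact hinj h
      · right
        exact hinj h
    · rintro (h | h)
      · left; rw [h, ι_a]
      · right; rw [h]
  have h4 : Eqz KDone.K pa (ShortQ.theta v8) := eqz_of_psi psi_v8
  have hz' := α_zc L α
  have h5 : Eqz KDone.K (α pa) pa ↔ Eqz KDone.K (ShortQ.theta (A • v8)) (ShortQ.theta v8) := by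
    have e1 : Eqz KDone.K (ShortQ.theta (A • v8)) (α (ShortQ.theta v8)) := act_θ L hA v8
    have e2 : Eqz KDone.K (α pa) (α (ShortQ.theta v8)) := h4.map α hz'
    constructor
    · intro h
      exact ((e1.trans e2.symm).trans h).trans h4
    · intro h
      exact ((e2.trans e1.symm).trans h).trans h4.symm
  have h6 : R USide.u ⟨g, hg⟩ A := fun v => hA.act_u v
  rw [h3, h5, eqz_iff, ← fixes_iff, ← fix_iff U.ind h6]
  exact (U.frames.stab ⟨g, hg⟩).symm

/-! ### The subgroups -/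

section subgroups

variable (hc : ∀ g ∈ InstData.M.G, g * InstData.M.z = InstData.M.z * g → g ∈ InstData.M.C)

include hc

theorem K_eq : KΓ = InstData.M.C.subgroupOf InstData.M.G := by
  ext g
  rw [Subgroup.mem_subgroupOf]
  exact mem_KΓ hc

/-- `K ∩ N` is the group generated by the monomial letters. -/
theorem mem_D {g : ModelGeo.Γ} : g ∈ KΓ ⊓ NΓ ↔ (g : V ≃ₗ[ℚ] V) ∈ Conc.N := by
  have pl := ModelGeo.plane
  constructor
  · intro h
    obtain ⟨h1, h2⟩ := Subgroup.mem_inf.1 h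
    have h3 := (mem_KΓ hc).1 h1
    rw [mem_N_iff h3]
    have h4 := Plane.conj_mem_V4 h2 a_mem_V4
    rw [mem_V4 pl.z_sq pl.a_sq pl.za] at h4
    have h5 := mem_K.1 h1
    rcases h4 with h4 | h4 | h4 | h4
    · exfalso
      rw [mul_inv_eq_one] at h4
      exact pl.a_ne (mul_eq_left.1 h4)
    · exfalso
      rw [← h5] at h4
      exact pl.a_ne_z (mul_left_cancel (mul_right_cancel h4))
    · exact Or.inl h4
    · exact Or.inr h4
  · intro h
    have h3 : (g : V ≃ₗ[ℚ] V) ∈ C := N_le_C h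
    have h1 : g ∈ KΓ := mem_KΓ_of_C h3
    refine Subgroup.mem_inf.2 ⟨h1, pl.mem_N_of ?_ ?_⟩
    · rw [mem_K.1 h1]
      exact z_mem_V4
    · rcases (mem_N_iff h3).1 h with e | e
      · rw [e]; exact a_mem_V4
      · rw [e]; exact mul_mem z_mem_V4 a_mem_V4

theorem D_eq : KΓ ⊓ NΓ = Conc.N.subgroupOf InstData.M.G := by
  ext g
  rw [Subgroup.mem_subgroupOf]
  exact mem_D hc

theorem K_smul {k : ModelGeo.Γ} (hk : k ∈ KΓ) (x : V) : k • x ∈ InstData.M.S ↔ x ∈ InstData.M.S := by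
  rw [SInst.S_eq KCompat.compat]
  exact SGraph.K_smul (M := SInst.K KCompat.compat) (Subgroup.mem_subgroupOf.2 ((mem_KΓ hc).1 hk)) x

theorem NΓ_closure {m : ModelGeo.Γ} (hm : m ∈ NΓ) :
    (m : V ≃ₗ[ℚ] V) ∈ Subgroup.closure ((Conc.N : Set (V ≃ₗ[ℚ] V)) ∪ {τ}) := by
  obtain ⟨t, ht, d, hd, rfl⟩ := ModelGeo.plane.N_eq hm
  have hτ : τ ∈ Subgroup.closure ((Conc.N : Set (V ≃ₗ[ℚ] V)) ∪ {τ}) := Subgroup.subset_closure (Or.inr rfl)
  refine Subgroup.mul_mem (Subgroup.closure ((Conc.N : Set (V ≃ₗ[ℚ] V)) ∪ {τ})) ?_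
    (Subgroup.subset_closure (Or.inl ((mem_D hc).1 hd)))
  simp only [Set.mem_insert_iff, Set.mem_singleton_iff] at ht
  rcases ht with rfl | rfl | rfl
  · exact one_mem _
  · exact hτ
  · exact mul_mem hτ hτ

theorem N_smul {m : ModelGeo.Γ} (hm : m ∈ NΓ) (x : V) : m • x ∈ T₀ ↔ x ∈ T₀ :=
  smul_mem_iff ConcGrp.tauData (NΓ_closure hc hm) x

/-- **The set data of the concrete model.** -/
theorem exists_setData {Γ : Type*} [Group Γ] {π : Γ →* ↥InstData.M.G} {H : Subgroup Γ} {n : Γ}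
    (D : CovData π H n a₀) (hn : π n • a₀ = b₀) (hb : D.Closed a₀ b₀ c₀) :
    ∃ s, SetData D KΓ NΓ InstData.M.S T₀ s := by
  obtain ⟨⟨s, hs, hs₀⟩, hS, had⟩ := SInst.exists_sheet KCompat.compat D hn hb
  exact ⟨s, hs, a₀_mem, T₀_sub, hS, connT D had, fun k hk x => K_smul hc hk x, fun m hm x => N_smul hc hm x, hs₀⟩

end subgroups

end Cfsg.Agent.MonsterP.SetInst
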