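import Cfsg.Agent.MonsterP.BaseOf
import Cfsg.Agent.MonsterP.NodeBase
import Cfsg.Agent.MonsterP.SetInst
import Cfsg.Agent.MonsterX.Instance

/-!
# S1705 from the concrete model

Everything put together for `InstData.M`.  Inputs: `FiFacts`, `BFacts`, `IsB Spor.BabyMonster`, `MOrbit InstData.M`,
the nodes (`NodesIn`), the geometry of level 1 (`Geo1`).
-/

set_option autoImplicit false
set_option maxRecDepth 100000

namespace Cfsg.Agent.MonsterP.Lit

open Cfsg Cfsg.Agent.MonsterX Cfsg.Agent.MonsterX.Space Cfsg.Agent.MonsterX.Conc Cfsg.Agent.MonsterX.Model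
open Cfsg.Agent.MonsterX.KSide Cfsg.Agent.MonsterX.KModel
open Cfsg.Agent.Bimonster Cfsg.Agent.Bimonster.Tits Cfsg.Agent.MonsterP.NhatData Cfsg.Agent.MonsterP.W2
open Cfsg.Agent.MonsterU.ModelGeo
open Cfsg.Agent.MonsterP.TZero Cfsg.Agent.MonsterP.SInst Cfsg.Agent.MonsterP.SetInst
open Cfsg.Agent.MonsterP.NodeData Cfsg.Agent.MonsterP.NodeBase

/-- The nodes in the group of the model. -/
structure NodesIn (y : ℕ → MonsterU.ModelGeo.Γ) : Prop where
  prel : PRel y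
  zrel : ZRel y
  gen : Subgroup.closure (nodes 14 y) = ⊤
  conj : ∀ i, i = 0 ∨ i = 5 ∨ i = 10 →
    (y i : V ≃ₗ[ℚ] V) = W (aw i) * InstData.M.t₀ * (W (aw i))⁻¹

theorem model (hO : MOrbit InstData.M) :
    H1Abs.Model InstData.M KDone.K KLinkInst.x₀ ShortQ.theta Spor.Co1 where
  link := KDone.lnk
  lift := KDone.lft
  group := Instance.mGroup
  rep := Instance.mRep
  lat := Instance.mLat
  orbit := hO
  trans := Instance.mTrans

/-- The centraliser of `z` is `C`. -/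
theorem cent (hO : MOrbit InstData.M) :
    ∀ g ∈ InstData.M.G, g * InstData.M.z = InstData.M.z * g → g ∈ InstData.M.C :=
  fun _ hg h => MainTrans.cent_z Instance.mGroup Instance.mRep Instance.mLat hO Instance.mTrans hg h

/-! ### The words as elements of the group -/

theorem gw_mem : W gw ∈ InstData.M.G := ConcGrp.W_mem_G (by decide +kernel)

/-- The element `g`. -/
noncomputable def gG : MonsterU.ModelGeo.Γ := ⟨W gw, gw_mem⟩

theorem aw_mem {i : ℕ} (h : i = 0 ∨ i = 5 ∨ i = 10) : W (aw i) ∈ InstData.M.G := by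
  rcases h with rfl | rfl | rfl <;> exact ConcGrp.W_mem_G (by decide +kernel)

open Classical in
/-- The element of the word `aw i`. -/
noncomputable def wG (i : ℕ) : MonsterU.ModelGeo.Γ :=
  if h : W (aw i) ∈ InstData.M.G then ⟨W (aw i), h⟩ else 1

theorem wG_coe {i : ℕ} (h : i = 0 ∨ i = 5 ∨ i = 10) : (wG i : V ≃ₗ[ℚ] V) = W (aw i) := by
  unfold wG
  rw [dif_pos (aw_mem h)]

theorem a_x₀ : KDone.K.a KLinkInst.x₀ = InstData.M.a₀ := KDone.lnk.a₀_eq.symm

theorem smul_gw {i : ℕ} (h : i = 0 ∨ i = 5 ∨ i = 10) :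
    (gG * wG i) • KDone.K.a KLinkInst.x₀ = W gw (NodeVec.ax i) := by
  rw [a_x₀, mul_smul]
  show W gw ((wG i : V ≃ₗ[ℚ] V) InstData.M.a₀) = _
  rw [wG_coe h]
  rfl

theorem a_xb' : KDone.K.a xb = a₀ := SInst.a_xb KCompat.compat

theorem a_x₁' : KDone.K.a x₁ = b₀ := SInst.a_x₁ KCompat.compat

theorem a_x₂' : KDone.K.a (KDone.K.zc * (xb * x₁)) = c₀ := SInst.a_x₂ KCompat.compat

/-- The base nodes of the conjugates by `g`. -/
theorem base (hO : MOrbit InstData.M) {y : ℕ → MonsterU.ModelGeo.Γ}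
    (hy : ∀ i, i = 0 ∨ i = 5 ∨ i = 10 → (y i : V ≃ₗ[ℚ] V) = W (aw i) * InstData.M.t₀ * (W (aw i))⁻¹) :
    H1Abs.Base KDone.K xb x₁ fun i => gG * y i * gG⁻¹ := by
  have hι : ∀ i, i = 0 ∨ i = 5 ∨ i = 10 → y i = wG i * KDone.K.ι KLinkInst.x₀ * (wG i)⁻¹ := by
    intro i hi
    apply Subtype.ext
    rw [hy i hi, KDone.lnk.t₀_eq]
    show _ = (wG i : V ≃ₗ[ℚ] V) * _ * (wG i : V ≃ₗ[ℚ] V)⁻¹
    rw [wG_coe hi]
  have hc : ∀ i, i = 0 ∨ i = 5 ∨ i = 10 →
      gG * y i * gG⁻¹ = (gG * wG i) * KDone.K.ι KLinkInst.x₀ * (gG * wG i)⁻¹ := by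
    intro i hi
    rw [hι i hi]
    group
  refine BaseOf.base (model hO) (h := fun i => gG * wG i) SInst.xb_mem (SInst.x₁_mem KCompat.compat)
    (SInst.ad₁ KCompat.compat) (hc 10 (by norm_num)) (hc 5 (by norm_num)) (hc 0 (by norm_num)) ?_ ?_ ?_
  · rw [smul_gw (by norm_num), g_10, a_xb', a₀_eq']
  · rw [smul_gw (by norm_num), g_5, a_x₁', ← a₀_eq']
    rfl
  · rw [smul_gw (by norm_num), g_0, a_x₂', ← a₀_eq']
    rfl

/-- Rewriting of the base point. -/
theorem setData (hO : MOrbit InstData.M) {Γ' : Type} [Group Γ'] {π : Γ' →* ↥InstData.M.G} {H : Subgroup Γ'}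
    {n : Γ'} {p q r : V} (hp : p = a₀) (hq : q = b₀) (hr : r = c₀) (C : CovData π H n p) (hn : π n • p = q)
    (hb : C.Closed p q r) : ∃ s, SetData C KΓ NΓ InstData.M.S T₀ s := by
  subst hp hq hr
  exact exists_setData (cent hO) C hn hb

/-- **S1705 from the concrete model.** -/
theorem isM (hF : FiFacts) (hBF : CovP.BFacts) (hIB : IsB Spor.BabyMonster) (hO : MOrbit InstData.M)
    {y : ℕ → MonsterU.ModelGeo.Γ} (hy : NodesIn y) {Q : V → Prop} {ht : V → ℕ}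
    (hgeo : H1Abs.Geo1 zE aE bE τE ξE y₁ Q ht a₀) : IsM Spor.Monster := by
  rw [← a_xb'] at hgeo
  exact H1Abs.isM_monster hF (model hO) (BaseOf.prel_conj gG hy.prel) (BaseOf.zrel_conj gG hy.zrel)
    (BaseOf.gen_conj gG hy.gen) (base hO hy.conj) hBF hIB hgeo
    (fun g hg => mem_KΓ_of_C (Subgroup.mem_subgroupOf.1 hg))
    (fun Γ' _ t π C hn hb => setData hO a_xb' a_x₁' a_x₂' C hn hb)

end Cfsg.Agent.MonsterP.Lit
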