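import Cfsg.Agent.MonsterP.W2

/-!
# Generation: `H` and the reversal `n̂` generate the presented group
-/

set_option autoImplicit false

namespace Cfsg.Agent.MonsterP.GenH

open Cfsg.Agent.Bimonster Cfsg.Agent.Bimonster.Tits Cfsg.Agent.MonsterP.NhatData
open Cfsg.Agent.MonsterP.Nhat Cfsg.Agent.MonsterP.W2

variable {Γ : Type*} [Group Γ] {t : ℕ → Γ}

/-- `H` and `n̂` generate everything generated by the nodes. -/
theorem closure_eq_top (hP : PRel t) (hgen : Subgroup.closure (nodes 14 t) = ⊤) :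
    Subgroup.closure ((HP t : Set Γ) ∪ {ev t nhW}) = ⊤ := by
  rw [eq_top_iff, ← hgen, Subgroup.closure_le]
  rintro _ ⟨i, hi, rfl⟩
  have hH : ∀ g ∈ HP t, g ∈ Subgroup.closure ((HP t : Set Γ) ∪ {ev t nhW}) :=
    fun g hg => Subgroup.subset_closure (Or.inl hg)
  have hn : ev t nhW ∈ Subgroup.closure ((HP t : Set Γ) ∪ {ev t nhW}) :=
    Subgroup.subset_closure (Or.inr rfl)
  have h4 := nh_conj hP.cox hP.f1a hP.f2a (i := 4) (by norm_num)
  change ev t nhW * t 4 * ev t nhW = t 9 at h4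
  interval_cases i
  all_goals first
    | exact hH _ (mem_HP (by decide))
    | exact hH _ (t5_mem hP.f1a)
    | exact hH _ (t10_mem hP.f2a)
    | (show t 9 ∈ _
       rw [← h4]
       exact Subgroup.mul_mem _ (Subgroup.mul_mem _ hn (hH _ (mem_HP (by decide)))) hn)

end Cfsg.Agent.MonsterP.GenH
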