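import Cfsg.Agent.MonsterP.MFactsInst
import Cfsg.Agent.MonsterP.GenH
import Cfsg.Agent.MonsterP.PlaneIn
import Cfsg.Agent.Bimonster.Final

/-!
# The presented group is the group of the model

All inputs of the covering argument put together: `Γ` is generated by elements `t` with `PRel t`,
`π : Γ → G` is onto the group of the model, the nodes 10, 5, 0 are mapped to `ι o`, `ι o'`, `ι (z o o')`.
-/

set_option autoImplicit false

namespace Cfsg.Agent.MonsterP.H1Abs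

open Cfsg Cfsg.Agent.LeechMat.Core Cfsg.Agent.MonsterX.KSide Cfsg.Agent.MonsterX.KLift
  Cfsg.Agent.MonsterX.KModel Cfsg.Agent.MonsterX.Model
  Cfsg.Agent.Bimonster Cfsg.Agent.Bimonster.Tits Cfsg.Agent.MonsterP.NhatData
  Cfsg.Agent.MonsterP.SChar Cfsg.Agent.MonsterP.W2 Cfsg.Agent.MonsterP.CovP
open Cfsg.Agent.MonsterU.Local (Inv LocHyp)
open Cfsg.Agent.MonsterU.PlaneGeo (Plane)

/-- The images of the nodes 10, 5, 0. -/
structure Base {G V P W : Type*} [Group G] [AddCommGroup V] [Module ℚ V] [DistribMulAction G V]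
    [SMulCommClass G ℚ V] [Group P] [AddCommGroup W] [Module ℚ W] (M : KS G V P W) (o o' : P)
    (y : ℕ → G) : Prop where
  mem : o ∈ M.Sh
  mem' : o' ∈ M.Sh
  ad : Ad M o o'
  e10 : y 10 = M.ι o
  e5 : y 5 = M.ι o'
  e0 : y 0 = M.ι (M.zc * (o * o'))

variable {V P W : Type} [AddCommGroup V] [Module ℚ V] [Group P] [AddCommGroup W] [Module ℚ W]

/-- The facts on the model. -/
structure Model (D : MData V) (M : KS ↥D.G V P W) (x₀ : P) (θ : leechLattice → P) (K₀ : Type)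
    [Group K₀] : Prop where
  link : Link D M x₀
  lift : Lift M θ
  group : MGroup D K₀
  rep : MRep D
  lat : MLat D
  orbit : MOrbit D
  trans : MTrans D

/-- The geometry: the plane, the lines with two points of the lowest type, the height function of level 1. -/
structure Geo1 {G X : Type*} [Group G] [MulAction G X] (z a b τ ξ y : G) (Q : X → Prop) (ht : X → ℕ)
    (x₀ : X) : Prop where
  plane : Plane z a b τ ξ y
  gen : Subgroup.closure ((MonsterU.PlaneGeo.K z : Set G) ∪ {τ}) = ⊤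
  ξ_sq : ξ * ξ = 1
  τ_o : τ • x₀ = x₀
  ξ_o : ξ • x₀ = x₀
  y_o : y • x₀ = x₀
  hT : ∀ k ∈ MonsterU.PlaneGeo.K z,
    (∃ k' ∈ MonsterU.PlaneGeo.K z, τ • k • x₀ = k' • x₀ ∨ τ⁻¹ • k • x₀ = k' • x₀) →
      ∃ d ∈ MonsterU.PlaneGeo.K z ⊓ MonsterU.PlaneGeo.N z a, k • x₀ = d • x₀
  inv : Inv (MonsterU.PlaneGeo.K z) Q ht
  loc : LocHyp (MonsterU.PlaneGeo.K z) (MonsterU.PlaneGeo.K z ⊓ MonsterU.PlaneGeo.N z a) τ ξ Q ht
  hQ : ∀ g : G, Q (g • x₀)
  bound : ∃ b, ∀ g : G, ht (g • x₀) ≤ b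
  zero : ∀ g : G, ht (g • x₀) = 0 ↔ ∃ k ∈ MonsterU.PlaneGeo.K z, g • x₀ = k • x₀

variable {D : MData V} {M : KS ↥D.G V P W} {x₀ : P} {θ : leechLattice → P} {K₀ : Type} [Group K₀]
variable {Γ : Type*} [Group Γ] {t : ℕ → Γ} {π : Γ →* D.G} {o o' : P}

section

variable (hP : PRel t) (hM : Model D M x₀ θ K₀) (hB : Base M o o' fun i => π (t i))

include hP hM hB

theorem covData (hBF : BFacts) (hIB : IsB Spor.BabyMonster) (hsurj : Function.Surjective π) :
    CovData π (HP t) (ev t nhW) (M.a o) :=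
  CovP.covData hBF hP (MFactsInst.mfacts hP hM.link hM.lift hM.group hM.rep hM.lat hM.orbit hM.trans
    hIB hB.mem hB.mem' hB.ad hB.e10 hB.e5) hsurj

theorem smul_nh : π (ev t nhW) • M.a o = M.a o' :=
  HB.smul_nh hP hM.link hM.lift hM.group hM.rep hM.lat hM.orbit hM.trans hB.mem hB.mem' hB.e10 hB.e5

theorem edge : SGraph.Edge M π (ev t nhW) o o' :=
  HB.edge hP hM.link hM.lift hM.group hM.rep hM.lat hM.orbit hM.trans hB.mem hB.mem' hB.ad hB.e10 hB.e5

theorem closed (C : CovData π (HP t) (ev t nhW) (M.a o)) :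
    C.Closed (M.a o) (M.a o') (M.a (M.zc * (o * o'))) :=
  HB.closed hP hM.link hM.lift hM.group hM.rep hM.lat hM.orbit hM.trans C hB.mem hB.mem' hB.ad
    hB.e10 hB.e5 hB.e0

theorem nh_mem_K : π (ev t nhW) ∈ M.K :=
  AxisInj.nh_mem_K hP hM.link hM.lift hM.group hM.rep hM.lat hM.orbit hM.trans hB.mem hB.mem' hB.ad
    hB.e10 hB.e5 hB.e0

/-- **`π` is an isomorphism.** -/
theorem bijective (hgen : Subgroup.closure (nodes 14 t) = ⊤) (hBF : BFacts)
    (hIB : IsB Spor.BabyMonster) (hsurj : Function.Surjective π) {z a b τ ξ y : D.G}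
    {Q : V → Prop} {ht : V → ℕ} (hgeo : Geo1 z a b τ ξ y Q ht (M.a o))
    (hK : ∀ g ∈ M.K, g ∈ MonsterU.PlaneGeo.K z) {S T₀ : Set V}
    (hSD : ∀ C : CovData π (HP t) (ev t nhW) (M.a o), π (ev t nhW) • M.a o = M.a o' →
      C.Closed (M.a o) (M.a o') (M.a (M.zc * (o * o'))) →
      ∃ s, SetData C (MonsterU.PlaneGeo.K z) (MonsterU.PlaneGeo.N z a) S T₀ s) :
    Function.Bijective π := by
  have C := covData hP hM hB hBF hIB hsurj
  obtain ⟨s, hs⟩ := hSD C (smul_nh hP hM hB) (closed hP hM hB C)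
  exact PlaneIn.bijective hgeo.plane hs (hK _ (nh_mem_K hP hM hB)) (GenH.closure_eq_top hP hgen) hgeo.gen
    hgeo.ξ_sq hgeo.τ_o hgeo.ξ_o hgeo.y_o hgeo.hT hgeo.inv hgeo.loc hgeo.hQ hgeo.bound hgeo.zero

end

/-- **S1705 from an isomorphism with the group of the model.** -/
theorem isM_of_bijective (hF : FiFacts) {G : Type} [Group G] (hIM : IsM G) {v : ℕ → G} (hv : PRel v)
    (hz : ZRel v) (hgen : Subgroup.closure (nodes 14 v) = ⊤)
    (H1 : ∀ (Γ : Type) [Group Γ] (t : ℕ → Γ) (π : Γ →* G), PRel t →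
      Subgroup.closure (nodes 14 t) = ⊤ → (∀ i < 14, π (t i) = v i) → Function.Surjective π →
      Function.Bijective π) : IsM Spor.Monster := by
  obtain ⟨π, hπ⟩ := xM_univ G v hv
  have hsurj : Function.Surjective π := by
    rw [← MonoidHom.range_eq_top, eq_top_iff, ← hgen, Subgroup.closure_le]
    rintro _ ⟨i, hi, rfl⟩
    exact ⟨xM i, hπ i hi⟩
  have e : PM ≃* G := MulEquiv.ofBijective π (H1 PM xM π xM_prel xM_gen hπ hsurj)
  have : Finite G := Nat.finite_of_card_ne_zero (by rw [hIM.2]; norm_num)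
  refine Bimonster.isM_monster hF hIM hv hz hgen (Finite.of_equiv _ e.symm.toEquiv) ?_
  rw [Nat.card_congr e.toEquiv, hIM.2]

/-- **S1705 from the model.** -/
theorem isM_monster (hF : FiFacts) (hM : Model D M x₀ θ K₀) {v : ℕ → D.G} (hv : PRel v) (hz : ZRel v)
    (hgen : Subgroup.closure (nodes 14 v) = ⊤) (hB : Base M o o' v) (hBF : BFacts)
    (hIB : IsB Spor.BabyMonster) {z a b τ ξ y : D.G} {Q : V → Prop} {ht : V → ℕ}
    (hgeo : Geo1 z a b τ ξ y Q ht (M.a o)) (hK : ∀ g ∈ M.K, g ∈ MonsterU.PlaneGeo.K z) {S T₀ : Set V}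
    (hSD : ∀ (Γ : Type) [Group Γ] (t : ℕ → Γ) (π : Γ →* D.G) (C : CovData π (HP t) (ev t nhW) (M.a o)),
      π (ev t nhW) • M.a o = M.a o' → C.Closed (M.a o) (M.a o') (M.a (M.zc * (o * o'))) →
      ∃ s, SetData C (MonsterU.PlaneGeo.K z) (MonsterU.PlaneGeo.N z a) S T₀ s) :
    IsM Spor.Monster := by
  refine isM_of_bijective hF
    (MonsterX.MainSimple.isM hM.group hM.rep hM.lat hM.orbit hM.trans) hv hz hgen ?_
  intro Γ _ t π hP hgen' hπ hsurj
  have hB' : Base M o o' fun i => π (t i) :=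
    ⟨hB.mem, hB.mem', hB.ad, by rw [hπ 10 (by norm_num)]; exact hB.e10,
      by rw [hπ 5 (by norm_num)]; exact hB.e5, by rw [hπ 0 (by norm_num)]; exact hB.e0⟩
  exact bijective hP hM hB' hgen' hBF hIB hsurj hgeo hK (hSD Γ t π)

end Cfsg.Agent.MonsterP.H1Abs
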