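/-
The centraliser of the node `f₂` is generated by the nodes of `Y₄₃₃` (from the order of the presented Baby Monster).
-/
import Cfsg.Agent.Bimonster.Graph
import Cfsg.Prelude.Def_Spor_B
import Cfsg.Prelude.Def_Sporadic

set_option autoImplicit false

namespace Cfsg.Agent.MonsterP.NodesCent

open Cfsg.Agent.Bimonster Cfsg.Agent.Bimonster.Tits Cfsg.Spor

/-- the nodes of `Y₄₃₃` -/
def nd : BabyMonster.Gen → ℕ
  | .t1 => 4
  | .t2 => 3
  | .t3 => 2
  | .t4 => 1
  | .t5 => 0
  | .t6 => 6
  | .t7 => 7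
  | .t8 => 8
  | .t9 => 11
  | .t10 => 12
  | .t11 => 13

theorem nd_lt (x : BabyMonster.Gen) : nd x < 14 := by cases x <;> decide

theorem nd_adj (x : BabyMonster.Gen) : adjB (nd x) 10 = false := by cases x <;> decide

theorem label (x y : BabyMonster.Gen) :
    (coxLabel BabyMonster.edges x y = 1 ∧ nd x = nd y) ∨
    (coxLabel BabyMonster.edges x y = 2 ∧ adjB (nd x) (nd y) = false) ∨
    (coxLabel BabyMonster.edges x y = 3 ∧ adjB (nd x) (nd y) = true) := by
  cases x <;> cases y <;> decide

variable {Γ : Type} [Group Γ]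

theorem cox_pow {t : ℕ → Γ} (h : CoxRel 14 t) (x y : BabyMonster.Gen) :
    (t (nd x) * t (nd y)) ^ coxLabel BabyMonster.edges x y = 1 := by
  have hx := h.sq _ (nd_lt x)
  have hy := h.sq _ (nd_lt y)
  rcases label x y with ⟨h1, h2⟩ | ⟨h1, h2⟩ | ⟨h1, h2⟩
  · rw [h1, pow_one, h2, hy]
  · rw [h1, pow_two]
    have := h.cm _ (nd_lt x) _ (nd_lt y) h2
    calc t (nd x) * t (nd y) * (t (nd x) * t (nd y)) = t (nd x) * t (nd y) * (t (nd y) * t (nd x)) := by rw [this]
      _ = t (nd x) * (t (nd y) * t (nd y)) * t (nd x) := by group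
      _ = 1 := by rw [hy, mul_one, hx]
  · rw [h1, pow_succ, pow_two]
    have := h.br _ (nd_lt x) _ (nd_lt y) h2
    calc t (nd x) * t (nd y) * (t (nd x) * t (nd y)) * (t (nd x) * t (nd y)) =
        (t (nd x) * t (nd y) * t (nd x)) * (t (nd y) * t (nd x) * t (nd y)) := by group
      _ = (t (nd x) * t (nd y) * t (nd x)) * (t (nd x) * t (nd y) * t (nd x)) := by rw [this]
      _ = t (nd x) * t (nd y) * (t (nd x) * t (nd x)) * t (nd y) * t (nd x) := by group
      _ = t (nd x) * (t (nd y) * t (nd y)) * t (nd x) := by rw [hx]; group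
      _ = 1 := by rw [hy, mul_one, hx]

theorem ev_f2 {t : ℕ → Γ} (h : CoxRel 14 t) : ev t [0, 1, 2, 6, 7, 8, 11] = ev t f2a := by
  have := run_sound h.valid (ms := [7, 4, 16, 13, 10, 13]) (n := 0) (n' := 0) (w := [0, 1, 2, 6, 7, 8, 11])
    (w' := f2a) (by decide)
  simpa using this

theorem ev_f3 {t : ℕ → Γ} (h : CoxRel 14 t) : ev t [0, 1, 2, 6, 11, 12, 13] = ev t f3a := by
  have := run_sound h.valid (ms := [10, 7, 4, 10, 13]) (n := 0) (n' := 0) (w := [0, 1, 2, 6, 11, 12, 13])
    (w' := f3a) (by decide)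
  simpa using this

/-- the relators of the Baby Monster up to the central element `f₂` -/
theorem rel {t : ℕ → Γ} (h : PRel t) (r : FreeGroup BabyMonster.Gen)
    (hr : r ∈ coxRelators BabyMonster.edges ∪ {r | r ∈ BabyMonster.extra}) :
    FreeGroup.lift (fun x => t (nd x)) r = 1 ∨ FreeGroup.lift (fun x => t (nd x)) r = t 10 := by
  rcases hr with ⟨x, -, y, -, rfl⟩ | hr
  · left
    rw [map_pow, map_mul, FreeGroup.lift_apply_of, FreeGroup.lift_apply_of, cox_pow h.cox]
  · simp only [BabyMonster.extra, Set.mem_ofPred_eq, List.mem_cons, List.not_mem_nil, or_false] at hr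
    rcases hr with rfl | rfl | rfl
    · left
      rw [← h.spider, map_pow]
      congr 1
    · right
      rw [h.f2a, map_pow, ← ev_f2 h.cox]
      congr 1
    · left
      rw [← h.f3a, map_pow, ← ev_f3 h.cox]
      congr 1

/-- adjacent commuting nodes are equal -/
theorem eq_of_comm {t : ℕ → Γ} (h : CoxRel 14 t) {i j : ℕ} (hi : i < 14) (hj : j < 14) (ha : adjB i j = true)
    (hc : t i * t j = t j * t i) : t i = t j := by
  have h1 := h.br i hi j hj ha
  rw [hc, mul_assoc, h.sq i hi, mul_one] at h1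
  calc t i = t j * t j * t i := by rw [h.sq j hj, one_mul]
    _ = t j * t i * t j := by rw [mul_assoc, mul_assoc, hc]
    _ = t j := h1.symm

theorem cent_le [Finite Γ] (hB : Cfsg.IsB BabyMonster) {t : ℕ → Γ} (h : PRel t) (hf : t 10 ≠ 1)
    (hcard : Nat.card (Subgroup.centralizer ({t 10} : Set Γ)) = 2 * 4154781481226426191177580544000000) :
    Subgroup.centralizer ({t 10} : Set Γ) ≤ Subgroup.closure (nodes 14 t) := by
  obtain ⟨hS, hBc⟩ := hB
  have hff : t 10 * t 10 = 1 := h.cox.sq 10 (by norm_num)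
  let C := Subgroup.centralizer ({t 10} : Set Γ)
  have hmem : ∀ x : BabyMonster.Gen, t (nd x) ∈ C := fun x =>
    Subgroup.mem_centralizer_singleton_iff.2 (h.cox.cm _ (nd_lt x) 10 (by norm_num) (nd_adj x))
  let f : C := ⟨t 10, Subgroup.mem_centralizer_singleton_iff.2 rfl⟩
  have hfc : ∀ c : C, c * f = f * c := fun c => Subtype.ext (Subgroup.mem_centralizer_singleton_iff.1 c.2)
  have hf1 : f * f = 1 := Subtype.ext hff
  have hfne : f ≠ 1 := fun e => hf (congrArg Subtype.val e)
  let Z : Subgroup C := Subgroup.zpowers f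
  have hZmem : ∀ c : C, c ∈ Z → c = 1 ∨ c = f := by
    intro c hc
    obtain ⟨k, rfl⟩ := hc
    rcases Int.even_or_odd' k with ⟨m, rfl | rfl⟩
    · left
      show f ^ (2 * m) = 1
      rw [zpow_mul, show f ^ (2 : ℤ) = 1 from by rw [zpow_two, hf1], one_zpow]
    · right
      show f ^ (2 * m + 1) = f
      rw [zpow_add, zpow_mul, show f ^ (2 : ℤ) = 1 from by rw [zpow_two, hf1], one_zpow, one_mul, zpow_one]
  have hZf : f ∈ Z := Subgroup.mem_zpowers f
  have hZn : Z.Normal := by
    refine ⟨fun n hn g => ?_⟩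
    rcases hZmem n hn with rfl | rfl
    · rw [mul_one, mul_inv_cancel]; exact Z.one_mem
    · rw [hfc g, mul_inv_cancel_right]; exact hZf
  have hZc : Nat.card Z = 2 := by
    rw [Nat.card_zpowers]
    exact orderOf_eq_prime (by rw [pow_two, hf1]) hfne
  let g : BabyMonster.Gen → C := fun x => ⟨t (nd x), hmem x⟩
  have hg : ∀ r, ((FreeGroup.lift g r : C) : Γ) = FreeGroup.lift (fun x => t (nd x)) r := by
    intro r
    have : C.subtype.comp (FreeGroup.lift g) = FreeGroup.lift (fun x => t (nd x)) := by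
      ext x; simp [g]
    exact DFunLike.congr_fun this r
  let π : C →* C ⧸ Z := QuotientGroup.mk' Z
  have hrel : ∀ r ∈ coxRelators BabyMonster.edges ∪ {r | r ∈ BabyMonster.extra},
      FreeGroup.lift (fun x => π (g x)) r = 1 := by
    intro r hr
    have h1 : FreeGroup.lift (fun x => π (g x)) r = π (FreeGroup.lift g r) := by
      have : π.comp (FreeGroup.lift g) = FreeGroup.lift (fun x => π (g x)) := by
        ext x; simp
      exact (DFunLike.congr_fun this r).symm
    rw [h1]
    have h2 : FreeGroup.lift g r ∈ Z := by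
      rcases rel h r hr with h3 | h3
      · have : FreeGroup.lift g r = 1 := Subtype.ext ((hg r).trans h3)
        rw [this]; exact Z.one_mem
      · have : FreeGroup.lift g r = f := Subtype.ext ((hg r).trans h3)
        rw [this]; exact hZf
    exact (QuotientGroup.eq_one_iff _).2 h2
  let φ : BabyMonster →* C ⧸ Z := PresentedGroup.toGroup hrel
  have hφ : ∀ x, φ (PresentedGroup.of x) = π (g x) := fun x => PresentedGroup.toGroup.of hrel
  have hφr : ∀ r : FreeGroup BabyMonster.Gen, φ (PresentedGroup.mk _ r) = π (FreeGroup.lift g r) := by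
    intro r
    have : φ.comp (PresentedGroup.mk _) = π.comp (FreeGroup.lift g) := by
      ext x
      simp only [MonoidHom.comp_apply, FreeGroup.lift_apply_of]
      exact hφ x
    exact DFunLike.congr_fun this r
  -- injectivity
  have hinj : Function.Injective φ := by
    rcases hS.eq_bot_or_eq_top_of_normal φ.ker inferInstance with h1 | h1
    · exact (MonoidHom.ker_eq_bot_iff φ).1 h1
    · exfalso
      have h2 : ∀ x, t (nd x) = 1 ∨ t (nd x) = t 10 := by
        intro x
        have h3 : φ (PresentedGroup.of x) = 1 := by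
          rw [← MonoidHom.mem_ker, h1]; trivial
        rw [hφ] at h3
        rcases hZmem _ ((QuotientGroup.eq_one_iff _).1 h3) with h4 | h4
        · left; exact congrArg Subtype.val h4
        · right; exact congrArg Subtype.val h4
      have hcm : ∀ x y, t (nd x) * t (nd y) = t (nd y) * t (nd x) := by
        intro x y
        rcases h2 x with h3 | h3 <;> rcases h2 y with h4 | h4 <;> rw [h3, h4] <;> simp
      have e1 : t 1 = t 0 := eq_of_comm h.cox (by norm_num) (by norm_num) (by decide) (hcm .t4 .t5)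
      have e2 : t 2 = t 1 := eq_of_comm h.cox (by norm_num) (by norm_num) (by decide) (hcm .t3 .t4)
      have e6 : t 6 = t 0 := eq_of_comm h.cox (by norm_num) (by norm_num) (by decide) (hcm .t6 .t5)
      have e7 : t 7 = t 6 := eq_of_comm h.cox (by norm_num) (by norm_num) (by decide) (hcm .t7 .t6)
      have e8 : t 8 = t 7 := eq_of_comm h.cox (by norm_num) (by norm_num) (by decide) (hcm .t8 .t7)
      have e11 : t 11 = t 0 := eq_of_comm h.cox (by norm_num) (by norm_num) (by decide) (hcm .t9 .t5)
      have e12 : t 12 = t 11 := eq_of_comm h.cox (by norm_num) (by norm_num) (by decide) (hcm .t10 .t9)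
      have e13 : t 13 = t 12 := eq_of_comm h.cox (by norm_num) (by norm_num) (by decide) (hcm .t11 .t10)
      have s0 : t 0 * t 0 = 1 := h.cox.sq 0 (by norm_num)
      have h3 := h.f3a
      have h4 := h.f2a
      have e : ev t f3a = ev t f2a := by
        simp only [f3a, f2a, ev_cons, ev_nil, e1, e2, e6, e7, e8, e11, e12, e13]
      rw [e] at h3
      exact hf (h4.trans h3)
  -- counting
  have hQ : Nat.card (C ⧸ Z) = 4154781481226426191177580544000000 := by
    have h1 := Subgroup.card_eq_card_quotient_mul_card_subgroup Z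
    have h2 : Nat.card C = 2 * 4154781481226426191177580544000000 := hcard
    rw [hZc, h2] at h1
    omega
  have hfinC : Finite C := inferInstance
  have hfinQ : Finite (C ⧸ Z) := Quotient.finite _
  have hsurj : Function.Surjective φ := by
    have hb : Function.Bijective φ := by
      rw [Nat.bijective_iff_injective_and_card]
      exact ⟨hinj, by rw [hBc, hQ]⟩
    exact hb.2
  intro c hc
  obtain ⟨b, hb⟩ := hsurj (π ⟨c, hc⟩)
  obtain ⟨r, rfl⟩ := PresentedGroup.mk_surjective _ b
  rw [hφr] at hb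
  have h1 : (FreeGroup.lift g r)⁻¹ * ⟨c, hc⟩ ∈ Z := by
    rw [← QuotientGroup.eq]; exact hb
  have hcl : ∀ i, i < 14 → t i ∈ Subgroup.closure (nodes 14 t) := fun i hi => Subgroup.subset_closure ⟨i, hi, rfl⟩
  have h2 : ∀ r : FreeGroup BabyMonster.Gen, FreeGroup.lift (fun x => t (nd x)) r ∈ Subgroup.closure (nodes 14 t) := by
    intro r
    have h3 := FreeGroup.range_lift_le (f := fun x => t (nd x)) (s := Subgroup.closure (nodes 14 t)) (by
      rintro _ ⟨x, rfl⟩
      exact hcl _ (nd_lt x))
    exact h3 ⟨r, rfl⟩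
  have h3 : c = FreeGroup.lift (fun x => t (nd x)) r * (((FreeGroup.lift g r)⁻¹ * ⟨c, hc⟩ : C) : Γ) := by
    rw [← hg, ← Subgroup.coe_mul, mul_inv_cancel_left]
  rw [h3]
  refine Subgroup.mul_mem _ (h2 r) ?_
  rcases hZmem _ h1 with h4 | h4
  · rw [h4]; exact Subgroup.one_mem _
  · rw [h4]; exact hcl 10 (by norm_num)

end Cfsg.Agent.MonsterP.NodesCent
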