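import Cfsg.Agent.MonsterP.NodesGen
import Cfsg.Agent.MonsterP.NodesCent
import Cfsg.Agent.MonsterP.H1Abs

/-!
# The nodes generate the Monster

In the group of the 196884-dimensional model: if `v` satisfies the relations `PRel` and `v 10 = ι o`, `v 5 = ι o'` for
adjacent short elements `o`, `o'`, then `v 0, …, v 13` generate the group.
-/

set_option autoImplicit false

namespace Cfsg.Agent.MonsterP.NodesMain

open Cfsg Cfsg.Agent.LeechMat.Core Cfsg.Agent.MonsterX.KSide Cfsg.Agent.MonsterX.KLift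
  Cfsg.Agent.MonsterX.KModel Cfsg.Agent.MonsterX.Model Cfsg.Agent.MonsterX.MainTrans
  Cfsg.Agent.MonsterX.MainBasic
  Cfsg.Agent.Bimonster Cfsg.Agent.Bimonster.Tits
  Cfsg.Agent.MonsterP.SChar Cfsg.Agent.MonsterP.H1Abs

variable {V P W : Type} [AddCommGroup V] [Module ℚ V] [Group P] [AddCommGroup W] [Module ℚ W]
variable {D : MData V} {M : KS ↥D.G V P W} {x₀ : P} {θ : leechLattice → P} {K₀ : Type} [Group K₀]

theorem F_of_ad (H : Link D M x₀) {x y : P} (hx : x ∈ M.Sh) (hy : y ∈ M.Sh) (h : Ad M x y) :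
    D.F (M.a x) (M.a y) = 1 := by
  rw [H.F_eq]
  exact SGraph.B_of_ad hx hy h

theorem mem_S (H : Link D M x₀) (L : Lift M θ) {x : P} (hx : x ∈ M.Sh) : M.a x ∈ D.S := by
  rw [H.S_eq L]
  exact ⟨x, hx, rfl⟩

/-- `C` is transitive on the pairs of axes in `S` with inner product `1`. -/
theorem tr (H : Link D M x₀) (L : Lift M θ) (hR : MRep D) : NodesGen.Tr D := by
  intro c hc h c' hc' h'
  rw [H.S_eq L] at hc hc'
  obtain ⟨y, hy, rfl⟩ := hc
  obtain ⟨y', hy', rfl⟩ := hc'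
  rw [H.a₀_eq, hR.F_symm, H.F_eq] at h h'
  obtain ⟨k, α, hk, h1, h2⟩ := trans_pair L H.x₀_mem hy H.x₀_mem hy' (SGraph.ad_of_B H.x₀_mem hy h)
    (SGraph.ad_of_B H.x₀_mem hy' h')
  refine ⟨k, (H.C_iff k).1 hk.1, ?_, ?_⟩
  · rw [H.a₀_eq]
    have h3 := hk.smul_a H.x₀_mem
    rw [h1] at h3
    exact h3
  · have h3 := hk.smul_a hy
    rw [h2] at h3
    exact h3

/-- the triangle -/
theorem tri (H : Link D M x₀) (L : Lift M θ) (hR : MRep D) {o o' : P} (ho : o ∈ M.Sh) (ho' : o' ∈ M.Sh)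
    (had : Ad M o o') :
    ∃ b ∈ D.S, ∃ c ∈ D.S, D.F b D.a₀ = 1 ∧ D.F c D.a₀ = 1 ∧ D.F b c = 1 := by
  obtain ⟨k, hk, A, α, T, hA, e⟩ := trans_Sh L o x₀ ho H.x₀_mem
  have hkC : (k : V ≃ₗ[ℚ] V) ∈ D.C := (H.C_iff k).1 hk
  have hm := mul_mem L ho ho' had
  have h0 : (k : V ≃ₗ[ℚ] V) (M.a o) = D.a₀ := by
    rw [H.a₀_eq, ← e]
    exact Link.smul_a hA o ho
  refine ⟨(k : V ≃ₗ[ℚ] V) (M.a o'), C_S hkC (mem_S H L ho'), (k : V ≃ₗ[ℚ] V) (M.a (o * o')),
    C_S hkC (mem_S H L hm), ?_, ?_, ?_⟩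
  · rw [← h0, hR.C_isom _ hkC, hR.F_symm]
    exact F_of_ad H ho ho' had
  · rw [← h0, hR.C_isom _ hkC, hR.F_symm]
    exact F_of_ad H ho hm (ad_mul_left L ho ho' had)
  · rw [hR.C_isom _ hkC]
    exact F_of_ad H ho' hm (ad_mul_right L ho ho' had)

/-- braided involutions are conjugate -/
theorem conj_of_br {G : Type*} [Group G] {v : ℕ → G} (h : CoxRel 14 v) {i j : ℕ} (hi : i < 14) (hj : j < 14)
    (ha : adjB i j = true) : (v i * v j) * v i * (v i * v j)⁻¹ = v j := by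
  have h1 := h.br i hi j hj ha
  have h2 := h.sq i hi
  have h3 := h.sq j hj
  rw [mul_inv_rev, inv_eq_of_mul_eq_one_left h2, inv_eq_of_mul_eq_one_left h3]
  calc v i * v j * v i * (v j * v i) = (v i * v j * v i) * v j * v i := by group
    _ = v j * v i * (v j * v j) * v i := by rw [h1]; group
    _ = v j := by rw [h3, mul_one, mul_assoc, h2, mul_one]

/-- the end nodes of the first two arms are conjugate in the group generated by the nodes -/
theorem exists_conj {G : Type*} [Group G] {v : ℕ → G} (h : CoxRel 14 v) :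
    ∃ g ∈ Subgroup.closure (nodes 14 v), g * v 10 * g⁻¹ = v 5 := by
  have key : ∀ l : List ℕ, ∀ i < 14, (∀ j ∈ l, j < 14) → List.IsChain (fun a b => adjB a b = true) (i :: l) →
      ∃ g ∈ Subgroup.closure (nodes 14 v), g * v i * g⁻¹ = v ((i :: l).getLast (by simp)) := by
    intro l
    induction l with
    | nil =>
      intro i _ _ _
      exact ⟨1, Subgroup.one_mem _, by simp⟩
    | cons j l ih =>
      intro i hi hl hc
      rw [List.isChain_cons_cons] at hc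
      have hj : j < 14 := hl j (by simp)
      obtain ⟨g, hg, h1⟩ := ih j hj (fun m hm => hl m (by simp [hm])) hc.2
      refine ⟨g * (v i * v j), Subgroup.mul_mem _ hg (Subgroup.mul_mem _ (Subgroup.subset_closure ⟨i, hi, rfl⟩)
        (Subgroup.subset_closure ⟨j, hj, rfl⟩)), ?_⟩
      rw [List.getLast_cons (by simp), ← h1]
      calc g * (v i * v j) * v i * (g * (v i * v j))⁻¹ = g * ((v i * v j) * v i * (v i * v j)⁻¹) * g⁻¹ := by group
        _ = g * v j * g⁻¹ := by rw [conj_of_br h hi hj hc.1]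
  obtain ⟨g, hg, h1⟩ := key [9, 8, 7, 6, 0, 1, 2, 3, 4, 5] 10 (by norm_num) (by decide) (by decide)
  exact ⟨g, hg, h1⟩

/-- **The nodes generate the Monster.** -/
theorem closure_eq_top (hM : Model D M x₀ θ K₀) {o o' : P} {v : ℕ → D.G} (hv : PRel v) (ho : o ∈ M.Sh)
    (ho' : o' ∈ M.Sh) (had : Ad M o o') (e10 : v 10 = M.ι o) (e5 : v 5 = M.ι o') (hIB : IsB Spor.BabyMonster)
    (hτ : D.τ D.a₀ = D.a₀) : Subgroup.closure (nodes 14 v) = ⊤ := by
  have hfin : Finite D.G := G_finite hM.orbit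
  set Cl := Subgroup.closure (nodes 14 v) with hCl
  -- the centraliser of node 10
  have hst : ∀ g : D.G, g ∈ Subgroup.centralizer ({v 10} : Set D.G) ↔ g • M.a o = M.a o := by
    intro g
    rw [Subgroup.mem_centralizer_singleton_iff,
      ← AxisInj.axis_iff hM.link hM.lift hM.group hM.rep hM.lat hM.orbit hM.trans ho ho, ← e10,
      mul_inv_eq_iff_eq_mul]
  have hcard : Nat.card (Subgroup.centralizer ({v 10} : Set D.G)) = 2 * 4154781481226426191177580544000000 := by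
    rw [← MFactsInst.card_stab hM.link hM.lift hM.group hM.rep hM.lat hM.orbit hM.trans ho]
    congr 2
    ext g
    rw [hst, MulAction.mem_stabilizer_iff]
  have hne : v 10 ≠ 1 := by
    rw [e10, ← map_one M.ι]
    intro h
    obtain ⟨q, hq⟩ := nc_of_mem hM.lift ho
    rw [Link.ι_inj hM.lift h, chi_eq_one, mul_one, mul_inv_cancel, mul_one] at hq
    exact M.zc_ne hq.symm
  have hcent := NodesCent.cent_le hIB hv hne hcard
  -- the stabilisers
  let Cv : Subgroup (V ≃ₗ[ℚ] V) := Cl.map D.G.subtype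
  have hCv : ∀ g : D.G, g ∈ Cl → (g : V ≃ₗ[ℚ] V) ∈ Cv := fun g hg => ⟨g, hg, rfl⟩
  have H₁ : NodesGen.St D Cv (M.a o) := by
    intro g hg hgs
    exact hCv ⟨g, hg⟩ (hcent ((hst ⟨g, hg⟩).2 hgs))
  obtain ⟨k, hk, hk5⟩ := exists_conj hv.cox
  have hka : k • M.a o = M.a o' :=
    (AxisInj.axis_iff hM.link hM.lift hM.group hM.rep hM.lat hM.orbit hM.trans ho ho').1 (by
      rw [← e10, ← e5]; exact hk5)
  have H₂ : NodesGen.St D Cv (M.a o') := by
    have h1 := H₁.conj k.2 (hCv k hk)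
    have h2 : (k : V ≃ₗ[ℚ] V) (M.a o) = M.a o' := hka
    rwa [h2] at h1
  have hle := NodesGen.G_le hM.rep hM.lat (tr hM.link hM.lift hM.rep) (H := Cv)
    (tri hM.link hM.lift hM.rep ho ho' had) hτ (mem_S hM.link hM.lift ho) (mem_S hM.link hM.lift ho')
    (by rw [hM.rep.F_symm]; exact F_of_ad hM.link ho ho' had) H₁ H₂
  rw [eq_top_iff]
  rintro g -
  obtain ⟨g', hg', e⟩ := hle g.2
  have : g' = g := Subtype.ext e
  rwa [← this]

end Cfsg.Agent.MonsterP.NodesMain
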