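import Cfsg.Agent.MonsterP.NodesNe
import Cfsg.Agent.MonsterP.NodesMain
import Cfsg.Agent.MonsterP.Lit
import Cfsg.Agent.MonsterX.LinesInst

/-!
# The nodes of the presentation in the group of the model

`y hO : ℕ → Γ` : the involutions of the nodes; `nodesIn hO hIB : Lit.NodesIn (y hO)`.
-/

set_option autoImplicit false

namespace Cfsg.Agent.MonsterP.NodesDone

open Cfsg Cfsg.Agent.MonsterX Cfsg.Agent.MonsterX.Space Cfsg.Agent.MonsterX.Conc Cfsg.Agent.MonsterX.Model
open Cfsg.Agent.Bimonster Cfsg.Agent.Bimonster.Tits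
open Cfsg.Agent.MonsterP.NodeData

/-- The hypotheses of `NodesInst`. -/
theorem hyp (hO : MOrbit InstData.M) : NodesConj.Hyp Spor.Co1 :=
  ⟨LinesInst.pack hO, Instance.mTrans, Instance.inv⟩

/-- The nodes. -/
noncomputable def y (hO : MOrbit InstData.M) : ℕ → MonsterU.ModelGeo.Γ := NodesGrp.y (hyp hO)

theorem prel (hO : MOrbit InstData.M) : PRel (y hO) := NodesGrp.prel (hyp hO)

theorem zrel (hO : MOrbit InstData.M) : ZRel (y hO) := NodesGrp.zrel (hyp hO)

theorem ne (hO : MOrbit InstData.M) : y hO 0 ≠ y hO 1 := NodesNe.ne (hyp hO)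

theorem conj (hO : MOrbit InstData.M) {i : ℕ} (hi : i < 24) :
    (y hO i : V ≃ₗ[ℚ] V) = W (aw i) * InstData.M.t₀ * (W (aw i))⁻¹ := NodesGrp.y_conj (hyp hO) hi

/-- The base nodes of the conjugates. -/
theorem base (hO : MOrbit InstData.M) :
    H1Abs.Base KDone.K SInst.xb SInst.x₁ fun i => Lit.gG * y hO i * Lit.gG⁻¹ :=
  Lit.base hO fun i hi => conj hO (by omega)

/-- The conjugates of the nodes generate. -/
theorem gen_conj (hO : MOrbit InstData.M) (hIB : IsB Spor.BabyMonster) :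
    Subgroup.closure (nodes 14 fun i => Lit.gG * y hO i * Lit.gG⁻¹) = ⊤ :=
  NodesMain.closure_eq_top (Lit.model hO) (BaseOf.prel_conj Lit.gG (prel hO)) (base hO).mem (base hO).mem'
    (base hO).ad (base hO).e10 (base hO).e5 hIB FieldsO.τ_a₀

/-- **The nodes generate.** -/
theorem gen (hO : MOrbit InstData.M) (hIB : IsB Spor.BabyMonster) : Subgroup.closure (nodes 14 (y hO)) = ⊤ := by
  have h := BaseOf.gen_conj Lit.gG⁻¹ (gen_conj hO hIB)
  have h1 : (fun i => Lit.gG⁻¹ * (Lit.gG * y hO i * Lit.gG⁻¹) * Lit.gG⁻¹⁻¹) = y hO := by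
    funext i
    group
  rwa [h1] at h

/-- **The nodes in the group of the model.** -/
theorem nodesIn (hO : MOrbit InstData.M) (hIB : IsB Spor.BabyMonster) : Lit.NodesIn (y hO) where
  prel := prel hO
  zrel := zrel hO
  gen := gen hO hIB
  conj i hi := conj hO (by omega)

end Cfsg.Agent.MonsterP.NodesDone
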