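import Cfsg.Agent.MonsterX.InstanceFinal
import Cfsg.Agent.MonsterP.NodesDone
import Cfsg.Agent.MonsterP.GeoDone
import Cfsg.Agent.MonsterP.EquivAbs

/-!
# The presented Monster is the group of the model (from the facts on the Baby Monster)

* `both` : the presented group `PM` and the Monster extracted from the Bimonster are isomorphic to the group of the
  model; the inputs are `FiFacts`, `BFacts` and `IsB Spor.BabyMonster`.
* `isM_model` : the order and the simplicity of the group of the model.
-/

set_option autoImplicit false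

namespace Cfsg.Agent.MonsterP.EquivOf

open Cfsg Cfsg.Agent.Bimonster Cfsg.Agent.Bimonster.Tits Cfsg.Agent.MonsterX

/-- Both isomorphisms; the first one maps the generators of `PM` to the conjugates of the nodes of the model. -/
theorem both (hF : FiFacts) (hBF : CovP.BFacts) (hIB : IsB Spor.BabyMonster) :
    (∃ e : PM ≃* ↥InstData.M.G, ∀ i < 14,
      e (xM i) = Lit.gG * NodesDone.y InstanceFinal.mOrbit i * Lit.gG⁻¹) ∧
    Nonempty (Spor.Monster ≃* ↥InstData.M.G) := by
  have hO := InstanceFinal.mOrbit
  have hy := NodesDone.nodesIn hO hIB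
  have hgeo := GeoDone.geo
  rw [← Lit.a_xb'] at hgeo
  exact EquivAbs.equiv_monster hF (Lit.model hO) (BaseOf.prel_conj Lit.gG hy.prel)
    (BaseOf.zrel_conj Lit.gG hy.zrel) (BaseOf.gen_conj Lit.gG hy.gen) (Lit.base hO hy.conj) hBF
    hIB hgeo (fun g hg => MonsterU.ModelGeo.mem_KΓ_of_C (Subgroup.mem_subgroupOf.1 hg))
    (fun Γ' _ t π C hn hb => Lit.setData hO Lit.a_xb' Lit.a_x₁' Lit.a_x₂' C hn hb)

/-- The order and the simplicity of the group of the model. -/
theorem isM_model : IsM ↥InstData.M.G :=
  MainSimple.isM Instance.mGroup Instance.mRep Instance.mLat InstanceFinal.mOrbit Instance.mTrans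

theorem isM (hF : FiFacts) (hBF : CovP.BFacts) (hIB : IsB Spor.BabyMonster) : IsM Spor.Monster :=
  Lit.isM hF hBF hIB InstanceFinal.mOrbit (NodesDone.nodesIn InstanceFinal.mOrbit hIB) GeoDone.geo

end Cfsg.Agent.MonsterP.EquivOf
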