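import Cfsg.Agent.S1704
import Cfsg.Agent.Bimonster.FiFacts
import Cfsg.Agent.MonsterP.BFactsInst
import Cfsg.Agent.MonsterP.EquivOf

/-!
# The presented Monster is the group of the model

* `equivPM` : the presented group `PM` is isomorphic to the group of the model;
* `equiv`   : the Monster extracted from the Bimonster is isomorphic to the group of the model;
* `simple`  : `PM` is simple; `equivM` : `Spor.Monster ≃* PM`.
-/

set_option autoImplicit false

namespace Cfsg.Agent.MonsterP.Equiv

open Cfsg Cfsg.Agent.Bimonster Cfsg.Agent.Bimonster.Tits Cfsg.Agent.MonsterX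

/-- The presented group is the group of the model. -/
theorem equivPM : Nonempty (PM ≃* ↥InstData.M.G) :=
  ⟨(EquivOf.both fi_facts BFactsInst.bFacts S1704.result).1.choose⟩

/-- **The Monster is the group of the model.** -/
theorem equiv : Nonempty (Spor.Monster ≃* ↥InstData.M.G) :=
  (EquivOf.both fi_facts BFactsInst.bFacts S1704.result).2

/-- The presented group is simple. -/
theorem simple : IsSimpleGroup PM := by
  obtain ⟨e⟩ := equivPM
  have := EquivOf.isM_model.1
  exact e.isSimpleGroup

theorem isM_PM : IsM PM := by
  obtain ⟨e⟩ := equivPM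
  exact ⟨simple, by rw [Nat.card_congr e.toEquiv, EquivOf.isM_model.2]⟩

/-- The Monster is the presented group. -/
theorem equivM : Nonempty (Spor.Monster ≃* PM) := by
  obtain ⟨e⟩ := equivPM
  obtain ⟨e'⟩ := equiv
  exact ⟨e'.trans e.symm⟩

theorem isM : IsM Spor.Monster := by
  obtain ⟨e⟩ := equiv
  have := EquivOf.isM_model.1
  exact ⟨e.isSimpleGroup, by rw [Nat.card_congr e.toEquiv, EquivOf.isM_model.2]⟩

end Cfsg.Agent.MonsterP.Equiv
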