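import Cfsg.Agent.MonsterU.LevelOneX
import Cfsg.Agent.MonsterU.LevAsm
import Cfsg.Agent.MonsterP.SetInst
import Cfsg.Agent.MonsterP.H1Abs

/-!
# The geometry of level 1 for the model

`geo1` : the structure `H1Abs.Geo1` for `InstData.M` from the facts on the axes (`LineTab.Tab`) and
`hc : C_G(z) ≤ C`.
-/

set_option autoImplicit false
set_option maxRecDepth 100000

namespace Cfsg.Agent.MonsterP.Geo1Inst

open Cfsg Cfsg.Agent.MonsterX Cfsg.Agent.MonsterX.Space Cfsg.Agent.MonsterX.Conc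
open Cfsg.Agent.MonsterU Cfsg.Agent.MonsterU.Local Cfsg.Agent.MonsterU.Types Cfsg.Agent.MonsterU.PlaneGeo
open Cfsg.Agent.MonsterU.ModelGeo Cfsg.Agent.MonsterU.LineTab
open Cfsg.Agent.MonsterP.TZero Cfsg.Agent.MonsterP.SetInst

variable {N' : Subgroup (V ≃ₗ[ℚ] V)} (T : Tab N')

include T in
/-- The group of the model preserves the axes. -/
theorem X_closed (g : ModelGeo.Γ) : ∀ x ∈ InstData.M.X, g • x ∈ InstData.M.X := by
  obtain ⟨g, hg⟩ := g
  have hg' : g ∈ Subgroup.closure ((C : Set (V ≃ₗ[ℚ] V)) ∪ {τ}) := hg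
  have key : ∀ g ∈ Subgroup.closure ((C : Set (V ≃ₗ[ℚ] V)) ∪ {τ}), (∀ x ∈ InstData.M.X, g x ∈ InstData.M.X) ∧
      ∀ x ∈ InstData.M.X, g⁻¹ x ∈ InstData.M.X := by
    intro g hg
    induction hg using Subgroup.closure_induction with
    | mem x hx =>
      rcases hx with hx | hx
      · exact ⟨fun w hw => X_smul (M := InstData.M) hx hw,
          fun w hw => X_smul (M := InstData.M) (C.inv_mem hx) hw⟩
      · rw [Set.mem_singleton_iff.1 hx]
        exact ⟨fun w hw => (T.tau w hw).1, fun w hw => (T.tau w hw).2⟩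
    | one => exact ⟨fun w hw => hw, fun w hw => by rw [inv_one]; exact hw⟩
    | mul x y _ _ hx hy =>
      refine ⟨fun w hw => hx.1 _ (hy.1 _ hw), fun w hw => ?_⟩
      rw [mul_inv_rev]
      exact hy.2 _ (hx.2 _ hw)
    | inv x _ hx => exact ⟨hx.2, fun w hw => by rw [inv_inv]; exact hx.1 w hw⟩
  exact (key g hg').1

theorem a₀_X : a₀ ∈ InstData.M.X := by
  refine ⟨(0 : Fin 12), 1, InstData.M.C.one_mem, ?_⟩
  rw [LevAsm.d_zero, MonsterU.VecLink.ax_eq]
  rfl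

theorem a₀_S : a₀ ∈ InstData.M.S := T₀_sub a₀_mem

variable (hc : ∀ g ∈ InstData.M.G, g * InstData.M.z = InstData.M.z * g → g ∈ InstData.M.C)

include T hc

/-- **The geometry of level 1.** -/
theorem geo1 : H1Abs.Geo1 zE aE bE τE ξE y₁ (fun x => x ∈ InstData.M.X) hh a₀ where
  plane := plane₁
  gen := gen_τ
  ξ_sq := ξE_sq
  τ_o := τE_a₀
  ξ_o := ξE_a₀
  y_o := y₁_a₀
  hT := by
    rintro k hk ⟨k', hk', h⟩
    have hs : k • a₀ ∈ InstData.M.S := (K_smul hc hk a₀).2 a₀_S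
    have hs' : k' • a₀ ∈ InstData.M.S := (K_smul hc hk' a₀).2 a₀_S
    have h2 : τ (k • a₀) ∈ InstData.M.S ∨ τ⁻¹ (k • a₀) ∈ InstData.M.S := by
      rcases h with h | h
      · left
        rw [← h] at hs'
        exact hs'
      · right
        rw [← h] at hs'
        exact hs'
    obtain ⟨d, hd, e⟩ := T.two _ hs h2
    exact ⟨⟨d, C_le_G (N_le_C hd)⟩, (mem_D hc).2 hd, e⟩
  inv := by
    have h := (inv₁ (num := fun j : Fin 12 => j.1) T.disj).subgroupOf (H := InstData.M.G)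
    change Inv KΓ _ _
    rw [K_eq hc]
    exact h
  loc := by
    have h := (LevelOneX.l₁_tab U T).subgroupOf LevAsm.C_le LevAsm.τ_mem T.geo
    change LocHyp KΓ (KΓ ⊓ NΓ) _ _ _ _
    rw [D_eq hc, K_eq hc]
    exact h
  hQ := fun g => X_closed T g _ a₀_X
  bound := ⟨11, fun g => LevAsm.hh_le _⟩
  zero := by
    intro g
    constructor
    · intro h
      obtain ⟨k, hk, e⟩ := LevAsm.mem_S T (X_closed T g _ a₀_X) h
      exact ⟨⟨k, C_le_G hk⟩, (mem_KΓ hc).2 hk, by rw [e, ← a₀_eq']; rfl⟩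
    · rintro ⟨k, hk, e⟩
      rw [e]
      exact LevAsm.hh_S T ((K_smul hc hk a₀).2 a₀_S)

end Cfsg.Agent.MonsterP.Geo1Inst
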