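import Cfsg.Agent.MonsterP.H1Abs
import Cfsg.Agent.MonsterP.SetInst
import Cfsg.Agent.MonsterU.LineTab
import Cfsg.Agent.MonsterU.ClassCert

/-!
# The geometric inputs of S1705 for the concrete model (helper227)

`geo1` : `H1Abs.Geo1` from `cent_z`, the facts `Tab` on the standard lines and the local hypotheses of level 1.
-/

set_option autoImplicit false
set_option maxRecDepth 100000

namespace Cfsg.Agent.MonsterP.GeoInst

open Cfsg Cfsg.Agent.MonsterX Cfsg.Agent.MonsterX.Space Cfsg.Agent.MonsterX.Conc Cfsg.Agent.MonsterX.Model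
open Cfsg.Agent.MonsterU.Local Cfsg.Agent.MonsterU.Types Cfsg.Agent.MonsterU.LineTab
open Cfsg.Agent.MonsterU.PlaneGeo Cfsg.Agent.MonsterU.ModelGeo
open Cfsg.Agent.MonsterP.TZero Cfsg.Agent.MonsterP.SetInst

theorem hh_le (x : V) : hh x ≤ 11 := by
  unfold hh hgt
  split
  · rename_i h
    have := (Classical.choose h : Fin 12).2
    exact Nat.lt_succ_iff.1 this
  · exact Nat.zero_le _

theorem d_zero : InstData.M.d (0 : Fin 12) = a₀ := by
  rw [InstData.M_d]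
  have h : InstData.bj (0 : Fin 12).1 = [] := by decide +kernel
  rw [h, W_nil]
  rfl

section

variable {N' : Subgroup (V ≃ₗ[ℚ] V)} (T : Tab N')

include T

theorem hh_smul_a₀ {g : V ≃ₗ[ℚ] V} (hg : g ∈ Conc.C) : hh (g a₀) = 0 := by
  have h := hgt_eq (num := fun j : Fin 12 => j.1) T.disj (j := (0 : Fin 12)) hg
  rw [d_zero] at h
  exact h

theorem exists_of_hh {x : V} (hx : x ∈ InstData.M.X) (h : hh x = 0) : ∃ g ∈ Conc.C, x = g a₀ := by
  obtain ⟨j, g, hg, rfl⟩ := hx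
  change Fin 12 at j
  have h1 := hgt_eq (num := fun j : Fin 12 => j.1) T.disj (j := j) hg
  have hj : j = (0 : Fin 12) := Fin.ext (h1.symm.trans h)
  subst hj
  exact ⟨g, hg, by rw [d_zero]⟩

theorem smul_X {g : V ≃ₗ[ℚ] V} (hg : g ∈ InstData.M.G) {x : V} (hx : x ∈ InstData.M.X) : g x ∈ InstData.M.X := by
  have key : ∀ g ∈ InstData.M.G, ∀ x ∈ InstData.M.X, g x ∈ InstData.M.X ∧ g⁻¹ x ∈ InstData.M.X := by
    intro g hg
    have hg' : g ∈ Subgroup.closure ((InstData.M.C : Set (V ≃ₗ[ℚ] V)) ∪ {InstData.M.τ}) := hg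
    clear hg
    induction hg' using Subgroup.closure_induction with
    | mem g hg =>
      rcases hg with hg | hg
      · rintro _ ⟨j, k, hk, rfl⟩
        exact ⟨⟨j, g * k, InstData.M.C.mul_mem hg hk, rfl⟩,
          ⟨j, g⁻¹ * k, InstData.M.C.mul_mem (InstData.M.C.inv_mem hg) hk, rfl⟩⟩
      · rw [Set.mem_singleton_iff.1 hg]
        exact T.tau
    | one => exact fun x hx => ⟨hx, by rw [inv_one]; exact hx⟩
    | mul a b ha hb iha ihb =>
      intro x hx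
      refine ⟨(iha _ (ihb x hx).1).1, ?_⟩
      rw [mul_inv_rev]
      exact (ihb _ (iha x hx).2).2
    | inv a ha iha =>
      intro x hx
      exact ⟨(iha x hx).2, by rw [inv_inv]; exact (iha x hx).1⟩
  exact (key g hg x hx).1

variable (hc : ∀ g ∈ InstData.M.G, g * InstData.M.z = InstData.M.z * g → g ∈ InstData.M.C)

include hc

theorem hT : ∀ k ∈ KΓ, (∃ k' ∈ KΓ, τE • k • a₀ = k' • a₀ ∨ τE⁻¹ • k • a₀ = k' • a₀) →
    ∃ d ∈ KΓ ⊓ NΓ, k • a₀ = d • a₀ := by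
  rintro k hk ⟨k', hk', h⟩
  have hS : ∀ {l : MonsterU.ModelGeo.Γ}, l ∈ KΓ → l • a₀ ∈ InstData.M.S := fun {l} hl =>
    ⟨(l : V ≃ₗ[ℚ] V), (mem_KΓ hc).1 hl, by rw [← a₀_eq']; rfl⟩
  have h1 : k • a₀ ∈ T₀ := by
    refine T.two _ (hS hk) ?_
    rcases h with h | h
    · left
      have h2 : τE • k • a₀ ∈ InstData.M.S := by rw [h]; exact hS hk'
      exact h2
    · right
      have h2 : τE⁻¹ • k • a₀ ∈ InstData.M.S := by rw [h]; exact hS hk'
      exact h2
  obtain ⟨g, hg, e⟩ := h1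
  exact ⟨⟨g, C_le_G (N_le_C hg)⟩, (mem_D hc).2 hg, e⟩

/-- **The geometric inputs.** -/
theorem geo1 (l₁ : LocHyp Conc.C Conc.N τ Conc.ξ (fun x => x ∈ InstData.M.X) hh) :
    H1Abs.Geo1 zE aE bE τE ξE y₁ (fun x => x ∈ InstData.M.X) hh a₀ where
  plane := plane₁
  gen := MonsterU.ModelGeo.gen_τ
  ξ_sq := ξE_sq
  τ_o := τE_a₀
  ξ_o := ξE_a₀
  y_o := y₁_a₀
  hT := hT T hc
  inv := by
    rw [show MonsterU.PlaneGeo.K zE = InstData.M.C.subgroupOf InstData.M.G from K_eq hc]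
    exact (inv₁ T.disj).subgroupOf
  loc := by
    rw [show MonsterU.PlaneGeo.K zE ⊓ MonsterU.PlaneGeo.N zE aE = Conc.N.subgroupOf InstData.M.G from D_eq hc,
      show MonsterU.PlaneGeo.K zE = InstData.M.C.subgroupOf InstData.M.G from K_eq hc]
    exact l₁.subgroupOf (H := InstData.M.G) C_le_G τ_mem_G T.geo
  hQ g := smul_X T g.2 ⟨(0 : Fin 12), 1, InstData.M.C.one_mem, by rw [d_zero]; rfl⟩
  bound := ⟨11, fun g => hh_le _⟩
  zero g := by
    have hX : g • a₀ ∈ InstData.M.X :=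
      smul_X T g.2 ⟨(0 : Fin 12), 1, InstData.M.C.one_mem, by rw [d_zero]; rfl⟩
    constructor
    · intro h
      obtain ⟨k, hk, e⟩ := exists_of_hh T hX h
      exact ⟨⟨k, C_le_G hk⟩, mem_KΓ_of_C hk, e⟩
    · rintro ⟨k, hk, e⟩
      rw [e]
      exact hh_smul_a₀ T ((mem_KΓ hc).1 hk)

end

end Cfsg.Agent.MonsterP.GeoInst
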