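import Cfsg.Agent.MonsterP.H1Abs

/-!
# The isomorphisms of the presented groups with the group of the model

`exists_equiv` : under the hypotheses of `H1Abs.isM_monster`, the group presented by `PRel` and `Spor.Monster` are
isomorphic to the group of the model.
-/

set_option autoImplicit false

namespace Cfsg.Agent.MonsterP.H1Equiv

open Cfsg Cfsg.Agent.MonsterX.KSide Cfsg.Agent.MonsterX.KModel Cfsg.Agent.MonsterX.Model
open Cfsg.Agent.LeechMat.Core Cfsg.Agent.MonsterX.KLift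
open Cfsg.Agent.Bimonster Cfsg.Agent.Bimonster.Tits Cfsg.Agent.MonsterP.NhatData Cfsg.Agent.MonsterP.W2
open Cfsg.Agent.MonsterU.Local Cfsg.Agent.MonsterP.SChar Cfsg.Agent.MonsterP.H1Abs Cfsg.Agent.MonsterP.CovP

/-- From the bijectivity of the homomorphism of the presented group. -/
theorem equiv_of_bijective (hF : FiFacts) {G : Type} [Group G] (hIM : IsM G) {v : ℕ → G} (hv : PRel v)
    (hz : ZRel v) (hgen : Subgroup.closure (nodes 14 v) = ⊤)
    (H1 : ∀ (Γ : Type) [Group Γ] (t : ℕ → Γ) (π : Γ →* G), PRel t →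
      Subgroup.closure (nodes 14 t) = ⊤ → (∀ i < 14, π (t i) = v i) → Function.Surjective π →
      Function.Bijective π) :
    (∃ e : PM ≃* G, ∀ i < 14, e (xM i) = v i) ∧ Nonempty (Spor.Monster ≃* G) := by
  obtain ⟨π, hπ⟩ := xM_univ G v hv
  have hsurj : Function.Surjective π := by
    rw [← MonoidHom.range_eq_top, eq_top_iff, ← hgen, Subgroup.closure_le]
    rintro _ ⟨i, hi, rfl⟩
    exact ⟨xM i, hπ i hi⟩
  have e : {e : PM ≃* G // ∀ p, e p = π p} :=
    ⟨MulEquiv.ofBijective π (H1 PM xM π xM_prel xM_gen hπ hsurj), fun _ => rfl⟩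
  have : Finite G := Nat.finite_of_card_ne_zero (by rw [hIM.2]; norm_num)
  refine ⟨⟨e.1, fun i hi => by rw [e.2, hπ i hi]⟩, ?_⟩
  refine monster_equiv hF hv hz hgen (isM_center hIM) (Finite.of_equiv _ e.1.symm.toEquiv) ?_
  rw [Nat.card_congr e.1.toEquiv]

variable {V P W : Type} [AddCommGroup V] [Module ℚ V] [Group P] [AddCommGroup W] [Module ℚ W]
variable {D : MData V} {M : KS ↥D.G V P W} {x₀ : P} {θ : leechLattice → P} {K₀ : Type} [Group K₀] {o o' : P}

/-- **The isomorphisms.** -/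
theorem exists_equiv (hF : FiFacts) (hM : Model D M x₀ θ K₀) {v : ℕ → D.G} (hv : PRel v) (hz : ZRel v)
    (hgen : Subgroup.closure (nodes 14 v) = ⊤) (hB : Base M o o' v) (hBF : BFacts)
    (hIB : IsB Spor.BabyMonster) {z a b τ ξ y : D.G} {Q : V → Prop} {ht : V → ℕ}
    (hgeo : Geo1 z a b τ ξ y Q ht (M.a o)) (hK : ∀ g ∈ M.K, g ∈ MonsterU.PlaneGeo.K z) {S T₀ : Set V}
    (hSD : ∀ (Γ : Type) [Group Γ] (t : ℕ → Γ) (π : Γ →* D.G) (C : CovData π (HP t) (ev t nhW) (M.a o)),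
      π (ev t nhW) • M.a o = M.a o' → C.Closed (M.a o) (M.a o') (M.a (M.zc * (o * o'))) →
      ∃ s, SetData C (MonsterU.PlaneGeo.K z) (MonsterU.PlaneGeo.N z a) S T₀ s) :
    (∃ e : PM ≃* D.G, ∀ i < 14, e (xM i) = v i) ∧ Nonempty (Spor.Monster ≃* D.G) := by
  refine equiv_of_bijective hF
    (MonsterX.MainSimple.isM hM.group hM.rep hM.lat hM.orbit hM.trans) hv hz hgen ?_
  intro Γ _ t π hP hgen' hπ hsurj
  have hB' : Base M o o' fun i => π (t i) :=
    ⟨hB.mem, hB.mem', hB.ad, by rw [hπ 10 (by norm_num)]; exact hB.e10,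
      by rw [hπ 5 (by norm_num)]; exact hB.e5, by rw [hπ 0 (by norm_num)]; exact hB.e0⟩
  exact bijective hP hM hB' hgen' hBF hIB hsurj hgeo hK (hSD Γ t π)

end Cfsg.Agent.MonsterP.H1Equiv
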