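import Cfsg.Agent.MonsterX.Lat

/-!
The graph on the minimal vectors `s` of the Leech lattice with inner product `16` with a given
minimal vector `r` (4600 of them), adjacency = inner product `16`, is connected; the same for the
9200 minimal vectors with inner product `±16` with `r`, where `s ~ s'` iff
`(r,s) (r,s') (s,s') = 16 ^ 3`.
-/

set_option autoImplicit false

namespace Cfsg.Agent.MonsterP.LeechL2

open Cfsg Cfsg.Agent.MonsterX.KSide Cfsg.Agent.Leech.Min Cfsg.Agent.Leech.Trans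
open Cfsg.Agent.MonsterX.Lat

/-- Minimal vectors of inner product `16` with `r` and with each other. -/
def N16 (r a b : leechLattice) : Prop :=
  (nrm a = 32 ∧ dot r a = 16) ∧ (nrm b = 32 ∧ dot r b = 16) ∧ dot a b = 16

/-- Minimal vectors of inner product `±16` with `r`, the product of the three inner products being
positive. -/
def N9 (r a b : leechLattice) : Prop :=
  (nrm a = 32 ∧ (dot r a = 16 ∨ dot r a = -16)) ∧ (nrm b = 32 ∧ (dot r b = 16 ∨ dot r b = -16)) ∧
    dot r a * dot r b * dot a b = 4096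

theorem N16.symm {r a b : leechLattice} (h : N16 r a b) : N16 r b a :=
  ⟨h.2.1, h.1, by rw [dot_comm]; exact h.2.2⟩

theorem N9.symm {r a b : leechLattice} (h : N9 r a b) : N9 r b a :=
  ⟨h.2.1, h.1, by rw [dot_comm b a]; have := h.2.2; linarith [mul_comm (dot r a) (dot r b)]⟩

theorem N16.smul {r a b : leechLattice} (g : Co0) (h : N16 r a b) : N16 (g • r) (g • a) (g • b) :=
  ⟨⟨by rw [nrm_smul]; exact h.1.1, by rw [dot_smul]; exact h.1.2⟩,
    ⟨by rw [nrm_smul]; exact h.2.1.1, by rw [dot_smul]; exact h.2.1.2⟩,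
    by rw [dot_smul]; exact h.2.2⟩

theorem N16.nine {r a b : leechLattice} (h : N16 r a b) : N9 r a b :=
  ⟨⟨h.1.1, Or.inl h.1.2⟩, ⟨h.2.1.1, Or.inl h.2.1.2⟩, by rw [h.1.2, h.2.1.2, h.2.2]; norm_num⟩

section base

variable {p q : GolayPt} (hpq : p ≠ q)

theorem base_vertex (x : leechLattice) (hx : nrm x = 32)
    (h : (x : GolayPt → ℤ) p + (x : GolayPt → ℤ) q = 4) :
    nrm x = 32 ∧ dot (lv p q 4 4 hpq four_or four_or) x = 16 :=
  ⟨hx, by rw [dot_lv]; linarith⟩

/-- the vertices `4 e_p ± 4 e_j` -/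
theorem vert_p {j : GolayPt} (hpj : p ≠ j) (hqj : q ≠ j) {a : ℤ} (ha : a = 4 ∨ a = -4) :
    nrm (lv p j 4 a hpj four_or ha) = 32 ∧
      dot (lv p q 4 4 hpq four_or four_or) (lv p j 4 a hpj four_or ha) = 16 :=
  base_vertex hpq _ (nrm_lv _ _ _ _ _ _ _) (by
    rw [lv_coe, two_left, two_other hpq.symm hqj]; rfl)

/-- the vertices `4 e_q ± 4 e_j` -/
theorem vert_q {j : GolayPt} (hpj : p ≠ j) (hqj : q ≠ j) {a : ℤ} (ha : a = 4 ∨ a = -4) :
    nrm (lv q j 4 a hqj four_or ha) = 32 ∧
      dot (lv p q 4 4 hpq four_or four_or) (lv q j 4 a hqj four_or ha) = 16 :=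
  base_vertex hpq _ (nrm_lv _ _ _ _ _ _ _) (by
    rw [lv_coe, two_left, two_other hpq hpj]; rfl)

theorem step_pp {j k : GolayPt} (hpj : p ≠ j) (hqj : q ≠ j) (hpk : p ≠ k) (hqk : q ≠ k)
    (hjk : j ≠ k) {a b : ℤ} (ha : a = 4 ∨ a = -4) (hb : b = 4 ∨ b = -4) :
    N16 (lv p q 4 4 hpq four_or four_or) (lv p j 4 a hpj four_or ha)
      (lv p k 4 b hpk four_or hb) := by
  refine ⟨vert_p hpq hpj hqj ha, vert_p hpq hpk hqk hb, ?_⟩
  rw [dot_lv, lv_coe, two_left, two_other hpj.symm hjk]; norm_num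

theorem step_pq {j : GolayPt} (hpj : p ≠ j) (hqj : q ≠ j) :
    N16 (lv p q 4 4 hpq four_or four_or) (lv p j 4 4 hpj four_or four_or)
      (lv q j 4 4 hqj four_or four_or) := by
  refine ⟨vert_p hpq hpj hqj _, vert_q hpq hpj hqj _, ?_⟩
  rw [dot_lv, lv_coe, two_other hpq hpj, two_right hqj]; norm_num

/-- all vertices `4 e_p ± 4 e_j` are connected -/
theorem conn_pp {j k : GolayPt} (hpj : p ≠ j) (hqj : q ≠ j) (hpk : p ≠ k) (hqk : q ≠ k)
    {a b : ℤ} (ha : a = 4 ∨ a = -4) (hb : b = 4 ∨ b = -4) :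
    Relation.ReflTransGen (N16 (lv p q 4 4 hpq four_or four_or)) (lv p j 4 a hpj four_or ha)
      (lv p k 4 b hpk four_or hb) := by
  obtain ⟨m, hm⟩ := exists_notMem {p, q, j, k} (lt_of_le_of_lt Finset.card_le_four (by decide))
  simp only [Finset.mem_insert, Finset.mem_singleton, not_or] at hm
  exact (Relation.ReflTransGen.single
    (step_pp hpq hpj hqj (Ne.symm hm.1) (Ne.symm hm.2.1) (Ne.symm hm.2.2.1) ha four_or)).tail
    (step_pp hpq (Ne.symm hm.1) (Ne.symm hm.2.1) hpk hqk hm.2.2.2 four_or hb)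

end base

theorem lv_comm {p q : GolayPt} (hpq : p ≠ q) :
    lv p q 4 4 hpq four_or four_or = lv q p 4 4 hpq.symm four_or four_or :=
  lv_swap hpq four_or four_or

/-- every vertex is connected to a vertex `4 e_p ± 4 e_j` -/
theorem conn_to_p {p q : GolayPt} (hpq : p ≠ q) (s : leechLattice) (hs : nrm s = 32)
    (h : (s : GolayPt → ℤ) p + (s : GolayPt → ℤ) q = 4) :
    ∃ j, ∃ (hpj : p ≠ j) (_ : q ≠ j), ∃ a, ∃ ha : a = 4 ∨ a = -4,
      Relation.ReflTransGen (N16 (lv p q 4 4 hpq four_or four_or)) s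
        (lv p j 4 a hpj four_or ha) := by
  -- the two symmetric finishing moves
  have fin_p : ∀ j, p ≠ j → q ≠ j → ∀ a : ℤ, (a = 4 ∨ a = -4) →
      4 * (s : GolayPt → ℤ) p + a * (s : GolayPt → ℤ) j = 16 →
      ∃ j, ∃ (hpj : p ≠ j) (_ : q ≠ j), ∃ a, ∃ ha : a = 4 ∨ a = -4,
        Relation.ReflTransGen (N16 (lv p q 4 4 hpq four_or four_or)) s
          (lv p j 4 a hpj four_or ha) := by
    intro j hpj hqj a ha e
    refine ⟨j, hpj, hqj, a, ha, Relation.ReflTransGen.single
      ⟨base_vertex hpq s hs h, vert_p hpq hpj hqj ha, ?_⟩⟩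
    rw [dot_lv']; exact e
  have fin_q : ∀ j, p ≠ j → q ≠ j → ∀ a : ℤ, (a = 4 ∨ a = -4) →
      4 * (s : GolayPt → ℤ) q + a * (s : GolayPt → ℤ) j = 16 →
      ∃ j, ∃ (hpj : p ≠ j) (_ : q ≠ j), ∃ a, ∃ ha : a = 4 ∨ a = -4,
        Relation.ReflTransGen (N16 (lv p q 4 4 hpq four_or four_or)) s
          (lv p j 4 a hpj four_or ha) := by
    intro j hpj hqj a ha e
    have h1 : N16 (lv p q 4 4 hpq four_or four_or) s (lv q j 4 a hqj four_or ha) :=
      ⟨base_vertex hpq s hs h, vert_q hpq hpj hqj ha, by rw [dot_lv']; exact e⟩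
    obtain ⟨m, hm⟩ := exists_notMem {p, q, j}
      (lt_of_le_of_lt Finset.card_le_three (by decide))
    simp only [Finset.mem_insert, Finset.mem_singleton, not_or] at hm
    have hpm : p ≠ m := Ne.symm hm.1
    have hqm : q ≠ m := Ne.symm hm.2.1
    have h2 : N16 (lv p q 4 4 hpq four_or four_or) (lv q j 4 a hqj four_or ha)
        (lv q m 4 4 hqm four_or four_or) := by
      rw [lv_comm hpq]
      exact step_pp hpq.symm hqj hpj hqm hpm (Ne.symm hm.2.2) ha four_or
    exact ⟨m, hpm, hqm, 4, four_or,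
      ((Relation.ReflTransGen.single h1).tail h2).tail (step_pq hpq hpm hqm).symm⟩
  rcases (min_iff _).1 ⟨s.2, hs⟩ with h4 | h2 | h3
  · -- type 4
    obtain ⟨k, l, hkl, a, b, ha, hb, e⟩ := eq_two_of_type4 h4
    have hval : ∀ i, (s : GolayPt → ℤ) i = 0 ∨ (s : GolayPt → ℤ) i = 4 ∨
        (s : GolayPt → ℤ) i = -4 := by
      intro i
      by_cases hik : i = k
      · subst hik; rw [e, two_left]; exact Or.inr ha
      · by_cases hil : i = l
        · subst hil; rw [e, two_right hkl]; exact Or.inr hb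
        · left; rw [e, two_other hik hil]
    obtain ⟨m, hm⟩ := exists_notMem {p, q, k, l}
      (lt_of_le_of_lt Finset.card_le_four (by decide))
    simp only [Finset.mem_insert, Finset.mem_singleton, not_or] at hm
    have hm0 : (s : GolayPt → ℤ) m = 0 := by rw [e, two_other hm.2.2.1 hm.2.2.2]
    have hp := hval p
    have hq := hval q
    rcases (by omega : (s : GolayPt → ℤ) p = 4 ∨ (s : GolayPt → ℤ) q = 4) with h' | h'
    · exact fin_p m (Ne.symm hm.1) (Ne.symm hm.2.1) 4 four_or (by rw [h', hm0]; norm_num)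
    · exact fin_q m (Ne.symm hm.1) (Ne.symm hm.2.1) 4 four_or (by rw [h', hm0]; norm_num)
  · -- type 2
    obtain ⟨A, hA, h2, h0, -⟩ := h2
    have hc : A.card = 8 := Cfsg.Agent.Leech.Code.steiner.1 A hA
    have hval : ∀ i, (s : GolayPt → ℤ) i = 0 ∨ (s : GolayPt → ℤ) i = 2 ∨
        (s : GolayPt → ℤ) i = -2 := by
      intro i
      by_cases hi : i ∈ A
      · exact Or.inr (h2 i hi)
      · exact Or.inl (h0 i hi)
    have hp := hval p
    have hq := hval q
    have hp2 : (s : GolayPt → ℤ) p = 2 := by omega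
    obtain ⟨m, hmA, hm⟩ : ∃ m ∈ A, m ∉ ({p, q} : Finset GolayPt) := by
      have : ¬ A ⊆ {p, q} := fun hsub => by
        have := Finset.card_le_card hsub
        have := Finset.card_le_two (a := p) (b := q)
        omega
      exact Finset.not_subset.1 this
    simp only [Finset.mem_insert, Finset.mem_singleton, not_or] at hm
    rcases h2 m hmA with e | e
    · exact fin_p m (Ne.symm hm.1) (Ne.symm hm.2) 4 four_or (by rw [hp2, e]; norm_num)
    · exact fin_p m (Ne.symm hm.1) (Ne.symm hm.2) (-4) neg_four_or (by rw [hp2, e]; norm_num)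
  · -- type 3
    obtain ⟨k, hk, hk1, -⟩ := h3
    obtain ⟨m, hm⟩ := exists_notMem {p, q, k} (lt_of_le_of_lt Finset.card_le_three (by decide))
    simp only [Finset.mem_insert, Finset.mem_singleton, not_or] at hm
    have hm1 := hk1 m hm.2.2
    have hkpq : k = p ∨ k = q := by
      by_contra hcon
      push Not at hcon
      have h3 := hk1 p (Ne.symm hcon.1)
      have h4 := hk1 q (Ne.symm hcon.2)
      omega
    rcases hkpq with rfl | rfl
    · have h3 : (s : GolayPt → ℤ) k = 3 := by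
        have := hk1 q hpq.symm
        omega
      rcases hm1 with e | e
      · exact fin_p m (Ne.symm hm.1) (Ne.symm hm.2.1) 4 four_or (by rw [h3, e]; norm_num)
      · exact fin_p m (Ne.symm hm.1) (Ne.symm hm.2.1) (-4) neg_four_or (by rw [h3, e]; norm_num)
    · have h3 : (s : GolayPt → ℤ) k = 3 := by
        have := hk1 p hpq
        omega
      rcases hm1 with e | e
      · exact fin_q m (Ne.symm hm.1) (Ne.symm hm.2.1) 4 four_or (by rw [h3, e]; norm_num)
      · exact fin_q m (Ne.symm hm.1) (Ne.symm hm.2.1) (-4) neg_four_or (by rw [h3, e]; norm_num)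

theorem reflTransGen_symm {r a b : leechLattice} (h : Relation.ReflTransGen (N16 r) a b) :
    Relation.ReflTransGen (N16 r) b a := by
  induction h with
  | refl => exact Relation.ReflTransGen.refl
  | tail _ h ih => exact Relation.ReflTransGen.head h.symm ih

theorem conn_base {p q : GolayPt} (hpq : p ≠ q) (s s' : leechLattice) (hs : nrm s = 32)
    (h : (s : GolayPt → ℤ) p + (s : GolayPt → ℤ) q = 4) (hs' : nrm s' = 32)
    (h' : (s' : GolayPt → ℤ) p + (s' : GolayPt → ℤ) q = 4) :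
    Relation.ReflTransGen (N16 (lv p q 4 4 hpq four_or four_or)) s s' := by
  obtain ⟨j, hpj, hqj, a, ha, h1⟩ := conn_to_p hpq s hs h
  obtain ⟨k, hpk, hqk, b, hb, h2⟩ := conn_to_p hpq s' hs' h'
  exact (h1.trans (conn_pp hpq hpj hqj hpk hqk ha hb)).trans (reflTransGen_symm h2)

/-- `(L2)`: the graph on the 4600 minimal vectors of inner product `16` with `r`. -/
theorem conn (r s s' : leechLattice) (hr : nrm r = 32) (hs : nrm s = 32) (h : dot r s = 16)
    (hs' : nrm s' = 32) (h' : dot r s' = 16) : Relation.ReflTransGen (N16 r) s s' := by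
  obtain ⟨p, hp⟩ := exists_notMem ∅ (by simp)
  obtain ⟨q, hq⟩ := exists_notMem {p} (by simp)
  rw [Finset.mem_singleton] at hq
  have hpq : p ≠ q := Ne.symm hq
  obtain ⟨g, hg⟩ := co0_transitive_min r (lv p q 4 4 hpq four_or four_or) hr
    (sqNorm_lv _ _ _ _ _ _ _)
  have key : ∀ x, dot r x = 16 →
      ((g • x : leechLattice) : GolayPt → ℤ) p + ((g • x : leechLattice) : GolayPt → ℤ) q = 4 := by
    intro x hx
    have h1 : dot (g • r) (g • x) = 16 := by rw [dot_smul, hx]
    rw [hg, dot_lv] at h1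
    linarith
  have h1 := conn_base hpq (g • s) (g • s') (by rw [nrm_smul, hs]) (key s h)
    (by rw [nrm_smul, hs']) (key s' h')
  rw [← hg] at h1
  have h2 : ∀ a b, Relation.ReflTransGen (N16 (g • r)) a b →
      Relation.ReflTransGen (N16 r) (g⁻¹ • a) (g⁻¹ • b) := by
    intro a b hab
    induction hab with
    | refl => exact Relation.ReflTransGen.refl
    | tail _ hbc ih =>
      have h3 := hbc.smul g⁻¹
      rw [inv_smul_smul] at h3
      exact ih.tail h3
  have h3 := h2 _ _ h1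
  rwa [inv_smul_smul, inv_smul_smul] at h3

/-- every vertex has a neighbour -/
theorem exists_nbr (r s : leechLattice) (hr : nrm r = 32) (hs : nrm s = 32) (h : dot r s = 16) :
    ∃ t, N16 r s t := by
  obtain ⟨p, hp⟩ := exists_notMem ∅ (by simp)
  obtain ⟨q, hq⟩ := exists_notMem {p} (by simp)
  rw [Finset.mem_singleton] at hq
  have hpq : p ≠ q := Ne.symm hq
  obtain ⟨g, hg⟩ := co0_transitive_min r (lv p q 4 4 hpq four_or four_or) hr
    (sqNorm_lv _ _ _ _ _ _ _)
  obtain ⟨j, hj⟩ := exists_notMem {p, q} (lt_of_le_of_lt Finset.card_le_two (by decide))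
  simp only [Finset.mem_insert, Finset.mem_singleton, not_or] at hj
  have hpj : p ≠ j := Ne.symm hj.1
  have hqj : q ≠ j := Ne.symm hj.2
  -- two different vertices
  have hv : ∀ a : ℤ, ∀ ha : a = 4 ∨ a = -4, nrm (g⁻¹ • lv p j 4 a hpj four_or ha) = 32 ∧
      dot r (g⁻¹ • lv p j 4 a hpj four_or ha) = 16 := by
    intro a ha
    refine ⟨by rw [nrm_smul]; exact nrm_lv _ _ _ _ _ _ _, ?_⟩
    rw [← dot_smul g, hg, smul_inv_smul]
    exact (vert_p hpq hpj hqj ha).2
  have hne : ∃ t, (nrm t = 32 ∧ dot r t = 16) ∧ s ≠ t := by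
    by_cases h1 : s = g⁻¹ • lv p j 4 4 hpj four_or four_or
    · refine ⟨_, hv (-4) neg_four_or, fun h2 => ?_⟩
      rw [h1] at h2
      have h3 := smul_left_cancel _ h2
      have h4 : ((lv p j 4 4 hpj four_or four_or : leechLattice) : GolayPt → ℤ) j =
          ((lv p j 4 (-4) hpj four_or neg_four_or : leechLattice) : GolayPt → ℤ) j := by rw [h3]
      rw [lv_coe, lv_coe, two_right hpj, two_right hpj] at h4
      norm_num at h4
    · exact ⟨_, hv 4 four_or, h1⟩
  obtain ⟨t, ht, hst⟩ := hne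
  rcases (conn r s t hr hs h ht.1 ht.2).cases_head with h1 | ⟨u, hu, -⟩
  · exact absurd h1 hst
  · exact ⟨u, hu⟩

/-- `(L2)`, form with signs: the graph on the 9200 minimal vectors of inner product `±16` with
`r`, with `s ~ s'` iff `(r,s) (r,s') (s,s') = 16 ^ 3`. -/
theorem conn_nine (r s s' : leechLattice) (hr : nrm r = 32) (hs : nrm s = 32)
    (h : dot r s = 16 ∨ dot r s = -16) (hs' : nrm s' = 32)
    (h' : dot r s' = 16 ∨ dot r s' = -16) : Relation.ReflTransGen (N9 r) s s' := by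
  have hpos : ∀ x, nrm x = 32 → (dot r x = 16 ∨ dot r x = -16) →
      ∃ y, (nrm y = 32 ∧ dot r y = 16) ∧ Relation.ReflTransGen (N9 r) x y ∧
        Relation.ReflTransGen (N9 r) y x := by
    intro x hx hrx
    rcases hrx with e | e
    · exact ⟨x, ⟨hx, e⟩, Relation.ReflTransGen.refl, Relation.ReflTransGen.refl⟩
    · have hy : nrm (-x) = 32 ∧ dot r (-x) = 16 := ⟨by rw [nrm_neg, hx], by
        rw [dot_neg_right, e]; norm_num⟩
      obtain ⟨t, ht⟩ := exists_nbr r (-x) hr hy.1 hy.2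
      have h1 : N9 r x t := by
        refine ⟨⟨hx, Or.inr e⟩, ⟨ht.2.1.1, Or.inl ht.2.1.2⟩, ?_⟩
        have h2 : dot x t = -16 := by
          have := ht.2.2
          rw [dot_neg_left] at this
          linarith
        rw [e, ht.2.1.2, h2]; norm_num
      exact ⟨-x, hy, (Relation.ReflTransGen.single h1).tail ht.symm.nine,
        (Relation.ReflTransGen.single ht.nine).tail h1.symm⟩
  obtain ⟨y, hy, h1, -⟩ := hpos s hs h
  obtain ⟨y', hy', -, h2⟩ := hpos s' hs' h'
  have h4 : ∀ a b, Relation.ReflTransGen (N16 r) a b → Relation.ReflTransGen (N9 r) a b := by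
    intro a b hab
    induction hab with
    | refl => exact Relation.ReflTransGen.refl
    | tail _ hbc ih => exact ih.tail hbc.nine
  exact (h1.trans (h4 _ _ (conn r y y' hr hy.1 hy.2 hy'.1 hy'.2))).trans h2

end Cfsg.Agent.MonsterP.LeechL2
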