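import Cfsg.Agent.MonsterX.Lat
import Cfsg.Agent.Leech.FrameTriples

/-!
Two minimal vectors `o`, `x` of the Leech lattice with inner product `0` or `±8` have a common
neighbour (neighbour: inner product `±16`), and the set of the common neighbours is connected.
-/

set_option autoImplicit false

namespace Cfsg.Agent.MonsterP.LeechL3

open Cfsg Cfsg.Agent.MonsterX.KSide Cfsg.Agent.MonsterX.Lat Cfsg.Agent.Leech.Min
  Cfsg.Agent.Leech.Trans Cfsg.Agent.Leech.FrameTriplesOf Cfsg.Agent.Leech.Basic

/-- `w` is a common neighbour of `o` and `x`. -/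
def Mu (o x w : leechLattice) : Prop := Adj o w ∧ Adj x w

/-- Adjacency on the common neighbours of `o` and `x`. -/
def MuAdj (o x w w' : leechLattice) : Prop := Mu o x w ∧ Mu o x w' ∧ Adj w w'

theorem adj_symm {v w : leechLattice} (hv : nrm v = 32) (h : Adj v w) : Adj w v :=
  ⟨hv, by rw [dot_comm]; exact h.2⟩

theorem adj_smul (g : Co0) {v w : leechLattice} : Adj (g • v) (g • w) ↔ Adj v w := by
  unfold Adj
  rw [dot_smul, nrm_smul]

theorem adj_neg_right {v w : leechLattice} : Adj v (-w) ↔ Adj v w := by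
  unfold Adj
  rw [dot_neg_right, nrm_neg]
  constructor <;> rintro ⟨h1, h2⟩ <;> exact ⟨h1, by omega⟩

theorem adj_neg_left {v w : leechLattice} : Adj (-v) w ↔ Adj v w := by
  unfold Adj
  rw [dot_neg_left]
  constructor <;> rintro ⟨h1, h2⟩ <;> exact ⟨h1, by omega⟩

theorem mu_smul (g : Co0) {o x w : leechLattice} : Mu (g • o) (g • x) (g • w) ↔ Mu o x w :=
  and_congr (adj_smul g) (adj_smul g)

theorem mu_neg {o x w : leechLattice} : Mu o x (-w) ↔ Mu o x w :=
  and_congr adj_neg_right adj_neg_right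

theorem mu_neg_right {o x w : leechLattice} : Mu o (-x) w ↔ Mu o x w :=
  and_congr Iff.rfl adj_neg_left

theorem muAdj_symm {o x w w' : leechLattice} (h : MuAdj o x w w') : MuAdj o x w' w :=
  ⟨h.2.1, h.1, adj_symm h.1.1.1 h.2.2⟩

theorem conn_symm {o x w w' : leechLattice} (h : Relation.ReflTransGen (MuAdj o x) w w') :
    Relation.ReflTransGen (MuAdj o x) w' w := by
  induction h with
  | refl => exact Relation.ReflTransGen.refl
  | tail _ hbc ih => exact Relation.ReflTransGen.head (muAdj_symm hbc) ih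

theorem conn_smul (g : Co0) {o x w w' : leechLattice}
    (h : Relation.ReflTransGen (MuAdj o x) w w') :
    Relation.ReflTransGen (MuAdj (g • o) (g • x)) (g • w) (g • w') := by
  induction h with
  | refl => exact Relation.ReflTransGen.refl
  | tail _ hbc ih =>
    exact ih.tail ⟨(mu_smul g).2 hbc.1, (mu_smul g).2 hbc.2.1, (adj_smul g).2 hbc.2.2⟩

/-- The goal for a pair. -/
def Good (o x : leechLattice) : Prop :=
  (∃ w, Mu o x w) ∧ ∀ w w', Mu o x w → Mu o x w' → Relation.ReflTransGen (MuAdj o x) w w'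

theorem good_of_smul (g : Co0) {o x : leechLattice} (h : Good (g • o) (g • x)) : Good o x := by
  have h1 : ∀ v : leechLattice, g⁻¹ • g • v = v := fun v => inv_smul_smul g v
  refine ⟨?_, fun w w' hw hw' => ?_⟩
  · obtain ⟨w, hw⟩ := h.1
    refine ⟨g⁻¹ • w, ?_⟩
    have := (mu_smul g⁻¹).2 hw
    rwa [h1, h1] at this
  · have := conn_smul g⁻¹ (h.2 (g • w) (g • w') ((mu_smul g).2 hw) ((mu_smul g).2 hw'))
    rwa [h1, h1, h1, h1] at this

theorem good_neg {o x : leechLattice} (h : Good o (-x)) : Good o x := by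
  have h1 : ∀ w, Mu o (-x) w ↔ Mu o x w := fun w => mu_neg_right
  have h2 : MuAdj o (-x) = MuAdj o x := by
    funext w w'
    unfold MuAdj
    rw [h1, h1]
  unfold Good at h ⊢
  rw [h2] at h
  simpa only [h1] using h

/-! ### Inner product `0` -/

/-- the common neighbours of `(4,4,0,…)` and `(4,-4,0,…)` -/
theorem mu_zero {p q : GolayPt} (hpq : p ≠ q) {o x : leechLattice}
    (ho : (o : GolayPt → ℤ) = two p q 4 4) (hx : (x : GolayPt → ℤ) = two p q 4 (-4))
    (w : leechLattice) (hw : Mu o x w) :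
    ∃ k, k ≠ p ∧ k ≠ q ∧ ∃ m, (m = p ∨ m = q) ∧ ∃ (hmk : m ≠ k) (a b : ℤ)
      (ha : a = 4 ∨ a = -4) (hb : b = 4 ∨ b = -4), w = lv m k a b hmk ha hb := by
  obtain ⟨⟨hn, h1⟩, -, h2⟩ := hw
  have e1 : dot o w = 4 * (w : GolayPt → ℤ) p + 4 * (w : GolayPt → ℤ) q := by
    show dotInt (o : GolayPt → ℤ) w = _
    rw [ho, dotInt_two hpq]
  have e2 : dot x w = 4 * (w : GolayPt → ℤ) p + (-4) * (w : GolayPt → ℤ) q := by
    show dotInt (x : GolayPt → ℤ) w = _
    rw [hx, dotInt_two hpq]
  rw [e1] at h1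
  rw [e2] at h2
  have h4 : Type4 (w : GolayPt → ℤ) := by
    by_cases hp : (w : GolayPt → ℤ) p = 4 ∨ (w : GolayPt → ℤ) p = -4
    · exact type4_of_coord w.2 hn hp
    · have hq : (w : GolayPt → ℤ) q = 4 ∨ (w : GolayPt → ℤ) q = -4 := by omega
      exact type4_of_coord w.2 hn hq
  obtain ⟨k, l, hkl, a, b, ha, hb, e⟩ := eq_two_of_type4 h4
  have hval : ∀ i, i ≠ k → i ≠ l → (w : GolayPt → ℤ) i = 0 := fun i hi hi' => by
    rw [e, two_other hi hi']
  have hk : (w : GolayPt → ℤ) k = a := by rw [e, two_left]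
  have hl : (w : GolayPt → ℤ) l = b := by rw [e, two_right hkl]
  -- exactly one of `p`, `q` is in `{k, l}`
  by_cases hpk : p = k
  · subst hpk
    have hql : q ≠ l := by
      rintro rfl
      omega
    exact ⟨l, hkl.symm, Ne.symm hql, p, Or.inl rfl, hkl, a, b, ha, hb, Subtype.ext e⟩
  · by_cases hpl : p = l
    · subst hpl
      have hqk : q ≠ k := by
        rintro rfl
        omega
      refine ⟨k, hkl, Ne.symm hqk, p, Or.inl rfl, hkl.symm, b, a, hb, ha, Subtype.ext ?_⟩
      rw [lv_coe, ← two_swap hkl]; exact e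
    · have hp0 := hval p hpk hpl
      by_cases hqk : q = k
      · subst hqk
        exact ⟨l, Ne.symm hpl, hkl.symm, q, Or.inr rfl, hkl, a, b, ha, hb, Subtype.ext e⟩
      · by_cases hql : q = l
        · subst hql
          refine ⟨k, Ne.symm hpk, hkl, q, Or.inr rfl, hkl.symm, b, a, hb, ha, Subtype.ext ?_⟩
          rw [lv_coe, ← two_swap hkl]; exact e
        · have hq0 := hval q hqk hql
          omega

theorem mu_zero_of {p q k m : GolayPt} (hpq : p ≠ q) {o x : leechLattice}
    (ho : (o : GolayPt → ℤ) = two p q 4 4) (hx : (x : GolayPt → ℤ) = two p q 4 (-4))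
    (hkp : k ≠ p) (hkq : k ≠ q) (hm : m = p ∨ m = q) (hmk : m ≠ k) {a b : ℤ}
    (ha : a = 4 ∨ a = -4) (hb : b = 4 ∨ b = -4) : Mu o x (lv m k a b hmk ha hb) := by
  refine ⟨⟨nrm_lv _ _ _ _ _ _ _, ?_⟩, nrm_lv _ _ _ _ _ _ _, ?_⟩
  · rw [dot_lv', ho, two_other hkp hkq]
    rcases hm with rfl | rfl
    · rw [two_left]; omega
    · rw [two_right hpq]; omega
  · rw [dot_lv', hx, two_other hkp hkq]
    rcases hm with rfl | rfl
    · rw [two_left]; omega
    · rw [two_right hpq]; omega

theorem good_zero {p q : GolayPt} (hpq : p ≠ q) {o x : leechLattice}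
    (ho : (o : GolayPt → ℤ) = two p q 4 4) (hx : (x : GolayPt → ℤ) = two p q 4 (-4)) :
    Good o x := by
  obtain ⟨r, hr⟩ := exists_notMem {p, q} (lt_of_le_of_lt Finset.card_le_two (by decide))
  simp only [Finset.mem_insert, Finset.mem_singleton, not_or] at hr
  have hpr : p ≠ r := Ne.symm hr.1
  have key : ∀ w, Mu o x w →
      Relation.ReflTransGen (MuAdj o x) w (lv p r 4 4 hpr four_or four_or) := by
    intro w hw
    obtain ⟨k, hkp, hkq, m, hm, hmk, a, b, ha, hb, rfl⟩ := mu_zero hpq ho hx w hw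
    rcases hm with rfl | rfl
    · -- `m = p`
      by_cases hkr : k = r
      · subst hkr
        obtain ⟨s, hs⟩ := exists_notMem {m, q, k} (lt_of_le_of_lt Finset.card_le_three (by decide))
        simp only [Finset.mem_insert, Finset.mem_singleton, not_or] at hs
        have h1 : Mu o x (lv m s 4 4 (Ne.symm hs.1) four_or four_or) :=
          mu_zero_of hpq ho hx hs.1 hs.2.1 (Or.inl rfl) _ _ _
        exact (Relation.ReflTransGen.single ⟨hw, h1, adj_lv hmk (Ne.symm hs.1) (Ne.symm hs.2.2)
          ha hb four_or four_or⟩).tail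
          ⟨h1, mu_zero_of hpq ho hx hkp hkq (Or.inl rfl) _ _ _,
            adj_lv (Ne.symm hs.1) hmk hs.2.2 four_or four_or four_or four_or⟩
      · exact Relation.ReflTransGen.single ⟨hw,
          mu_zero_of hpq ho hx hr.1 hr.2 (Or.inl rfl) _ _ _,
          adj_lv hmk hpr hkr ha hb four_or four_or⟩
    · -- `m = q`
      obtain ⟨s, hs⟩ := exists_notMem {p, m, k, r} (lt_of_le_of_lt Finset.card_le_four (by decide))
      simp only [Finset.mem_insert, Finset.mem_singleton, not_or] at hs
      -- `(a_m, b_k) ~ (4_p, 4_k) ~ ...`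
      have hpk : p ≠ k := Ne.symm hkp
      have h1 : Mu o x (lv p k 4 4 hpk four_or four_or) :=
        mu_zero_of hpq ho hx hkp hkq (Or.inl rfl) _ _ _
      have h2 : Mu o x (lv p s 4 4 (Ne.symm hs.1) four_or four_or) :=
        mu_zero_of hpq ho hx hs.1 hs.2.1 (Or.inl rfl) _ _ _
      have a1 : Adj (lv m k a b hmk ha hb) (lv p k 4 4 hpk four_or four_or) := by
        rw [lv_swap hmk, lv_swap hpk]
        exact adj_lv hmk.symm hpk.symm hpq.symm hb ha four_or four_or
      have a2 : Adj (lv p k 4 4 hpk four_or four_or) (lv p s 4 4 (Ne.symm hs.1) four_or four_or) :=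
        adj_lv hpk (Ne.symm hs.1) (Ne.symm hs.2.2.1) four_or four_or four_or four_or
      have a3 : Adj (lv p s 4 4 (Ne.symm hs.1) four_or four_or) (lv p r 4 4 hpr four_or four_or) :=
        adj_lv (Ne.symm hs.1) hpr hs.2.2.2 four_or four_or four_or four_or
      exact ((Relation.ReflTransGen.single ⟨hw, h1, a1⟩).tail ⟨h1, h2, a2⟩).tail
        ⟨h2, mu_zero_of hpq ho hx hr.1 hr.2 (Or.inl rfl) _ _ _, a3⟩
  refine ⟨⟨_, mu_zero_of hpq ho hx hr.1 hr.2 (Or.inl rfl) hpr four_or four_or⟩, ?_⟩
  intro w w' hw hw'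
  exact (key w hw).trans (conn_symm (key w' hw'))

/-! ### Inner product `-8` -/

theorem vec3_eq_two (a b : ℤ) : vec3 a b 0 = two none (some 0) a b := rfl

/-- `(x, w)` for `x = (1,-3,1,…)` -/
theorem dot_x (w : GolayPt → ℤ) : dotInt (vec3 1 (-3) 1) w = (∑ i, w i) - 4 * w (some 0) := by
  have h1 : ∀ i, vec3 1 (-3) 1 i * w i = w i - 4 * (chi {some 0} i * w i) := by
    intro i
    by_cases hi : i = some 0
    · subst hi
      rw [vec3_zero, chi_mem (Finset.mem_singleton_self _)]; ring
    · rw [chi_not_mem (by rwa [Finset.mem_singleton])]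
      by_cases hn : i = none
      · subst hn; rw [vec3_none]; ring
      · rw [vec3_other _ _ _ hn hi]; ring
  show ∑ i, vec3 1 (-3) 1 i * w i = _
  rw [Finset.sum_congr rfl fun i _ => h1 i, Finset.sum_sub_distrib, ← Finset.mul_sum, sum_chi_mul,
    Finset.sum_singleton]

/-- the sum of a vector of type 3 -/
theorem sum_type3 {w : GolayPt → ℤ} {m : GolayPt} (hm : w m = 3)
    (h1 : ∀ i, i ≠ m → w i = 1 ∨ w i = -1) : ∑ i, w i = 2 * ((cls w 1).card : ℤ) - 20 := by
  have h : ∀ i, w i = 2 * chi (cls w 1) i - 1 + 4 * chi {m} i := by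
    intro i
    by_cases hi : i = m
    · subst hi
      rw [chi_mem (Finset.mem_singleton_self _), chi_not_mem (by
        rw [mem_cls, hm]; unfold Int.ModEq; norm_num), hm]; ring
    · rw [chi_not_mem (A := {m}) (by rwa [Finset.mem_singleton])]
      rcases h1 i hi with e | e
      · rw [chi_mem (by rw [mem_cls, e]), e]; ring
      · rw [chi_not_mem (by rw [mem_cls, e]; unfold Int.ModEq; norm_num), e]; ring
  rw [Finset.sum_congr rfl fun i _ => h i, Finset.sum_add_distrib, Finset.sum_sub_distrib,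
    ← Finset.mul_sum, ← Finset.mul_sum, sum_chi, sum_chi]
  have : Fintype.card GolayPt = 24 := Cfsg.Agent.Leech.Code.card_golayPt
  simp only [Finset.sum_const, Finset.card_univ, this, Finset.card_singleton]
  norm_num
  ring

/-- The hub vectors `4 e_q - 4 e_k`. -/
theorem hub {o x : leechLattice}
    (ho : (o : GolayPt → ℤ) = vec3 4 4 0) (hx : (x : GolayPt → ℤ) = vec3 1 (-3) 1)
    {k : GolayPt} (hk : k ≠ none) (hk' : some 0 ≠ k) :
    Mu o x (lv (some 0) k 4 (-4) hk' four_or neg_four_or) := by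
  refine ⟨⟨nrm_lv _ _ _ _ _ _ _, ?_⟩, nrm_lv _ _ _ _ _ _ _, ?_⟩
  · rw [dot_lv', ho, vec3_zero, vec3_other _ _ _ hk (Ne.symm hk')]
    norm_num
  · rw [dot_lv', hx, vec3_zero, vec3_other _ _ _ hk (Ne.symm hk')]
    norm_num

/-- Every common neighbour is equal or adjacent to a hub vector, up to sign. -/
theorem near_hub {o x : leechLattice} (hx : (x : GolayPt → ℤ) = vec3 1 (-3) 1)
    (w : leechLattice) (hw : Mu o x w)
    (h4 : (w : GolayPt → ℤ) none + (w : GolayPt → ℤ) (some 0) = 4) :
    ∃ k, k ≠ none ∧ ∃ hk : some 0 ≠ k, w = lv (some 0) k 4 (-4) hk four_or neg_four_or ∨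
      dot w (lv (some 0) k 4 (-4) hk four_or neg_four_or) = 16 := by
  obtain ⟨⟨hn, -⟩, -, h2⟩ := hw
  have e2 : dot x w = (∑ i, (w : GolayPt → ℤ) i) - 4 * (w : GolayPt → ℤ) (some 0) := by
    show dotInt (x : GolayPt → ℤ) w = _
    rw [hx, dot_x]
  rw [e2] at h2
  have hpq : (none : GolayPt) ≠ some 0 := by simp
  rcases (min_iff _).1 ⟨w.2, hn⟩ with h | h | h
  · obtain ⟨k, l, hkl, a, b, ha, hb, e⟩ := eq_two_of_type4 h
    have hsum : ∑ i, (w : GolayPt → ℤ) i = a + b := by
      rw [Finset.sum_eq_add k l hkl (fun i _ hi => by rw [e, two_other hi.1 hi.2])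
        (fun h => absurd (Finset.mem_univ _) h) (fun h => absurd (Finset.mem_univ _) h)]
      rw [e, two_left, two_right hkl]
    rw [hsum] at h2
    have hval : ∀ i, (w : GolayPt → ℤ) i = 0 ∨ (w : GolayPt → ℤ) i = 4 ∨
        (w : GolayPt → ℤ) i = -4 := by
      intro i
      by_cases hik : i = k
      · subst hik; rw [e, two_left]; exact Or.inr ha
      · by_cases hil : i = l
        · subst hil; rw [e, two_right hkl]; exact Or.inr hb
        · left; rw [e, two_other hik hil]
    have hp := hval none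
    by_cases hqk : some 0 = k
    · subst hqk
      have hq : (w : GolayPt → ℤ) (some 0) = a := by rw [e, two_left]
      rw [hq] at h2 h4
      have hab : a = 4 ∧ b = -4 := by omega
      obtain ⟨rfl, rfl⟩ := hab
      have hln : l ≠ none := by
        rintro rfl
        have : (w : GolayPt → ℤ) none = -4 := by rw [e, two_right hkl]
        omega
      exact ⟨l, hln, hkl, Or.inl (Subtype.ext e)⟩
    · by_cases hql : some 0 = l
      · subst hql
        have hq : (w : GolayPt → ℤ) (some 0) = b := by rw [e, two_right hkl]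
        rw [hq] at h2 h4
        have hab : b = 4 ∧ a = -4 := by omega
        obtain ⟨rfl, rfl⟩ := hab
        have hkn : k ≠ none := by
          rintro rfl
          have : (w : GolayPt → ℤ) none = -4 := by rw [e, two_left]
          omega
        refine ⟨k, hkn, hkl.symm, Or.inl (Subtype.ext ?_)⟩
        rw [lv_coe, ← two_swap hkl]; exact e
      · have hq : (w : GolayPt → ℤ) (some 0) = 0 := by rw [e, two_other hqk hql]
        rw [hq] at h2
        omega
  · obtain ⟨A, hA, h2', h0, -⟩ := h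
    have hc : A.card = 8 := Cfsg.Agent.Leech.Code.steiner.1 A hA
    have hval : ∀ i, (w : GolayPt → ℤ) i = 0 ∨ (w : GolayPt → ℤ) i = 2 ∨
        (w : GolayPt → ℤ) i = -2 := by
      intro i
      by_cases hi : i ∈ A
      · exact Or.inr (h2' i hi)
      · exact Or.inl (h0 i hi)
    have hp := hval none
    have hq := hval (some 0)
    have hp2 : (w : GolayPt → ℤ) none = 2 := by omega
    have hq2 : (w : GolayPt → ℤ) (some 0) = 2 := by omega
    -- some other coordinate is `-2`
    obtain ⟨k, hk⟩ : ∃ k, (w : GolayPt → ℤ) k = -2 := by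
      by_contra hcon
      push Not at hcon
      have hform : ∀ i, (w : GolayPt → ℤ) i = 2 * chi A i := by
        intro i
        by_cases hi : i ∈ A
        · rw [chi_mem hi]
          have := h2' i hi
          have := hcon i
          omega
        · rw [chi_not_mem hi, h0 i hi]; rfl
      rw [Finset.sum_congr rfl fun i _ => hform i, ← Finset.mul_sum, sum_chi, hc, hq2] at h2
      norm_num at h2
    refine ⟨k, by rintro rfl; omega, by rintro rfl; omega, Or.inr ?_⟩
    rw [dot_lv', hk, hq2]; norm_num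
  · obtain ⟨m, hm, h1, hW⟩ := h
    have hm3 : (w : GolayPt → ℤ) m = 3 ∧ (m = none ∨ m = some 0) := by
      by_cases hmn : m = none
      · subst hmn
        have := h1 (some 0) (by simp)
        exact ⟨by omega, Or.inl rfl⟩
      · by_cases hmq : m = some 0
        · subst hmq
          have := h1 none (by simp)
          exact ⟨by omega, Or.inr rfl⟩
        · have h5 := h1 none (Ne.symm hmn)
          have h6 := h1 (some 0) (Ne.symm hmq)
          omega
    obtain ⟨hm3, hmm⟩ := hm3
    rw [sum_type3 hm3 h1] at h2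
    rcases hmm with rfl | rfl
    · -- `(3, 1, …)`: impossible
      exfalso
      have hq : (w : GolayPt → ℤ) (some 0) = 1 := by omega
      rw [hq] at h2
      have hc : (cls (w : GolayPt → ℤ) 1).card = 20 ∨ (cls (w : GolayPt → ℤ) 1).card = 4 := by
        omega
      rcases hc with hc | hc
      · have h3 := Cfsg.Agent.Leech.Code.compl_mem hW
        have h5 : ((cls (w : GolayPt → ℤ) 1)ᶜ).card = 4 := by
          rw [Finset.card_compl, hc, Cfsg.Agent.Leech.Code.card_golayPt]
        have := Cfsg.Agent.Leech.Code.eight_le_card h3 (by rw [← Finset.card_pos]; omega)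
        omega
      · have := Cfsg.Agent.Leech.Code.eight_le_card hW (by rw [← Finset.card_pos]; omega)
        omega
    · -- `(1, 3, …)`
      rw [hm3] at h2
      have hp : (w : GolayPt → ℤ) none = 1 := by omega
      have hc : (cls (w : GolayPt → ℤ) 1).card = 24 ∨ (cls (w : GolayPt → ℤ) 1).card = 8 := by
        omega
      have hqn : some 0 ∉ cls (w : GolayPt → ℤ) 1 := by
        rw [mem_cls, hm3]; unfold Int.ModEq; norm_num
      have hc8 : (cls (w : GolayPt → ℤ) 1).card = 8 := by
        refine hc.resolve_left fun h => hqn ?_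
        have : cls (w : GolayPt → ℤ) 1 = Finset.univ := by
          rw [← Finset.card_eq_iff_eq_univ, h, Cfsg.Agent.Leech.Code.card_golayPt]
        rw [this]; exact Finset.mem_univ _
      obtain ⟨k, hk⟩ := exists_notMem (insert (some 0) (insert none (cls (w : GolayPt → ℤ) 1)))
        (by
          have h3 := Finset.card_insert_le (some 0) (insert none (cls (w : GolayPt → ℤ) 1))
          have h5 := Finset.card_insert_le none (cls (w : GolayPt → ℤ) 1)
          omega)
      simp only [Finset.mem_insert, not_or] at hk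
      have hk1 : (w : GolayPt → ℤ) k = -1 := by
        refine (h1 k hk.1).resolve_left fun h => hk.2.2 ?_
        rw [mem_cls, h]
      refine ⟨k, hk.2.1, Ne.symm hk.1, Or.inr ?_⟩
      rw [dot_lv', hk1, hm3]; norm_num

theorem hub_adj {k l : GolayPt} (hkl : k ≠ l) (hk : some 0 ≠ k) (hl : some 0 ≠ l) :
    Adj (lv (some 0) k 4 (-4) hk four_or neg_four_or) (lv (some 0) l 4 (-4) hl four_or neg_four_or) :=
  adj_lv hk hl hkl four_or neg_four_or four_or neg_four_or

theorem good_eight {o x : leechLattice}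
    (ho : (o : GolayPt → ℤ) = vec3 4 4 0) (hx : (x : GolayPt → ℤ) = vec3 1 (-3) 1) :
    Good o x := by
  obtain ⟨r, hr⟩ := exists_notMem {none, some 0} (lt_of_le_of_lt Finset.card_le_two (by decide))
  simp only [Finset.mem_insert, Finset.mem_singleton, not_or] at hr
  have hqr : some 0 ≠ r := Ne.symm hr.2
  have key1 : ∀ k, k ≠ none → ∀ hk : some 0 ≠ k, Relation.ReflTransGen (MuAdj o x)
      (lv (some 0) k 4 (-4) hk four_or neg_four_or)
      (lv (some 0) r 4 (-4) hqr four_or neg_four_or) := by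
    intro k hk hk'
    by_cases hkr : k = r
    · subst hkr; exact Relation.ReflTransGen.refl
    · exact Relation.ReflTransGen.single ⟨hub ho hx hk hk', hub ho hx hr.1 hqr, hub_adj hkr hk' hqr⟩
  -- signs
  have key2 : Relation.ReflTransGen (MuAdj o x)
      (-lv (some 0) r 4 (-4) hqr four_or neg_four_or)
      (lv (some 0) r 4 (-4) hqr four_or neg_four_or) := by
    obtain ⟨s, hs⟩ := exists_notMem {none, some 0, r}
      (lt_of_le_of_lt Finset.card_le_three (by decide))
    simp only [Finset.mem_insert, Finset.mem_singleton, not_or] at hs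
    have hqs : some 0 ≠ s := Ne.symm hs.2.1
    have h1 := hub ho hx hr.1 hqr
    have h2 := hub ho hx hs.1 hqs
    refine (Relation.ReflTransGen.single ⟨mu_neg.2 h1, h2, adj_neg_left.2 ?_⟩).tail
      ⟨h2, h1, ?_⟩
    · exact hub_adj hs.2.2 hqs hqr
    · exact hub_adj (Ne.symm hs.2.2) hqr hqs
  have hneg : ∀ w w', Relation.ReflTransGen (MuAdj o x) w w' →
      Relation.ReflTransGen (MuAdj o x) (-w) (-w') := by
    intro w w' h
    induction h with
    | refl => exact Relation.ReflTransGen.refl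
    | tail _ hbc ih =>
      exact ih.tail ⟨mu_neg.2 hbc.1, mu_neg.2 hbc.2.1, adj_neg_left.2 (adj_neg_right.2 hbc.2.2)⟩
  have key3 : ∀ w, Mu o x w → (w : GolayPt → ℤ) none + (w : GolayPt → ℤ) (some 0) = 4 →
      Relation.ReflTransGen (MuAdj o x) w (lv (some 0) r 4 (-4) hqr four_or neg_four_or) := by
    intro w hw h4
    obtain ⟨k, hk, hk', h | h⟩ := near_hub hx w hw h4
    · rw [h]; exact key1 k hk hk'
    · exact Relation.ReflTransGen.head ⟨hw, hub ho hx hk hk', nrm_lv _ _ _ _ _ _ _, Or.inl h⟩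
        (key1 k hk hk')
  have key : ∀ w, Mu o x w →
      Relation.ReflTransGen (MuAdj o x) w (lv (some 0) r 4 (-4) hqr four_or neg_four_or) := by
    intro w hw
    have e1 : dot o w = 4 * (w : GolayPt → ℤ) none + 4 * (w : GolayPt → ℤ) (some 0) := by
      show dotInt (o : GolayPt → ℤ) w = _
      rw [ho, vec3_eq_two, dotInt_two (by simp)]
    have h1 := hw.1.2
    rw [e1] at h1
    rcases h1 with h1 | h1
    · exact key3 w hw (by omega)
    · have h2 := key3 (-w) (mu_neg.2 hw) (by
        rw [AddSubgroup.coe_neg, Pi.neg_apply, Pi.neg_apply]; omega)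
      have h3 := hneg _ _ h2
      rw [neg_neg] at h3
      exact h3.trans key2
  refine ⟨⟨_, hub ho hx hr.1 hqr⟩, ?_⟩
  intro w w' hw hw'
  exact (key w hw).trans (conn_symm (key w' hw'))

/-! ### The third vector -/

/-- For `dot o x = -8` there is a minimal vector `y` orthogonal to `o` with `dot x y = 16`. -/
theorem exists_third_base {p q : GolayPt} (hpq : p ≠ q) (x : leechLattice) (hx : nrm x = 32)
    (h : dot (lv p q 4 4 hpq four_or four_or) x = -8) :
    ∃ y : leechLattice, nrm y = 32 ∧ dot (lv p q 4 4 hpq four_or four_or) y = 0 ∧ dot x y = 16 := by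
  rw [dot_lv] at h
  -- two further points
  have key : ∀ k l, k ≠ l → (k ≠ p ∧ k ≠ q ∧ l ≠ p ∧ l ≠ q) → ∀ a b : ℤ, (a = 4 ∨ a = -4) →
      (b = 4 ∨ b = -4) → a * (x : GolayPt → ℤ) k + b * (x : GolayPt → ℤ) l = 16 →
      ∃ y : leechLattice, nrm y = 32 ∧ dot (lv p q 4 4 hpq four_or four_or) y = 0 ∧
        dot x y = 16 := by
    intro k l hkl ⟨h1, h2, h3, h4⟩ a b ha hb hab
    refine ⟨lv k l a b hkl ha hb, nrm_lv _ _ _ _ _ _ _, ?_, ?_⟩
    · rw [dot_lv, lv_coe, two_other (Ne.symm h1) (Ne.symm h3),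
        two_other (Ne.symm h2) (Ne.symm h4)]; rfl
    · rw [dot_lv']; exact hab
  rcases (min_iff _).1 ⟨x.2, hx⟩ with h' | h' | h'
  · exfalso
    obtain ⟨k, l, hkl, a, b, ha, hb, e⟩ := eq_two_of_type4 h'
    have hval : ∀ i, (x : GolayPt → ℤ) i = 0 ∨ (x : GolayPt → ℤ) i = 4 ∨
        (x : GolayPt → ℤ) i = -4 := by
      intro i
      by_cases hik : i = k
      · subst hik; rw [e, two_left]; exact Or.inr ha
      · by_cases hil : i = l
        · subst hil; rw [e, two_right hkl]; exact Or.inr hb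
        · left; rw [e, two_other hik hil]
    have h3 := hval p
    have h4 := hval q
    omega
  · obtain ⟨A, hA, h2, h0, -⟩ := h'
    have hc : A.card = 8 := Cfsg.Agent.Leech.Code.steiner.1 A hA
    obtain ⟨k, hk⟩ : ((A.erase p).erase q).Nonempty := by
      rw [← Finset.card_pos]
      have h3 := Finset.pred_card_le_card_erase (s := A) (a := p)
      have h4 := Finset.pred_card_le_card_erase (s := A.erase p) (a := q)
      omega
    obtain ⟨l, hl⟩ : (((A.erase p).erase q).erase k).Nonempty := by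
      rw [← Finset.card_pos]
      have h3 := Finset.pred_card_le_card_erase (s := A) (a := p)
      have h4 := Finset.pred_card_le_card_erase (s := A.erase p) (a := q)
      have h5 := Finset.pred_card_le_card_erase (s := (A.erase p).erase q) (a := k)
      omega
    simp only [Finset.mem_erase] at hk hl
    have hk2 := h2 k hk.2.2
    have hl2 := h2 l hl.2.2.2
    refine key k l (Ne.symm hl.1) ⟨hk.2.1, hk.1, hl.2.2.1, hl.2.1⟩
      (2 * (x : GolayPt → ℤ) k) (2 * (x : GolayPt → ℤ) l) (by omega) (by omega) ?_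
    rcases hk2 with e | e <;> rcases hl2 with e' | e' <;> rw [e, e'] <;> norm_num
  · obtain ⟨m, hm, h1, -⟩ := h'
    by_cases hmp : m = p
    · subst hmp
      have h3 := h1 q hpq.symm
      refine ⟨lv m q (-4) 4 hpq neg_four_or four_or, nrm_lv _ _ _ _ _ _ _, ?_, ?_⟩
      · rw [dot_lv, lv_coe, two_left, two_right hpq]; norm_num
      · rw [dot_lv']; omega
    · by_cases hmq : m = q
      · subst hmq
        have h3 := h1 p hpq
        refine ⟨lv p m 4 (-4) hpq four_or neg_four_or, nrm_lv _ _ _ _ _ _ _, ?_, ?_⟩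
        · rw [dot_lv, lv_coe, two_left, two_right hpq]; norm_num
        · rw [dot_lv']; omega
      · obtain ⟨l, hl⟩ := exists_notMem {p, q, m} (lt_of_le_of_lt Finset.card_le_three (by decide))
        simp only [Finset.mem_insert, Finset.mem_singleton, not_or] at hl
        have hl1 := h1 l hl.2.2
        have ha : ∃ a : ℤ, (a = 4 ∨ a = -4) ∧ a * (x : GolayPt → ℤ) m = 12 := by
          rcases hm with e | e
          · exact ⟨4, Or.inl rfl, by rw [e]; rfl⟩
          · exact ⟨-4, Or.inr rfl, by rw [e]; rfl⟩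
        have hb : ∃ b : ℤ, (b = 4 ∨ b = -4) ∧ b * (x : GolayPt → ℤ) l = 4 := by
          rcases hl1 with e | e
          · exact ⟨4, Or.inl rfl, by rw [e]; rfl⟩
          · exact ⟨-4, Or.inr rfl, by rw [e]; rfl⟩
        obtain ⟨a, ha, hae⟩ := ha
        obtain ⟨b, hb, hbe⟩ := hb
        exact key m l (Ne.symm hl.2.2) ⟨hmp, hmq, hl.1, hl.2.1⟩ a b ha hb (by rw [hae, hbe]; rfl)

theorem exists_third (o x : leechLattice) (ho : nrm o = 32) (hx : nrm x = 32)
    (h : dot o x = -8) : ∃ y : leechLattice, nrm y = 32 ∧ dot o y = 0 ∧ dot x y = 16 := by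
  obtain ⟨p, hp⟩ := exists_notMem ∅ (by simp)
  obtain ⟨q, hq⟩ := exists_notMem {p} (by simp)
  rw [Finset.mem_singleton] at hq
  have hpq : p ≠ q := Ne.symm hq
  obtain ⟨g, hg⟩ := co0_transitive_min o (lv p q 4 4 hpq four_or four_or) ho
    (sqNorm_lv _ _ _ _ _ _ _)
  obtain ⟨y, hy, h1, h2⟩ := exists_third_base hpq (g • x) (by rw [nrm_smul, hx])
    (by rw [← hg, dot_smul, h])
  refine ⟨g⁻¹ • y, by rw [nrm_smul, hy], ?_, ?_⟩
  · rw [← dot_smul g, smul_inv_smul, hg, h1]
  · rw [← dot_smul g, smul_inv_smul, h2]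

/-! ### The theorem -/

/-- **(L3)** Two minimal vectors with inner product `0` or `±8` have a common neighbour, and the
common neighbours form a connected graph. -/
theorem good (o x : leechLattice) (ho : nrm o = 32) (hx : nrm x = 32)
    (h : dot o x = 0 ∨ dot o x = 8 ∨ dot o x = -8) : Good o x := by
  rcases h with h | h | h
  · obtain ⟨g, h1, h2⟩ := Cfsg.Agent.Leech.FrameTriples.orth_pair o x ho hx h
    exact good_of_smul g (good_zero (p := none) (q := some 0) (by simp) h1 h2)
  · apply good_neg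
    have hd : dot o (-x) = -8 := by rw [dot_neg_right, h]
    have hn : nrm (-x) = 32 := by rw [nrm_neg, hx]
    obtain ⟨y, hy, h3, h4⟩ := exists_third o (-x) ho hn hd
    obtain ⟨g, h1, h2, -⟩ := Cfsg.Agent.Leech.FrameTriples.mcl_triple o (-x) y ho hn hy hd h3 h4
    exact good_of_smul g (good_eight h1 h2)
  · obtain ⟨y, hy, h3, h4⟩ := exists_third o x ho hx h
    obtain ⟨g, h1, h2, -⟩ := Cfsg.Agent.Leech.FrameTriples.mcl_triple o x y ho hx hy h h3 h4
    exact good_of_smul g (good_eight h1 h2)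

/-- Existence of a common neighbour. -/
theorem exists_mu (o x : leechLattice) (ho : nrm o = 32) (hx : nrm x = 32)
    (h : dot o x = 0 ∨ dot o x = 8 ∨ dot o x = -8) : ∃ w, Adj o w ∧ Adj x w :=
  (good o x ho hx h).1

/-- Connectedness of the set of the common neighbours. -/
theorem mu_conn (o x : leechLattice) (ho : nrm o = 32) (hx : nrm x = 32)
    (h : dot o x = 0 ∨ dot o x = 8 ∨ dot o x = -8) {w w' : leechLattice}
    (hw : Adj o w) (hw1 : Adj x w) (hw' : Adj o w') (hw1' : Adj x w') :
    Relation.ReflTransGen (MuAdj o x) w w' :=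
  (good o x ho hx h).2 w w' ⟨hw, hw1⟩ ⟨hw', hw1'⟩

end Cfsg.Agent.MonsterP.LeechL3
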