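import Cfsg.Agent.MonsterP.LeechTriple

/-!
Let `o`, `b`, `c` be minimal vectors of the Leech lattice with `(b, c) = ±16` such that neither `b`
nor `c` is `±o` or adjacent to `o` (adjacency: inner product `±16`).  Then `o`, `b`, `c` have a
common neighbour.
-/

set_option autoImplicit false

namespace Cfsg.Agent.MonsterP.LeechNbr

open Cfsg Cfsg.Agent.MonsterX.KSide Cfsg.Agent.MonsterX.Lat Cfsg.Agent.Leech.Min
  Cfsg.Agent.Leech.Trans Cfsg.Agent.Leech.TransPair Cfsg.Agent.MonsterP.LeechTriple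

/-- A neighbour of shape `(4, ±4)`. -/
theorem exists_sign (x y : ℤ) (h : (x = 4 ∨ x = -4) ∧ y = 0 ∨ x = 0 ∧ (y = 4 ∨ y = -4) ∨
    (x = 2 ∨ x = -2) ∧ (y = 2 ∨ y = -2) ∨ (x = 3 ∨ x = -3) ∧ (y = 1 ∨ y = -1) ∨
    (x = 1 ∨ x = -1) ∧ (y = 3 ∨ y = -3)) :
    ∃ s : ℤ, (s = 4 ∨ s = -4) ∧ (4 * x + s * y = 16 ∨ 4 * x + s * y = -16) := by
  by_cases hs : 4 * x + 4 * y = 16 ∨ 4 * x + 4 * y = -16
  · exact ⟨4, Or.inl rfl, hs⟩
  · refine ⟨-4, Or.inr rfl, ?_⟩
    omega

section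

variable {p q r : GolayPt} (hpq : p ≠ q) (hpr : p ≠ r) (hqr : q ≠ r)

include hpq hpr hqr

theorem nbr_pm (d : leechLattice) {m : GolayPt} (hpm : p ≠ m) (hqm : q ≠ m) (hrm : r ≠ m)
    (h : ∃ s : ℤ, (s = 4 ∨ s = -4) ∧ (4 * (d : GolayPt → ℤ) p + s * (d : GolayPt → ℤ) m = 16 ∨
      4 * (d : GolayPt → ℤ) p + s * (d : GolayPt → ℤ) m = -16)) :
    ∃ e, nrm e = 32 ∧ (dot (v0 p q hpq) e = 16 ∨ dot (v0 p q hpq) e = -16) ∧
      (dot (v0 p r hpr) e = 16 ∨ dot (v0 p r hpr) e = -16) ∧ (dot d e = 16 ∨ dot d e = -16) := by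
  obtain ⟨s, hs, h⟩ := h
  refine ⟨lv p m 4 s hpm four_or hs, nrm_lv _ _ _ _ _ _ _, Or.inl ?_, Or.inl ?_, ?_⟩
  · rw [dot_v0', lv_coe, two_left, two_other hpq.symm hqm]; rfl
  · rw [dot_v0', lv_coe, two_left, two_other hpr.symm hrm]; rfl
  · rwa [dot_lv']

theorem nbr_qr (d : leechLattice)
    (h : ∃ s : ℤ, (s = 4 ∨ s = -4) ∧ (4 * (d : GolayPt → ℤ) q + s * (d : GolayPt → ℤ) r = 16 ∨
      4 * (d : GolayPt → ℤ) q + s * (d : GolayPt → ℤ) r = -16)) :
    ∃ e, nrm e = 32 ∧ (dot (v0 p q hpq) e = 16 ∨ dot (v0 p q hpq) e = -16) ∧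
      (dot (v0 p r hpr) e = 16 ∨ dot (v0 p r hpr) e = -16) ∧ (dot d e = 16 ∨ dot d e = -16) := by
  obtain ⟨s, hs, h⟩ := h
  refine ⟨lv q r 4 s hqr four_or hs, nrm_lv _ _ _ _ _ _ _, Or.inr ?_, ?_, ?_⟩
  · rw [dot_v0', lv_coe, two_left, two_other hpq hpr]; rfl
  · rw [dot_v0', lv_coe, two_right hqr, two_other hpq hpr]
    omega
  · rwa [dot_lv']

/-- The case of odd coordinates. -/
theorem nbr_odd (d : leechLattice) (h3 : Type3 (d : GolayPt → ℤ)) :
    ∃ e, nrm e = 32 ∧ (dot (v0 p q hpq) e = 16 ∨ dot (v0 p q hpq) e = -16) ∧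
      (dot (v0 p r hpr) e = 16 ∨ dot (v0 p r hpr) e = -16) ∧ (dot d e = 16 ∨ dot d e = -16) := by
  obtain ⟨k, hk, hk1, -⟩ := h3
  by_cases hkp : k = p
  · subst hkp
    obtain ⟨m, hpm, hqm, hrm⟩ := exists_fourth hpq hpr hqr
    exact nbr_pm hpq hpr hqr d hpm hqm hrm (exists_sign _ _
      (Or.inr (Or.inr (Or.inr (Or.inl ⟨hk, hk1 m hpm.symm⟩)))))
  by_cases hkq : k = q
  · subst hkq
    exact nbr_qr hpq hpr hqr d (exists_sign _ _
      (Or.inr (Or.inr (Or.inr (Or.inl ⟨hk, hk1 r hqr.symm⟩)))))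
  by_cases hkr : k = r
  · subst hkr
    exact nbr_qr hpq hpr hqr d (exists_sign _ _
      (Or.inr (Or.inr (Or.inr (Or.inr ⟨hk1 q hqr, hk⟩)))))
  exact nbr_pm hpq hpr hqr d (Ne.symm hkp) (Ne.symm hkq) (Ne.symm hkr) (exists_sign _ _
      (Or.inr (Or.inr (Or.inr (Or.inr ⟨hk1 p (Ne.symm hkp), hk⟩)))))

/-- A vector with an odd coordinate. -/
theorem type3_of_odd {d : leechLattice} (hn : nrm d = 32) {i : GolayPt}
    (hi : (d : GolayPt → ℤ) i % 2 = 1) : Type3 (d : GolayPt → ℤ) := by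
  rcases (min_iff _).1 ⟨d.2, hn⟩ with h | h | h
  · exfalso
    obtain ⟨k, l, hkl, hk, hl, h0⟩ := h
    by_cases hik : i = k
    · subst hik; omega
    · by_cases hil : i = l
      · subst hil; omega
      · rw [h0 i hik hil] at hi; omega
  · exfalso
    obtain ⟨A, -, hA2, hA0, -⟩ := h
    by_cases hiA : i ∈ A
    · have := hA2 i hiA; omega
    · rw [hA0 i hiA] at hi; omega
  · exact h

/-- The reduction of the remaining even cases to the odd one. -/
theorem nbr_move (d : leechLattice) (hn : nrm d = 32) {m : GolayPt} (hpm : p ≠ m) (hqm : q ≠ m)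
    (hrm : r ≠ m) (hp : (d : GolayPt → ℤ) p = 0)
    (hs : (d : GolayPt → ℤ) p + (d : GolayPt → ℤ) q + (d : GolayPt → ℤ) r +
      (d : GolayPt → ℤ) m = 2 ∨ (d : GolayPt → ℤ) p + (d : GolayPt → ℤ) q +
      (d : GolayPt → ℤ) r + (d : GolayPt → ℤ) m = -2) :
    ∃ e, nrm e = 32 ∧ (dot (v0 p q hpq) e = 16 ∨ dot (v0 p q hpq) e = -16) ∧
      (dot (v0 p r hpr) e = 16 ∨ dot (v0 p r hpr) e = -16) ∧ (dot d e = 16 ∨ dot d e = -16) := by
  obtain ⟨y, hF, hy, -⟩ := F_xi hpq hpr hqr hpm hqm hrm d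
  have hny : nrm y = 32 := by rw [hF.nrm_eq, hn]
  have hyp := hy p (by simp)
  obtain ⟨g, hg1, hg2, hg3⟩ := hF
  obtain ⟨e, he, h1, h2, h3⟩ := nbr_odd hpq hpr hqr y (type3_of_odd hpq hpr hqr hny (i := p)
    (by omega))
  refine ⟨g⁻¹ • e, by rw [nrm_smul, he], ?_, ?_, ?_⟩
  · rw [← dot_smul g, smul_inv_smul, hg1]; exact h1
  · rw [← dot_smul g, smul_inv_smul, hg2]; exact h2
  · rw [← dot_smul g, smul_inv_smul, hg3]; exact h3

theorem nbr_base (d : leechLattice) (hn : nrm d = 32)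
    (h1 : (d : GolayPt → ℤ) p - (d : GolayPt → ℤ) q = 0 ∨
      (d : GolayPt → ℤ) p - (d : GolayPt → ℤ) q = 2 ∨
      (d : GolayPt → ℤ) p - (d : GolayPt → ℤ) q = -2)
    (h2 : (d : GolayPt → ℤ) p - (d : GolayPt → ℤ) r = 0 ∨
      (d : GolayPt → ℤ) p - (d : GolayPt → ℤ) r = 2 ∨
      (d : GolayPt → ℤ) p - (d : GolayPt → ℤ) r = -2) :
    ∃ e, nrm e = 32 ∧ (dot (v0 p q hpq) e = 16 ∨ dot (v0 p q hpq) e = -16) ∧
      (dot (v0 p r hpr) e = 16 ∨ dot (v0 p r hpr) e = -16) ∧ (dot d e = 16 ∨ dot d e = -16) := by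
  rcases (min_iff _).1 ⟨d.2, hn⟩ with h | h | h
  · obtain ⟨k, l, hkl, hk, hl, h0⟩ := h
    have hval : ∀ i, (d : GolayPt → ℤ) i = 0 ∨ (d : GolayPt → ℤ) i = 4 ∨
        (d : GolayPt → ℤ) i = -4 := by
      intro i
      by_cases hik : i = k
      · subst hik; exact Or.inr hk
      · by_cases hil : i = l
        · subst hil; exact Or.inr hl
        · exact Or.inl (h0 i hik hil)
    have e1 : (d : GolayPt → ℤ) q = (d : GolayPt → ℤ) p := by
      have := hval p
      have := hval q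
      omega
    have e2 : (d : GolayPt → ℤ) r = (d : GolayPt → ℤ) p := by
      have := hval p
      have := hval r
      omega
    have hp0 : (d : GolayPt → ℤ) p = 0 := by
      by_contra hne
      have hp : p = k ∨ p = l := by
        by_contra hcon
        push Not at hcon
        exact hne (h0 p hcon.1 hcon.2)
      have hq : q = k ∨ q = l := by
        by_contra hcon
        push Not at hcon
        exact hne (by rw [← e1]; exact h0 q hcon.1 hcon.2)
      have hr : r = k ∨ r = l := by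
        by_contra hcon
        push Not at hcon
        exact hne (by rw [← e2]; exact h0 r hcon.1 hcon.2)
      rcases hp with rfl | rfl <;> rcases hq with rfl | rfl <;> rcases hr with rfl | rfl <;>
        first | exact hpq rfl | exact hpr rfl | exact hqr rfl
    have hpk : p ≠ k := by rintro rfl; omega
    have hqk : q ≠ k := by rintro rfl; omega
    have hrk : r ≠ k := by rintro rfl; omega
    exact nbr_pm hpq hpr hqr d hpk hqk hrk (exists_sign _ _ (Or.inr (Or.inl ⟨hp0, hk⟩)))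
  · obtain ⟨A, hA, hA2, hA0, -⟩ := h
    have h8 : A.card = 8 := hA.2
    have hm : ∃ m ∈ A, p ≠ m ∧ q ≠ m ∧ r ≠ m := by
      have h3 : ({p, q, r} : Finset GolayPt).card < A.card :=
        lt_of_le_of_lt Finset.card_le_three (by omega)
      obtain ⟨m, hm, hm'⟩ := Finset.exists_mem_notMem_of_card_lt_card h3
      simp only [Finset.mem_insert, Finset.mem_singleton, not_or] at hm'
      exact ⟨m, hm, Ne.symm hm'.1, Ne.symm hm'.2.1, Ne.symm hm'.2.2⟩
    obtain ⟨m, hmA, hpm, hqm, hrm⟩ := hm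
    have hm2 := hA2 m hmA
    by_cases hp : p ∈ A
    · exact nbr_pm hpq hpr hqr d hpm hqm hrm (exists_sign _ _
        (Or.inr (Or.inr (Or.inl ⟨hA2 p hp, hm2⟩))))
    have hp0 := hA0 p hp
    by_cases hq : q ∈ A
    · have hq2 := hA2 q hq
      by_cases hr : r ∈ A
      · exact nbr_qr hpq hpr hqr d (exists_sign _ _
          (Or.inr (Or.inr (Or.inl ⟨hq2, hA2 r hr⟩))))
      · -- a fourth point outside `A`
        have hr0 := hA0 r hr
        obtain ⟨n, hn'⟩ := exists_notMem (A ∪ {p, q, r}) (by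
          refine lt_of_le_of_lt (Finset.card_union_le _ _) ?_
          have : ({p, q, r} : Finset GolayPt).card ≤ 3 := Finset.card_le_three
          omega)
        simp only [Finset.mem_union, Finset.mem_insert, Finset.mem_singleton, not_or] at hn'
        have hn0 := hA0 n hn'.1
        exact nbr_move hpq hpr hqr d hn (Ne.symm hn'.2.1) (Ne.symm hn'.2.2.1)
          (Ne.symm hn'.2.2.2) hp0 (by omega)
    · have hq0 := hA0 q hq
      by_cases hr : r ∈ A
      · have hr2 := hA2 r hr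
        obtain ⟨n, hn'⟩ := exists_notMem (A ∪ {p, q, r}) (by
          refine lt_of_le_of_lt (Finset.card_union_le _ _) ?_
          have : ({p, q, r} : Finset GolayPt).card ≤ 3 := Finset.card_le_three
          omega)
        simp only [Finset.mem_union, Finset.mem_insert, Finset.mem_singleton, not_or] at hn'
        have hn0 := hA0 n hn'.1
        exact nbr_move hpq hpr hqr d hn (Ne.symm hn'.2.1) (Ne.symm hn'.2.2.1)
          (Ne.symm hn'.2.2.2) hp0 (by omega)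
      · have hr0 := hA0 r hr
        exact nbr_move hpq hpr hqr d hn hpm hqm hrm hp0 (by omega)
  · exact nbr_odd hpq hpr hqr d h

end

/-- Let `o`, `b`, `c` be minimal vectors with `(b, c) = ±16` and `(o, b), (o, c)` in `{0, ±8}`.
Then `o`, `b`, `c` have a common neighbour. -/
theorem exists_common (o b c : leechLattice) (ho : nrm o = 32) (hb : nrm b = 32)
    (hc : nrm c = 32) (hbc : dot b c = 16 ∨ dot b c = -16)
    (hob : dot o b = 0 ∨ dot o b = 8 ∨ dot o b = -8)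
    (hoc : dot o c = 0 ∨ dot o c = 8 ∨ dot o c = -8) :
    ∃ w, nrm w = 32 ∧ (dot o w = 16 ∨ dot o w = -16) ∧ (dot b w = 16 ∨ dot b w = -16) ∧
      (dot c w = 16 ∨ dot c w = -16) := by
  wlog h16 : dot b c = 16 with H
  · obtain ⟨w, hw, h1, h2, h3⟩ := H o b (-c) ho hb (by rw [nrm_neg, hc])
      (by rw [dot_neg_right]; omega) hob (by rw [dot_neg_right]; omega)
      (by rw [dot_neg_right]; omega)
    rw [dot_neg_left] at h3
    exact ⟨w, hw, h1, h2, by omega⟩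
  obtain ⟨p, hp⟩ := exists_notMem ∅ (by simp)
  obtain ⟨q, hq⟩ := exists_notMem {p} (by simp)
  obtain ⟨r, hr⟩ := exists_notMem {p, q} (lt_of_le_of_lt Finset.card_le_two (by decide))
  simp only [Finset.mem_insert, Finset.mem_singleton, not_or] at hq hr
  have hpq : p ≠ q := Ne.symm hq
  have hpr : p ≠ r := Ne.symm hr.1
  have hqr : q ≠ r := Ne.symm hr.2
  obtain ⟨g, hg1, hg2⟩ := exists_pair b c (v0 p q hpq) (v0 p r hpr) hb hc (nrm_v0 _) (nrm_v0 _)
    h16 (dot_v0_v0 hpq hpr hqr)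
  have e1 : dot (g • b) (g • o) = dot o b := by rw [dot_smul, dot_comm]
  have e2 : dot (g • c) (g • o) = dot o c := by rw [dot_smul, dot_comm]
  rw [hg1, dot_v0'] at e1
  rw [hg2, dot_v0'] at e2
  obtain ⟨e, he, h1, h2, h3⟩ := nbr_base hpq hpr hqr (g • o) (by rw [nrm_smul, ho]) (by omega)
    (by omega)
  refine ⟨g⁻¹ • e, by rw [nrm_smul, he], ?_, ?_, ?_⟩
  · rw [← dot_smul g, smul_inv_smul]; exact h3
  · rw [← dot_smul g, smul_inv_smul, hg1]; exact h1
  · rw [← dot_smul g, smul_inv_smul, hg2]; exact h2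

end Cfsg.Agent.MonsterP.LeechNbr
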