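import Cfsg.Agent.MonsterP.Cover

/-!
# Homomorphisms from sheets

`s` a section of `D.pr` over `V₀`.  The elements of `G` which preserve `V₀` and lift to an element of `Γ`
compatible with `s` form a subgroup `compat D V₀ s`, and the lift is a homomorphism `lam : compat → Γ`.
An element preserving `V₀` is in `compat` if `V₀` is connected and `s` is a sheet.
-/

set_option autoImplicit false

namespace Cfsg.Agent.MonsterP

open Cfsg.Agent.MonsterU.Morse

variable {Γ G X : Type*} [Group Γ] [Group G] [MulAction G X]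

/-- `g` lifts `m` compatibly with the section. -/
def Lifts (π : Γ →* G) {Y : Type*} [MulAction Γ Y] (V₀ : Set X) (s : X → Y) (m : G) (g : Γ) : Prop :=
  π g = m ∧ ∀ x ∈ V₀, g • s x = s (m • x)

namespace CovData

variable {π : Γ →* G} {H : Subgroup Γ} {n : Γ} {x₀ : X} (D : CovData π H n x₀)

/-- The group of the liftable elements preserving `V₀`. -/
def compat (D : CovData π H n x₀) (V₀ : Set X) (s : X → Γ ⧸ H) : Subgroup G where
  carrier := {m | (∀ x, m • x ∈ V₀ ↔ x ∈ V₀) ∧ ∃ g, Lifts π V₀ s m g}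
  mul_mem' := by
    rintro a b ⟨ha, g, hg, hg'⟩ ⟨hb, h, hh, hh'⟩
    refine ⟨fun x => by rw [mul_smul, ha, hb], g * h, by rw [map_mul, hg, hh], fun x hx => ?_⟩
    rw [mul_smul, hh' x hx, hg' _ ((hb x).2 hx), mul_smul]
  one_mem' := ⟨fun x => by rw [one_smul], 1, map_one _, fun x _ => by rw [one_smul, one_smul]⟩
  inv_mem' := by
    rintro a ⟨ha, g, hg, hg'⟩
    refine ⟨fun x => by rw [← ha, smul_inv_smul], g⁻¹, by rw [map_inv, hg], fun x hx => ?_⟩
    rw [inv_smul_eq_iff, hg' (a⁻¹ • x) ((ha _).1 (by rwa [smul_inv_smul])), smul_inv_smul]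

theorem mem_compat (D : CovData π H n x₀) {V₀ : Set X} {s : X → Γ ⧸ H} {m : G} :
    m ∈ D.compat V₀ s ↔ (∀ x, m • x ∈ V₀ ↔ x ∈ V₀) ∧ ∃ g, Lifts π V₀ s m g := Iff.rfl

/-- The lift of an element. -/
noncomputable def lamFun (D : CovData π H n x₀) (V₀ : Set X) (s : X → Γ ⧸ H)
    (m : D.compat V₀ s) : Γ := m.2.2.choose

include D

theorem lamFun_spec (V₀ : Set X) (s : X → Γ ⧸ H) (m : D.compat V₀ s) :
    Lifts π V₀ s (m : G) (D.lamFun V₀ s m) := m.2.2.choose_spec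

theorem lifts_unique {V₀ : Set X} {s : X → Γ ⧸ H} {m : G} {g g' : Γ} (h : Lifts π V₀ s m g)
    {x : X} (hx : x ∈ V₀) (h1 : π g' = m) (h2 : g' • s x = s (m • x)) : g' = g :=
  D.eq_of (by rw [h1, h.1]) (by rw [h2, h.2 x hx])

omit D in
/-- **The homomorphism of a section.** -/
noncomputable def lam (D : CovData π H n x₀) (V₀ : Set X) (s : X → Γ ⧸ H) (hne : V₀.Nonempty) :
    D.compat V₀ s →* Γ :=
  MonoidHom.mk' (D.lamFun V₀ s) (by
    intro a b
    obtain ⟨x, hx⟩ := hne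
    have ha := D.lamFun_spec V₀ s a
    have hb := D.lamFun_spec V₀ s b
    refine (D.lifts_unique (D.lamFun_spec V₀ s (a * b)) hx ?_ ?_).symm
    · rw [map_mul, ha.1, hb.1]
      rfl
    · rw [mul_smul, hb.2 x hx, ha.2 _ ((b.2.1 x).2 hx), ← mul_smul]
      rfl)

theorem lam_lifts {V₀ : Set X} {s : X → Γ ⧸ H} (hne : V₀.Nonempty) (m : D.compat V₀ s) :
    Lifts π V₀ s (m : G) (D.lam V₀ s hne m) := D.lamFun_spec V₀ s m

theorem π_lam {V₀ : Set X} {s : X → Γ ⧸ H} (hne : V₀.Nonempty) (m : D.compat V₀ s) :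
    π (D.lam V₀ s hne m) = m := (D.lam_lifts hne m).1

theorem lam_smul {V₀ : Set X} {s : X → Γ ⧸ H} (hne : V₀.Nonempty) (m : D.compat V₀ s)
    {x : X} (hx : x ∈ V₀) : D.lam V₀ s hne m • s x = s ((m : G) • x) := (D.lam_lifts hne m).2 x hx

/-- an element over `m` with the right value at one point is `lam m` -/
theorem eq_lam {V₀ : Set X} {s : X → Γ ⧸ H} (hne : V₀.Nonempty) (m : D.compat V₀ s) {x : X}
    (hx : x ∈ V₀) {g : Γ} (h1 : π g = m) (h2 : g • s x = s ((m : G) • x)) :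
    g = D.lam V₀ s hne m := D.lifts_unique (D.lam_lifts hne m) hx h1 h2

/-- the homomorphisms of two sections agree -/
theorem lam_eq_lam {V₀ V₁ : Set X} {s s' : X → Γ ⧸ H} (hne : V₀.Nonempty) (hne' : V₁.Nonempty)
    {m : G} (h : m ∈ D.compat V₀ s) (h' : m ∈ D.compat V₁ s') {x : X} (hx : x ∈ V₀) (hx' : x ∈ V₁)
    (hs : s x = s' x) (hs' : s (m • x) = s' (m • x)) :
    D.lam V₀ s hne ⟨m, h⟩ = D.lam V₁ s' hne' ⟨m, h'⟩ := by
  refine D.eq_lam hne' ⟨m, h'⟩ hx' (D.π_lam hne ⟨m, h⟩) ?_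
  rw [← hs, D.lam_smul hne ⟨m, h⟩ hx]
  exact hs'

/-- the same section on two sets -/
theorem lam_eq_lam_same {V₀ V₁ : Set X} {s : X → Γ ⧸ H} (hne : V₀.Nonempty) (hne' : V₁.Nonempty)
    {m : G} (h : m ∈ D.compat V₀ s) (h' : m ∈ D.compat V₁ s) {x : X} (hx : x ∈ V₀) (hx' : x ∈ V₁) :
    D.lam V₀ s hne ⟨m, h⟩ = D.lam V₁ s hne' ⟨m, h'⟩ :=
  D.lam_eq_lam hne hne' h h' hx hx' rfl rfl

/-- a liftable element stays liftable on a smaller invariant set -/
theorem compat_mono {V₀ V₁ : Set X} {s : X → Γ ⧸ H} (hV : V₁ ⊆ V₀) {m : G} (h : m ∈ D.compat V₀ s)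
    (hm : ∀ x, m • x ∈ V₁ ↔ x ∈ V₁) : m ∈ D.compat V₁ s :=
  ⟨hm, h.2.choose, h.2.choose_spec.1, fun x hx => h.2.choose_spec.2 x (hV hx)⟩

omit D in
/-- Connectivity inside a set. -/
def Conn (π : Γ →* G) (n : Γ) (x₀ : X) (V₀ : Set X) : Prop :=
  ∀ x ∈ V₀, ∀ y ∈ V₀, Relation.ReflTransGen (fun a b => a ∈ V₀ ∧ b ∈ V₀ ∧ Adj π n x₀ a b) x y

/-- an element over `m` which has the right value at one point of a connected set has the right values
everywhere; here `s'` is a second sheet, on `m • V₀` -/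
theorem lifts_of_conn {V₀ V₁ : Set X} {s s' : X → Γ ⧸ H} (hs : Sheet (Adj π n x₀) (Adj' H n) D.pr V₀ s)
    (hs' : Sheet (Adj π n x₀) (Adj' H n) D.pr V₁ s') {m : G} (hm : ∀ x ∈ V₀, m • x ∈ V₁) {g : Γ}
    (hg : π g = m) {x y : X} (hx : x ∈ V₀) (hgx : g • s x = s' (m • x))
    (hxy : Relation.ReflTransGen (fun a b => a ∈ V₀ ∧ b ∈ V₀ ∧ Adj π n x₀ a b) x y) :
    g • s y = s' (m • y) := by
  induction hxy with
  | refl => exact hgx
  | @tail b c _ hbc ih =>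
    obtain ⟨hb, hc, hbc⟩ := hbc
    have h1 : Adj' H n (g • s b) (g • s c) := (hs.adj b hb c hc hbc).smul g
    rw [ih] at h1
    refine D.uniq _ _ _ h1 (hs'.adj _ (hm b hb) _ (hm c hc) (hbc.smul m)) ?_
    rw [D.pr_smul, hs.sec c hc, hs'.sec _ (hm c hc), hg]

/-- **Liftability.**  An element preserving a connected set with a sheet is liftable. -/
theorem mem_compat_of_conn {V₀ : Set X} {s : X → Γ ⧸ H}
    (hs : Sheet (Adj π n x₀) (Adj' H n) D.pr V₀ s) (hc : Conn π n x₀ V₀) (hne : V₀.Nonempty) {m : G}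
    (hm : ∀ x, m • x ∈ V₀ ↔ x ∈ V₀) : m ∈ D.compat V₀ s := by
  obtain ⟨x, hx⟩ := hne
  obtain ⟨g, hg, hg'⟩ := D.exists_over m (u := s x) (v := s (m • x))
    (by rw [hs.sec x hx, hs.sec _ ((hm x).2 hx)])
  exact ⟨hm, g, hg, fun y hy => D.lifts_of_conn hs hs (fun x hx => (hm x).2 hx) hg hx hg' (hc x hx y hy)⟩

/-- the stabiliser of the base point -/
theorem mem_compat_base {s : X → Γ ⧸ H} (hs : s x₀ = ((1 : Γ) : Γ ⧸ H)) {m : G} (hm : m • x₀ = x₀) :
    m ∈ D.compat {x₀} s := by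
  refine ⟨fun x => ?_, ?_⟩
  · rw [Set.mem_singleton_iff, Set.mem_singleton_iff]
    constructor
    · intro h
      exact MulAction.injective m (h.trans hm.symm)
    · rintro rfl
      exact hm
  · obtain ⟨h, hh, rfl⟩ := D.onto m hm
    refine ⟨h, rfl, fun x hx => ?_⟩
    rw [Set.mem_singleton_iff] at hx
    subst hx
    rw [hm, hs]
    show ((h * 1 : Γ) : Γ ⧸ H) = _
    rw [mul_one, eq_comm, QuotientGroup.eq, inv_one, one_mul]
    exact hh

omit D in
/-- a lift fixing the base point of `Γ ⧸ H` is in `H` -/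
theorem mem_H_of_smul {g : Γ} (h : g • ((1 : Γ) : Γ ⧸ H) = ((1 : Γ) : Γ ⧸ H)) : g ∈ H := by
  have h1 : ((g * 1 : Γ) : Γ ⧸ H) = ((1 : Γ) : Γ ⧸ H) := h
  rw [mul_one, eq_comm, QuotientGroup.eq, inv_one, one_mul] at h1
  exact h1

end CovData

end Cfsg.Agent.MonsterP
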