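import Cfsg.Agent.MonsterP.SChar
import Cfsg.Agent.MonsterP.SheetHom
import Cfsg.Agent.MonsterP.LeechL2
import Cfsg.Agent.MonsterP.LeechL3
import Cfsg.Agent.MonsterP.LeechNbr

/-!
# The sheet over the axes of the extraspecial group

The triangles of the graph on `S` (the axes `M.a x`, `x` short; adjacency: inner product `±16`) are closed
if one triangle of type IIb (product `zc`) and one of type IIa are; then the covering has a sheet over `S`.
-/

set_option autoImplicit false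

namespace Cfsg.Agent.MonsterP.SGraph

open Cfsg Cfsg.Agent.LeechMat.Core Cfsg.Agent.MonsterX.KSide Cfsg.Agent.MonsterX.Lat
  Cfsg.Agent.MonsterX.KLift Cfsg.Agent.MonsterX.KSLat Cfsg.Agent.MonsterP.SChar
  Cfsg.Agent.MonsterU.Morse

variable {Γ G V P W : Type*} [Group Γ] [Group G] [AddCommGroup V] [Module ℚ V]
  [DistribMulAction G V] [SMulCommClass G ℚ V] [Group P] [AddCommGroup W] [Module ℚ W]
  {M : KS G V P W} {θ : leechLattice → P}
  {π : Γ →* G} {H : Subgroup Γ} {n : Γ} {o o' : P}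

/-- The edge `(a o, a o')` defining the covering. -/
structure Edge (M : KS G V P W) (π : Γ →* G) (n : Γ) (o o' : P) : Prop where
  mem : o ∈ M.Sh
  mem' : o' ∈ M.Sh
  ad : Ad M o o'
  smul : π n • M.a o = M.a o'

theorem Ad.ne {x y : P} (hx : x ∈ M.Sh) (h : Ad M x y) : y ≠ x := by
  rintro rfl
  have h1 := dot_self' hx
  rcases h with h | h <;> rw [h1] at h <;> norm_num at h

theorem Ad.ne_z {x y : P} (hx : x ∈ M.Sh) (h : Ad M x y) : y ≠ M.zc * x := by
  rintro rfl
  have h1 := dot_self' hx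
  unfold Ad at h
  rw [M.lam_z] at h
  rcases h with h | h <;> rw [h1] at h <;> norm_num at h

theorem B_of_ad {x y : P} (hx : x ∈ M.Sh) (hy : y ∈ M.Sh) (h : Ad M x y) :
    M.B (M.a x) (M.a y) = 1 := by
  rw [M.B_a_ne x y hx hy (Ad.ne hx h) (Ad.ne_z hx h)]
  rcases h with h | h <;> rw [h] <;> norm_num

theorem ad_of_B {x y : P} (hx : x ∈ M.Sh) (hy : y ∈ M.Sh) (h : M.B (M.a x) (M.a y) = 1) :
    Ad M x y := by
  by_cases h1 : y = x
  · rw [h1, M.B_a_self x hx] at h
    norm_num at h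
  by_cases h2 : y = M.zc * x
  · rw [h2, M.B_a_z x hx] at h
    norm_num at h
  rw [M.B_a_ne x y hx hy h1 h2] at h
  have h3 : ((dot (M.lam x) (M.lam y) : ℤ) : ℚ) ^ 2 = ((16 : ℤ) : ℚ) ^ 2 := by
    push_cast
    linarith
  have h4 : (dot (M.lam x) (M.lam y)) ^ 2 = 16 ^ 2 := by exact_mod_cast h3
  exact sq_eq_sq_iff_eq_or_eq_neg.1 h4

/-- Adjacency on `S`. -/
theorem adj_iff (L : Lift M θ) (E : Edge M π n o o') {x y : P} (hx : x ∈ M.Sh) (hy : y ∈ M.Sh) :
    Adj π n (M.a o) (M.a x) (M.a y) ↔ Ad M x y := by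
  constructor
  · rintro ⟨g, h1, h2⟩
    apply ad_of_B hx hy
    rw [h1, h2, M.B_inv, E.smul]
    exact B_of_ad E.mem E.mem' E.ad
  · intro h
    obtain ⟨k, α, hk, h1, h2⟩ := trans_pair L E.mem E.mem' hx hy E.ad h
    refine ⟨k, ?_, ?_⟩
    · rw [hk.smul_a E.mem, h1]
    · rw [E.smul, hk.smul_a E.mem', h2]

section

variable (D : CovData π H n (M.a o))

/-- transport of closed triangles -/
theorem closed_map {k : G} {α : P ≃* P} (hk : ActsBy M k α) {x y w : P} (hx : x ∈ M.Sh)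
    (hy : y ∈ M.Sh) (hw : w ∈ M.Sh) (h : D.Closed (M.a x) (M.a y) (M.a w)) :
    D.Closed (M.a (α x)) (M.a (α y)) (M.a (α w)) := by
  have h1 := CovData.Closed.smul D h k
  rwa [hk.smul_a hx, hk.smul_a hy, hk.smul_a hw] at h1

/-- **Triangles of type IIb.** -/
theorem closed_IIb (L : Lift M θ) (E : Edge M π n o o')
    (hb : D.Closed (M.a o) (M.a o') (M.a (M.zc * (o * o')))) {x y : P} (hx : x ∈ M.Sh)
    (hy : y ∈ M.Sh) (h : Ad M x y) : D.Closed (M.a x) (M.a y) (M.a (M.zc * (x * y))) := by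
  obtain ⟨k, α, hk, h1, h2⟩ := trans_pair L E.mem E.mem' hx hy E.ad h
  have h3 := closed_map D hk E.mem E.mem' (M.Sh_z _ (mul_mem L E.mem E.mem' E.ad)) hb
  rwa [map_mul, map_mul, hk.zc L, h1, h2] at h3

/-- **Triangles of type IIa.** -/
theorem closed_IIa (L : Lift M θ) {x₁ y₁ w₁ : P} (hx₁ : x₁ ∈ M.Sh) (hy₁ : y₁ ∈ M.Sh)
    (hw₁ : w₁ ∈ M.Sh) (h₁ : IIa M x₁ y₁ w₁) (ha : D.Closed (M.a x₁) (M.a y₁) (M.a w₁)) {x y w : P}
    (hx : x ∈ M.Sh) (hy : y ∈ M.Sh) (hw : w ∈ M.Sh) (h : IIa M x y w) :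
    D.Closed (M.a x) (M.a y) (M.a w) := by
  obtain ⟨k, α, hk, h2, h3, h4⟩ := trans_IIa L hx₁ hy₁ hw₁ hx hy hw h₁ h
  have h5 := closed_map D hk hx₁ hy₁ hw₁ ha
  rwa [h2, h3, h4] at h5

end

/-! ### Lifting paths from the lattice -/

/-- A path of lattice vectors lifts to short elements. -/
theorem lift_trans {A : leechLattice → leechLattice → Prop} {R : P → P → Prop}
    (hn : ∀ {v v'}, A v v' → nrm v' = 32)
    (hR : ∀ x ∈ M.Sh, ∀ y ∈ M.Sh, ∀ v v', A v v' → (v = M.lam x ∨ v = -M.lam x) →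
      (v' = M.lam y ∨ v' = -M.lam y) → R x y) {w : P} (hw : w ∈ M.Sh) {v : leechLattice}
    (h : Relation.TransGen A (M.lam w) v) : ∀ y ∈ M.Sh, (v = M.lam y ∨ v = -M.lam y) →
      Relation.TransGen R w y := by
  induction h with
  | single h => exact fun y hy hv => Relation.TransGen.single (hR w hw y hy _ _ h (Or.inl rfl) hv)
  | @tail b c hab hbc ih =>
    intro y hy hv
    have hb : nrm b = 32 := by
      cases hab with
      | single h => exact hn h
      | tail _ h => exact hn h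
    obtain ⟨t, ht, htb⟩ := M.lam_surj b hb
    exact (ih t ht htb).tail (hR t ht y hy _ _ hbc htb hv)

/-- Connectivity of short elements from connectivity of lattice vectors. -/
theorem lift_conn {A : leechLattice → leechLattice → Prop} {R : P → P → Prop}
    (hn : ∀ {v v'}, A v v' → nrm v' = 32)
    (hR : ∀ x ∈ M.Sh, ∀ y ∈ M.Sh, ∀ v v', A v v' → (v = M.lam x ∨ v = -M.lam x) →
      (v' = M.lam y ∨ v' = -M.lam y) → R x y) {w w' : P} (hw : w ∈ M.Sh) (hw' : w' ∈ M.Sh)
    (h : Relation.ReflTransGen A (M.lam w) (M.lam w'))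
    (h' : Relation.ReflTransGen A (M.lam w) (-M.lam w)) : Relation.TransGen R w w' := by
  rcases Relation.reflTransGen_iff_eq_or_transGen.1 h with e | h
  · rcases Relation.reflTransGen_iff_eq_or_transGen.1 h' with e' | h'
    · exact absurd e'.symm (ne_neg _ (M.lam_norm w hw))
    · exact lift_trans hn hR hw h' w' hw' (Or.inr (by rw [e]))
  · exact lift_trans hn hR hw h w' hw' (Or.inl rfl)

/-- inner products of signed vectors -/
theorem dot_signs {x y : P} {v v' : leechLattice} (h : v = M.lam x ∨ v = -M.lam x)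
    (h' : v' = M.lam y ∨ v' = -M.lam y) :
    dot v v' = dot (M.lam x) (M.lam y) ∨ dot v v' = -dot (M.lam x) (M.lam y) := by
  rcases h with rfl | rfl <;> rcases h' with rfl | rfl
  · exact Or.inl rfl
  · right; rw [dot_neg_right]
  · right; rw [dot_neg_left]
  · left; rw [dot_neg_right, dot_neg_left, neg_neg]

theorem ad_of_signs {x y : P} {v v' : leechLattice} (h : v = M.lam x ∨ v = -M.lam x)
    (h' : v' = M.lam y ∨ v' = -M.lam y) (hd : dot v v' = 16 ∨ dot v v' = -16) : Ad M x y := by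
  unfold Ad
  rcases dot_signs h h' with e | e <;> rw [e] at hd <;> omega

/-- IIa triples from the nine-graph -/
theorem IIa_of_N9 {x y w : P} {v v' : leechLattice} (h : LeechL2.N9 (M.lam x) v v')
    (hv : v = M.lam y ∨ v = -M.lam y) (hv' : v' = M.lam w ∨ v' = -M.lam w) : IIa M x y w := by
  obtain ⟨⟨-, h1⟩, ⟨-, h2⟩, h3⟩ := h
  have hvv : dot v v' = 16 ∨ dot v v' = -16 := by
    rcases h1 with h1 | h1 <;> rcases h2 with h2 | h2 <;> rw [h1, h2] at h3 <;> omega
  have hx : M.lam x = M.lam x ∨ M.lam x = -M.lam x := Or.inl rfl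
  refine ⟨ad_of_signs hx hv h1, ad_of_signs hx hv' h2, ad_of_signs hv hv' hvv, ?_⟩
  have key : dot (M.lam x) (M.lam y) * dot (M.lam x) (M.lam w) * dot (M.lam y) (M.lam w) = 4096 := by
    rw [← h3]
    rcases hv with rfl | rfl <;> rcases hv' with rfl | rfl <;>
      simp only [dot_neg_right, dot_neg_left] <;> ring
  rw [key]
  norm_num

/-- lift of the nine-graph -/
theorem conn_IIa {x y w : P} (hx : x ∈ M.Sh) (hy : y ∈ M.Sh) (hw : w ∈ M.Sh) (hxy : Ad M x y)
    (hxw : Ad M x w) : Relation.TransGen (fun a b => a ∈ M.Sh ∧ b ∈ M.Sh ∧ IIa M x a b) y w := by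
  have hxn := M.lam_norm x hx
  have hyn := M.lam_norm y hy
  have hwn := M.lam_norm w hw
  refine lift_conn (A := LeechL2.N9 (M.lam x)) (fun h => h.2.1.1)
    (fun a ha b hb v v' h hv hv' => ⟨ha, hb, IIa_of_N9 h hv hv'⟩) hy hw
    (LeechL2.conn_nine _ _ _ hxn hyn hxy hwn hxw)
    (LeechL2.conn_nine _ _ _ hxn hyn hxy (by rw [nrm_neg, hyn]) ?_)
  rw [dot_neg_right]
  rcases hxy with h | h <;> rw [h]
  · exact Or.inr rfl
  · exact Or.inl rfl

/-! ### Triangles of type I -/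

section

variable (D : CovData π H n (M.a o))

/-- **Triangles of type I.** -/
theorem closed_I (L : Lift M θ) (E : Edge M π n o o')
    (hb : ∀ x ∈ M.Sh, ∀ y ∈ M.Sh, Ad M x y → D.Closed (M.a x) (M.a y) (M.a (M.zc * (x * y))))
    (ha : ∀ x ∈ M.Sh, ∀ y ∈ M.Sh, ∀ w ∈ M.Sh, IIa M x y w → D.Closed (M.a x) (M.a y) (M.a w))
    {x y : P} (hx : x ∈ M.Sh) (hy : y ∈ M.Sh) (h : Ad M x y) :
    D.Closed (M.a x) (M.a y) (M.a (x * y)) := by
  have hxy := mul_mem L hx hy h
  have ad2 := ad_mul_left L hx hy h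
  have ad3 := ad_mul_right L hx hy h
  refine ⟨(adj_iff L E hx hy).2 h, (adj_iff L E hx hxy).2 ad2, (adj_iff L E hy hxy).2 ad3, ?_⟩
  intro u v t hu hv ht huv hut
  have hz := M.Sh_z x hx
  -- the lift of `a (z x)` over the lift of `a y`
  obtain ⟨w₀, hw₀, hvw₀⟩ := D.lift v (M.a (M.zc * x)) (by
    rw [hv]
    exact (adj_iff L E hy hz).2 ((ad_z_right M).2 (Ad.symm M h)))
  -- the property: the lift of `a c` next to `u` is next to `w₀`
  have step : ∀ c d : P, c ∈ M.Sh → d ∈ M.Sh → IIa M x c d →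
      (∀ c', D.pr c' = M.a c → Adj' H n u c' → Adj' H n c' w₀) →
      ∀ d', D.pr d' = M.a d → Adj' H n u d' → Adj' H n d' w₀ := by
    intro c d hc hd hcd hQ d' hd' hud'
    obtain ⟨c', hc', huc'⟩ := D.lift u (M.a c) (by
      rw [hu]
      exact (adj_iff L E hx hc).2 hcd.xy)
    have h1 := hQ c' hc' huc'
    -- `c'` and `d'` are adjacent
    have h2 : Adj' H n c' d' := (ha x hx c hc d hd hcd).2.2.2 u c' d' hu hc' hd' huc' hud'
    -- the triangle `z x, c, d`
    have h3 : IIa M (M.zc * x) c d := by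
      obtain ⟨a1, a2, a3, a4⟩ := hcd
      exact ⟨(ad_z_left M).2 a1, (ad_z_left M).2 a2, a3, by rw [M.lam_z]; exact a4⟩
    have h4 := CovData.Closed.rot D (ha _ hz c hc d hd h3)
    exact h4.2.2.2 c' d' w₀ hc' hd' hw₀ h2 h1
  have hQ0 : ∀ c', D.pr c' = M.a y → Adj' H n u c' → Adj' H n c' w₀ := by
    intro c' hc' huc'
    have : c' = v := D.uniq u c' v huc' huv (by rw [hc', hv])
    rw [this]
    exact hvw₀
  have hQ : ∀ c', D.pr c' = M.a (x * y) → Adj' H n u c' → Adj' H n c' w₀ := by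
    have hpath := conn_IIa hx hy hxy h ad2
    have key : ∀ c, Relation.TransGen (fun a b => a ∈ M.Sh ∧ b ∈ M.Sh ∧ IIa M x a b) y c →
        ∀ c', D.pr c' = M.a c → Adj' H n u c' → Adj' H n c' w₀ := by
      intro c hc
      induction hc with
      | single h => exact step _ _ h.1 h.2.1 h.2.2 hQ0
      | tail _ h ih => exact step _ _ h.1 h.2.1 h.2.2 ih
    exact key _ hpath
  have h5 := hQ t ht hut
  -- the triangle `z x, y, x y` is of type IIb
  have h6 := hb _ hz y hy ((ad_z_left M).2 h)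
  have e : M.zc * (M.zc * x * y) = x * y := by
    rw [mul_assoc M.zc x y, M.zc_zc]
  rw [e] at h6
  exact h6.2.2.2 w₀ v t hw₀ hv ht (D.symm' hvw₀) (D.symm' h5)

/-- **All triangles of `S` are closed.** -/
theorem closed_all (L : Lift M θ) (E : Edge M π n o o')
    (hb : ∀ x ∈ M.Sh, ∀ y ∈ M.Sh, Ad M x y → D.Closed (M.a x) (M.a y) (M.a (M.zc * (x * y))))
    (ha : ∀ x ∈ M.Sh, ∀ y ∈ M.Sh, ∀ w ∈ M.Sh, IIa M x y w → D.Closed (M.a x) (M.a y) (M.a w))
    {x y w : P} (hx : x ∈ M.Sh) (hy : y ∈ M.Sh) (hw : w ∈ M.Sh) (h1 : Ad M x y) (h2 : Ad M x w)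
    (h3 : Ad M y w) : D.Closed (M.a x) (M.a y) (M.a w) := by
  by_cases hpos : 0 < dot (M.lam x) (M.lam y) * dot (M.lam x) (M.lam w) * dot (M.lam y) (M.lam w)
  · exact ha x hx y hy w hw ⟨h1, h2, h3, hpos⟩
  · have e1 : dot (M.lam w) (M.lam x) = dot (M.lam x) (M.lam w) := dot_comm _ _
    have e2 : dot (M.lam w) (M.lam y) = dot (M.lam y) (M.lam w) := dot_comm _ _
    have h4 : dot (M.lam w) (M.lam (x * y)) = 32 ∨ dot (M.lam w) (M.lam (x * y)) = -32 := by
      have h5 := dot_mul_right L hx hy h1 (M.lam w)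
      rw [e1, e2] at h5
      rcases h2 with h2 | h2 <;> rcases h3 with h3 | h3 <;>
        rcases h5 with ⟨h5, h6 | h6⟩ | ⟨h5, h6 | h6⟩ <;>
        rw [h2, h3] at h6 <;> rw [h2, h3, h5] at hpos <;> first
          | (exfalso; norm_num at hpos; done)
          | (left; rw [h6]; norm_num; done)
          | (right; rw [h6]; norm_num; done)
    have hxy := mul_mem L hx hy h1
    have h7 : (dot (M.lam (x * y)) (M.lam w)) ^ 2 = 1024 := by
      rw [dot_comm]
      rcases h4 with h4 | h4 <;> rw [h4] <;> norm_num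
    rcases M.eq_or_of_dot _ _ hxy hw h7 with e | e
    · rw [e]
      exact closed_I D L E hb ha hx hy h1
    · rw [e]
      exact hb x hx y hy h1

/-! ### The sheet over `S` -/

/-- The distance from the base axis. -/
noncomputable def height (_ : CovData π H n (M.a o)) (v : V) : ℕ := by
  classical exact if v = M.a o then 0 else if Adj π n (M.a o) (M.a o) v then 1 else 2

theorem height_base : height D (M.a o) = 0 := by
  unfold height
  rw [if_pos rfl]

theorem height_le (v : V) : height D v ≤ 2 := by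
  unfold height
  split_ifs <;> omega

theorem height_zero {v : V} (h : height D v = 0) : v = M.a o := by
  unfold height at h
  split_ifs at h with h1 h2
  · exact h1

theorem height_one (L : Lift M θ) (E : Edge M π n o o') {x : P} (hx : x ∈ M.Sh) :
    height D (M.a x) = 1 ↔ Ad M o x := by
  unfold height
  split_ifs with h1 h2
  · have h2 := M.a_inj x o hx E.mem h1
    rw [h2]
    exact ⟨fun h => absurd h (by norm_num), fun h => absurd rfl (Ad.ne E.mem h)⟩
  · exact ⟨fun _ => (adj_iff L E E.mem hx).1 h2, fun _ => rfl⟩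
  · exact ⟨fun h => absurd h (by norm_num), fun h => absurd ((adj_iff L E E.mem hx).2 h) h2⟩

theorem dot_cases {x y : P} (hx : x ∈ M.Sh) (hy : y ∈ M.Sh) :
    y = x ∨ y = M.zc * x ∨ Ad M x y ∨
      (dot (M.lam x) (M.lam y) = 0 ∨ dot (M.lam x) (M.lam y) = 8 ∨ dot (M.lam x) (M.lam y) = -8) := by
  by_cases h1 : y = x
  · exact Or.inl h1
  by_cases h2 : y = M.zc * x
  · exact Or.inr (Or.inl h2)
  right; right
  have h8 : (8 : ℤ) ∣ dot (M.lam x) (M.lam y) := Cfsg.Agent.Leech.Basic.eight_dvd_dotInt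
    (M.lam x).2 (M.lam y).2
  have hne1 : M.lam x - M.lam y ≠ 0 := by
    intro h
    rcases M.lam_inj x hx y hy (Or.inl (sub_eq_zero.1 h).symm) with e | e
    · exact h1 e
    · exact h2 e
  have hne2 : M.lam x + M.lam y ≠ 0 := by
    intro h
    rcases M.lam_inj x hx y hy (Or.inr (eq_neg_of_add_eq_zero_right h)) with e | e
    · exact h1 e
    · exact h2 e
  have h3 := le_nrm hne1
  have h4 := le_nrm hne2
  rw [nrm_sub, M.lam_norm x hx, M.lam_norm y hy] at h3
  rw [nrm_add, M.lam_norm x hx, M.lam_norm y hy] at h4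
  unfold Ad
  omega

/-- common neighbours of `o` and a point of height 2 -/
theorem exists_low (E : Edge M π n o o') {x : P} (hx : x ∈ M.Sh) (hox : x ≠ o) (h : ¬ Ad M o x) :
    ∃ w ∈ M.Sh, Ad M o w ∧ Ad M x w := by
  rcases dot_cases E.mem hx with h1 | h1 | h1 | h1
  · exact absurd h1 hox
  · refine ⟨o', E.mem', E.ad, ?_⟩
    rw [h1, ad_z_left]
    exact E.ad
  · exact absurd h1 h
  · obtain ⟨v, hv1, hv2⟩ := LeechL3.exists_mu _ _ (M.lam_norm o E.mem) (M.lam_norm x hx) h1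
    obtain ⟨w, hw, hwv⟩ := M.lam_surj v hv1.1
    exact ⟨w, hw, ad_of_signs (Or.inl rfl) hwv hv1.2, ad_of_signs (Or.inl rfl) hwv hv2.2⟩

/-- The common neighbours are connected. -/
theorem conn_low (E : Edge M π n o o') {x : P} (hx : x ∈ M.Sh) (hox : x ≠ o) (h : ¬ Ad M o x)
    {w w' : P} (hw : w ∈ M.Sh) (hw' : w' ∈ M.Sh) (h1 : Ad M o w) (h2 : Ad M x w) (h1' : Ad M o w')
    (h2' : Ad M x w') : Relation.TransGen (fun a b => a ∈ M.Sh ∧ b ∈ M.Sh ∧ Ad M o a ∧ Ad M x a ∧
      Ad M o b ∧ Ad M x b ∧ Ad M a b) w w' := by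
  have hon := M.lam_norm o E.mem
  have hxn := M.lam_norm x hx
  have hwn := M.lam_norm w hw
  have hwn' := M.lam_norm w' hw'
  have hneg : ∀ {a b : P}, Ad M a b → dot (M.lam a) (-M.lam b) = 16 ∨ dot (M.lam a) (-M.lam b) = -16 := by
    intro a b hab
    rw [dot_neg_right]
    rcases hab with h | h <;> rw [h]
    · exact Or.inr rfl
    · exact Or.inl rfl
  rcases dot_cases E.mem hx with e | e | e | e
  · exact absurd e hox
  · -- `x = z o`
    refine lift_conn (A := LeechL2.N9 (M.lam o)) (fun h => h.2.1.1) ?_ hw hw'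
      (LeechL2.conn_nine _ _ _ hon hwn h1 hwn' h1')
      (LeechL2.conn_nine _ _ _ hon hwn h1 (by rw [nrm_neg, hwn]) (hneg h1))
    intro a ha b hb v v' hvv hv hv'
    have h3 := IIa_of_N9 hvv hv hv'
    refine ⟨ha, hb, h3.xy, ?_, h3.xw, ?_, h3.yw⟩
    · rw [e, ad_z_left]; exact h3.xy
    · rw [e, ad_z_left]; exact h3.xw
  · exact absurd e h
  · refine lift_conn (A := LeechL3.MuAdj (M.lam o) (M.lam x)) (fun h => h.2.1.1.1) ?_ hw hw'
      (LeechL3.mu_conn _ _ hon hxn e ⟨hwn, h1⟩ ⟨hwn, h2⟩ ⟨hwn', h1'⟩ ⟨hwn', h2'⟩)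
      (LeechL3.mu_conn _ _ hon hxn e ⟨hwn, h1⟩ ⟨hwn, h2⟩ ⟨by rw [nrm_neg, hwn], hneg h1⟩
        ⟨by rw [nrm_neg, hwn], hneg h2⟩)
    intro a ha b hb v v' hvv hv hv'
    obtain ⟨⟨a1, a2⟩, ⟨a3, a4⟩, a5⟩ := hvv
    have ho : M.lam o = M.lam o ∨ M.lam o = -M.lam o := Or.inl rfl
    have hx' : M.lam x = M.lam x ∨ M.lam x = -M.lam x := Or.inl rfl
    exact ⟨ha, hb, ad_of_signs ho hv a1.2, ad_of_signs hx' hv a2.2, ad_of_signs ho hv' a3.2,
      ad_of_signs hx' hv' a4.2, ad_of_signs hv hv' a5.2⟩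

/-- The Morse hypotheses on `S`. -/
theorem morse (L : Lift M θ) (E : Edge M π n o o')
    (hc : ∀ x ∈ M.Sh, ∀ y ∈ M.Sh, ∀ w ∈ M.Sh, Ad M x y → Ad M x w → Ad M y w →
      D.Closed (M.a x) (M.a y) (M.a w)) :
    MorseHyp (Adj π n (M.a o)) D.Closed M.S (height D) where
  m1 := by
    rintro _ ⟨x, hx, rfl⟩ hpos
    have hox : x ≠ o := by
      rintro rfl
      rw [height_base] at hpos
      exact absurd hpos (lt_irrefl _)
    by_cases h : Ad M o x
    · refine ⟨M.a o, ⟨o, E.mem, rfl⟩, (adj_iff L E hx E.mem).2 (Ad.symm M h), ?_⟩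
      rw [height_base]
      exact hpos
    · obtain ⟨w, hw, h1, h2⟩ := exists_low E hx hox h
      refine ⟨M.a w, ⟨w, hw, rfl⟩, (adj_iff L E hx hw).2 h2, ?_⟩
      have h3 := (height_one D L E hw).2 h1
      have h4 := (height_one D L E hx).not.2 h
      omega
  m2 := by
    rintro _ ⟨x, hx, rfl⟩ hpos q ⟨⟨w, hw, rfl⟩, hq1, hq2⟩ q' ⟨⟨w', hw', rfl⟩, hq1', hq2'⟩
    have hox : x ≠ o := by
      rintro rfl
      rw [height_base] at hpos
      exact absurd hpos (lt_irrefl _)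
    rw [adj_iff L E hx hw] at hq1
    rw [adj_iff L E hx hw'] at hq1'
    by_cases h : Ad M o x
    · have h1 := (height_one D L E hx).2 h
      have h2 := height_zero D (v := M.a w) (by omega)
      have h3 := height_zero D (v := M.a w') (by omega)
      rw [h2, h3]
    · have h0 : height D (M.a x) = 2 := by
        have h3 := height_le D (M.a x)
        have h4 := (height_one D L E hx).not.2 h
        omega
      have hlow : ∀ {t : P}, t ∈ M.Sh → Ad M x t → height D (M.a t) < height D (M.a x) → Ad M o t := by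
        intro t ht hxt hlt
        apply (height_one D L E ht).1
        have h5 : height D (M.a t) ≠ 0 := by
          intro h5
          have h6 := M.a_inj _ _ ht E.mem (height_zero D h5)
          rw [h6] at hxt
          exact h (Ad.symm M hxt)
        omega
      have hlow' : ∀ {t : P}, t ∈ M.Sh → Ad M x t → Ad M o t →
          M.a t ∈ Low (Adj π n (M.a o)) M.S (height D) (M.a x) := by
        intro t ht hxt hot
        refine ⟨⟨t, ht, rfl⟩, (adj_iff L E hx ht).2 hxt, ?_⟩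
        rw [h0, (height_one D L E ht).2 hot]
        norm_num
      have h6 := conn_low E hx hox h hw hw' (hlow hw hq1 hq2) hq1 (hlow hw' hq1' hq2') hq1'
      have key : ∀ c, Relation.TransGen (fun a b => a ∈ M.Sh ∧ b ∈ M.Sh ∧ Ad M o a ∧ Ad M x a ∧
          Ad M o b ∧ Ad M x b ∧ Ad M a b) w c →
          Relation.ReflTransGen (Link (Adj π n (M.a o)) D.Closed M.S (height D) (M.a x))
            (M.a w) (M.a c) := by
        have hstep : ∀ {a b : P}, (a ∈ M.Sh ∧ b ∈ M.Sh ∧ Ad M o a ∧ Ad M x a ∧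
            Ad M o b ∧ Ad M x b ∧ Ad M a b) →
            Link (Adj π n (M.a o)) D.Closed M.S (height D) (M.a x) (M.a a) (M.a b) := by
          rintro a b ⟨ha, hb, h1, h2, h3, h4, h5⟩
          exact ⟨hlow' ha h2 h1, hlow' hb h4 h3, hc x hx a ha b hb h2 h4 h5⟩
        intro c h7
        induction h7 with
        | single h => exact Relation.ReflTransGen.single (hstep h)
        | tail _ h ih => exact ih.tail (hstep h)
      exact key _ h6
  m3 := by
    rintro _ ⟨x, hx, rfl⟩ _ ⟨y, hy, rfl⟩ hxy heq hpos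
    rw [adj_iff L E hx hy] at hxy
    have hox : x ≠ o := by
      rintro rfl
      rw [height_base] at hpos
      exact absurd hpos (lt_irrefl _)
    by_cases h : Ad M o x
    · have h1 := (height_one D L E hx).2 h
      have h2 := (height_one D L E hy).1 (by omega)
      refine ⟨M.a o, ⟨⟨o, E.mem, rfl⟩, (adj_iff L E hx E.mem).2 (Ad.symm M h), ?_⟩,
        hc x hx y hy o E.mem hxy (Ad.symm M h) (Ad.symm M h2)⟩
      rw [height_base]
      exact hpos
    · have h2 : ¬ Ad M o y := by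
        intro h2
        apply h
        apply (height_one D L E hx).1
        rw [heq]
        exact (height_one D L E hy).2 h2
      have hoy : y ≠ o := by
        rintro rfl
        rw [heq, height_base] at hpos
        exact absurd hpos (lt_irrefl _)
      have hxd : dot (M.lam o) (M.lam x) = 0 ∨ dot (M.lam o) (M.lam x) = 8 ∨
          dot (M.lam o) (M.lam x) = -8 := by
        rcases dot_cases E.mem hx with e | e | e | e
        · exact absurd e hox
        · exfalso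
          rw [e, ad_z_left] at hxy
          exact h2 hxy
        · exact absurd e h
        · exact e
      have hyd : dot (M.lam o) (M.lam y) = 0 ∨ dot (M.lam o) (M.lam y) = 8 ∨
          dot (M.lam o) (M.lam y) = -8 := by
        rcases dot_cases E.mem hy with e | e | e | e
        · exact absurd e hoy
        · exfalso
          rw [e, ad_z_right] at hxy
          exact h (Ad.symm M hxy)
        · exact absurd e h2
        · exact e
      obtain ⟨v, hv, h3, h4, h5⟩ := LeechNbr.exists_common _ _ _ (M.lam_norm o E.mem)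
        (M.lam_norm x hx) (M.lam_norm y hy) hxy hxd hyd
      obtain ⟨w, hw, hwv⟩ := M.lam_surj v hv
      have a1 : Ad M o w := ad_of_signs (Or.inl rfl) hwv h3
      have a2 : Ad M x w := ad_of_signs (Or.inl rfl) hwv h4
      have a3 : Ad M y w := ad_of_signs (Or.inl rfl) hwv h5
      refine ⟨M.a w, ⟨⟨w, hw, rfl⟩, (adj_iff L E hx hw).2 a2, ?_⟩, hc x hx y hy w hw hxy a2 a3⟩
      have h6 := (height_one D L E hw).2 a1
      have h7 := (height_one D L E hx).not.2 h
      omega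

/-- **The sheet over `S`.** -/
theorem exists_sheet (L : Lift M θ) (E : Edge M π n o o')
    (hb : D.Closed (M.a o) (M.a o') (M.a (M.zc * (o * o'))))
    (ha : ∃ x ∈ M.Sh, ∃ y ∈ M.Sh, ∃ w ∈ M.Sh, IIa M x y w ∧ D.Closed (M.a x) (M.a y) (M.a w)) :
    ∃ s : V → Γ ⧸ H, Sheet (Adj π n (M.a o)) (Adj' H n) D.pr M.S s := by
  have hb' : ∀ x ∈ M.Sh, ∀ y ∈ M.Sh, Ad M x y → D.Closed (M.a x) (M.a y) (M.a (M.zc * (x * y))) :=
    fun x hx y hy h => closed_IIb D L E hb hx hy h
  have ha' : ∀ x ∈ M.Sh, ∀ y ∈ M.Sh, ∀ w ∈ M.Sh, IIa M x y w →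
      D.Closed (M.a x) (M.a y) (M.a w) := by
    obtain ⟨x₁, hx₁, y₁, hy₁, w₁, hw₁, h1, h2⟩ := ha
    exact fun x hx y hy w hw h => closed_IIa D L hx₁ hy₁ hw₁ h1 h2 hx hy hw h
  have hm := morse D L E (fun x hx y hy w hw h1 h2 h3 => closed_all D L E hb' ha' hx hy hw h1 h2 h3)
  refine Sheet.extend D.cover hm ⟨2, fun x _ => height_le D x⟩
    (s := fun _ => ((1 : Γ) : Γ ⧸ H)) ⟨?_, ?_⟩
  · rintro x ⟨-, hx⟩
    rw [height_zero D hx, D.pr_mk, map_one, one_smul]
  · rintro x ⟨-, hx⟩ y ⟨-, hy⟩ hxy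
    rw [height_zero D hx, height_zero D hy, adj_iff L E E.mem E.mem] at hxy
    exact absurd rfl (Ad.ne E.mem hxy)

/-- `S` is connected. -/
theorem connS (L : Lift M θ) (E : Edge M π n o o') : CovData.Conn π n (M.a o) M.S := by
  rintro _ ⟨x, hx, rfl⟩ _ ⟨y, hy, rfl⟩
  have h := lift_conn (M := M) (A := Cfsg.Agent.MonsterX.Lat.Adj) (R := fun a b => a ∈ M.Sh ∧ b ∈ M.Sh ∧ Ad M a b)
    (fun h => h.1) (fun a ha b hb v v' hvv hv hv' => ⟨ha, hb, ad_of_signs hv hv' hvv.2⟩) hx hy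
    (conn _ _ (M.lam_norm x hx) (M.lam_norm y hy))
    (conn _ _ (M.lam_norm x hx) (by rw [nrm_neg, M.lam_norm x hx]))
  have hstep : ∀ {a b : P}, (a ∈ M.Sh ∧ b ∈ M.Sh ∧ Ad M a b) →
      (M.a a ∈ M.S ∧ M.a b ∈ M.S ∧ Adj π n (M.a o) (M.a a) (M.a b)) := by
    rintro a b ⟨ha, hb, hab⟩
    exact ⟨⟨a, ha, rfl⟩, ⟨b, hb, rfl⟩, (adj_iff L E ha hb).2 hab⟩
  induction h with
  | single h => exact Relation.ReflTransGen.single (hstep h)
  | tail _ h ih => exact (ih h.1).tail (hstep h)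

/-- `K` preserves `S`. -/
theorem K_smul {k : G} (hk : k ∈ M.K) (v : V) : k • v ∈ M.S ↔ v ∈ M.S := by
  have key : ∀ {k : G} {v : V}, k ∈ M.K → v ∈ M.S → k • v ∈ M.S := by
    rintro k _ hk ⟨x, hx, rfl⟩
    obtain ⟨y, hy, e⟩ := M.K_smul_a k hk x hx
    exact ⟨y, hy, e.symm⟩
  refine ⟨fun h => ?_, key hk⟩
  have := key (M.K.inv_mem hk) h
  rwa [inv_smul_smul] at this

end

end Cfsg.Agent.MonsterP.SGraph
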