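import Cfsg.Agent.MonsterP.IIb
import Cfsg.Agent.MonsterP.SGraph
import Cfsg.Agent.MonsterX.KModel
import Cfsg.Agent.MonsterX.MainTrans

/-!
# The base triangle of type IIb in the model

In the model of the Monster (`Link`, `Lift`) an axis in `S` is determined by its involution: if
`g (ι x) g⁻¹ = ι y` then `g (a x) = a y`.  Hence for node involutions `π (t 10) = ι o`, `π (t 5) = ι o'`,
`π (t 0) = ι (z o o')` the reversal `n̂` maps `a o` to `a o'` and the triangle `a o`, `a o'`, `a (z o o')` is closed.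
-/

set_option autoImplicit false

namespace Cfsg.Agent.MonsterP.HB

open Cfsg Cfsg.Agent.LeechMat.Core Cfsg.Agent.MonsterX.KSide Cfsg.Agent.MonsterX.KLift
  Cfsg.Agent.MonsterX.KModel Cfsg.Agent.MonsterX.Model Cfsg.Agent.MonsterX.MainTrans
  Cfsg.Agent.MonsterX.MainBasic
  Cfsg.Agent.Bimonster Cfsg.Agent.Bimonster.Tits Cfsg.Agent.MonsterP.NhatData
  Cfsg.Agent.MonsterP.SChar Cfsg.Agent.MonsterP.W2

variable {V P W : Type} [AddCommGroup V] [Module ℚ V] [Group P] [AddCommGroup W] [Module ℚ W]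
variable {D : MData V} {M : KS ↥D.G V P W} {x₀ : P} {θ : leechLattice → P} {K₀ : Type} [Group K₀]

/-- `K` is transitive on the short elements, with the axis and the involution. -/
theorem exists_trans (H : Link D M x₀) (L : Lift M θ) {x : P} (hx : x ∈ M.Sh) :
    ∃ k : D.G, k • M.a x₀ = M.a x ∧ k * M.ι x₀ * k⁻¹ = M.ι x := by
  obtain ⟨k, hk, A, α, T, hA, e⟩ := trans_Sh L x₀ x H.x₀_mem hx
  refine ⟨k, ?_, ?_⟩
  · rw [Link.smul_a hA x₀ H.x₀_mem, e]
  · rw [mul_inv_eq_iff_eq_mul, conj_ι hA, e]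

/-- **An axis in `S` is determined by its involution.** -/
theorem smul_a_of_conj (H : Link D M x₀) (L : Lift M θ) (hG : MGroup D K₀) (hR : MRep D)
    (hL : MLat D) (hO : MOrbit D) (hT : MTrans D) {x y : P} (hx : x ∈ M.Sh) (hy : y ∈ M.Sh)
    {g : D.G} (h : g * M.ι x * g⁻¹ = M.ι y) : g • M.a x = M.a y := by
  obtain ⟨k, hk, hk'⟩ := exists_trans H L hx
  obtain ⟨l, hl, hl'⟩ := exists_trans H L hy
  have h1 : (g * k) * M.ι x₀ * (g * k)⁻¹ = l * M.ι x₀ * l⁻¹ := by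
    rw [hl', ← h, ← hk']
    group
  have h2 := congrArg (fun t : D.G => (t : V ≃ₗ[ℚ] V)) h1
  have h3 : ((g * k : D.G) : V ≃ₗ[ℚ] V) * D.t₀ * ((g * k : D.G) : V ≃ₗ[ℚ] V)⁻¹ =
      (l : V ≃ₗ[ℚ] V) * D.t₀ * (l : V ≃ₗ[ℚ] V)⁻¹ := by
    rw [H.t₀_eq]
    exact h2
  have h4 := conj_inj hG hR hL hO hT (g * k).2 l.2 h3
  rw [H.a₀_eq] at h4
  rw [← hk, ← hl, ← mul_smul]
  exact h4

section

variable {Γ : Type*} [Group Γ] {t : ℕ → Γ} {π : Γ →* D.G} {o o' : P}

/-- The reversal maps the base axis to the axis of node 5. -/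
theorem smul_nh (hP : PRel t) (H : Link D M x₀) (L : Lift M θ) (hG : MGroup D K₀) (hR : MRep D)
    (hL : MLat D) (hO : MOrbit D) (hT : MTrans D) (ho : o ∈ M.Sh) (ho' : o' ∈ M.Sh)
    (e10 : π (t 10) = M.ι o) (e5 : π (t 5) = M.ι o') : π (ev t nhW) • M.a o = M.a o' :=
  IIb.smul_nh hP (fun g hg => smul_a_of_conj H L hG hR hL hO hT ho ho' (by rw [← e10, ← e5]; exact hg))

/-- **The edge of the covering.** -/
theorem edge (hP : PRel t) (H : Link D M x₀) (L : Lift M θ) (hG : MGroup D K₀) (hR : MRep D)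
    (hL : MLat D) (hO : MOrbit D) (hT : MTrans D) (ho : o ∈ M.Sh) (ho' : o' ∈ M.Sh) (had : Ad M o o')
    (e10 : π (t 10) = M.ι o) (e5 : π (t 5) = M.ι o') : SGraph.Edge M π (ev t nhW) o o' :=
  ⟨ho, ho', had, smul_nh hP H L hG hR hL hO hT ho ho' e10 e5⟩

/-- **The base triangle of type IIb is closed.** -/
theorem closed (hP : PRel t) (H : Link D M x₀) (L : Lift M θ) (hG : MGroup D K₀) (hR : MRep D)
    (hL : MLat D) (hO : MOrbit D) (hT : MTrans D) (C : CovData π (HP t) (ev t nhW) (M.a o))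
    (ho : o ∈ M.Sh) (ho' : o' ∈ M.Sh) (had : Ad M o o')
    (e10 : π (t 10) = M.ι o) (e5 : π (t 5) = M.ι o') (e0 : π (t 0) = M.ι (M.zc * (o * o'))) :
    C.Closed (M.a o) (M.a o') (M.a (M.zc * (o * o'))) :=
  IIb.closed hP C
    (fun g hg => smul_a_of_conj H L hG hR hL hO hT ho ho' (by rw [← e10, ← e5]; exact hg))
    (fun g hg => smul_a_of_conj H L hG hR hL hO hT ho
      (M.Sh_z _ (mul_mem L ho ho' had)) (by rw [← e10, ← e0]; exact hg))

end

end Cfsg.Agent.MonsterP.HB
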