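import Cfsg.Agent.MonsterP.W2

/-!
# The base triangle of type IIb is closed

The points `H`, `n̂ H`, `h n̂ H` of `Γ ⧸ H` (duads `{11,12}`, `{1,2}`, `{6,7}` of the `S12`) lie above the axes of the
nodes 10, 5, 0 and form a closed triangle.
-/

set_option autoImplicit false

namespace Cfsg.Agent.MonsterP.IIb

open Cfsg.Agent.Bimonster Cfsg.Agent.Bimonster.Tits Cfsg.Agent.MonsterP.NhatData
open Cfsg.Agent.MonsterP.Nhat Cfsg.Agent.MonsterP.W2

variable {Γ G X : Type*} [Group Γ] [Group G] [MulAction G X]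

/-- The base triangle is closed (axes given as images of the base axis). -/
theorem closed_base {t : ℕ → Γ} (h : PRel t) {π : Γ →* G} {x₀ : X}
    (D : CovData π (HP t) (ev t nhW) x₀) :
    D.Closed x₀ (π (ev t nhW) • x₀) (π (ev t hW * ev t nhW) • x₀) := by
  have h1 := D.closed_of_lift (adj_base (t := t) (ev t nhW)) (adj_h h.f1a h.f2a)
    (adj_nh h.cox h.f1a h.f2a)
  rw [D.pr_mk, D.pr_mk, D.pr_mk, map_one, one_smul] at h1
  exact h1

/-- The conjugation facts. -/
theorem conj_nh {t : ℕ → Γ} (h : PRel t) (π : Γ →* G) :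
    π (ev t nhW) * π (t 10) * (π (ev t nhW))⁻¹ = π (t 5) := by
  rw [← map_inv, ← map_mul, ← map_mul, inv_eq_of_mul_eq_one_left (nh_sq h.cox),
    nh_conj h.cox h.f1a h.f2a (by norm_num)]
  rfl

theorem conj_hnh {t : ℕ → Γ} (h : PRel t) (π : Γ →* G) :
    π (ev t hW * ev t nhW) * π (t 10) * (π (ev t hW * ev t nhW))⁻¹ = π (t 0) := by
  rw [← map_inv, ← map_mul, ← map_mul, hn_conj h.cox h.f1a h.f2a]

/-- **The base triangle is closed.**  `x₀`, `x₁`, `x₂` are the axes of the involutions `π (t 10)`, `π (t 5)`, `π (t 0)`,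
where an axis in the orbit of `x₀` is determined by its involution. -/
theorem closed {t : ℕ → Γ} (h : PRel t) {π : Γ →* G} {x₀ x₁ x₂ : X}
    (D : CovData π (HP t) (ev t nhW) x₀)
    (h1 : ∀ g : G, g * π (t 10) * g⁻¹ = π (t 5) → g • x₀ = x₁)
    (h2 : ∀ g : G, g * π (t 10) * g⁻¹ = π (t 0) → g • x₀ = x₂) :
    D.Closed x₀ x₁ x₂ := by
  have e1 := h1 _ (conj_nh h π)
  have e2 := h2 _ (conj_hnh h π)
  have := closed_base h D
  rwa [e1, e2] at this

/-- the axis of node 5 is the image of the base axis under `n̂` -/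
theorem smul_nh {t : ℕ → Γ} (h : PRel t) {π : Γ →* G} {x₀ x₁ : X}
    (h1 : ∀ g : G, g * π (t 10) * g⁻¹ = π (t 5) → g • x₀ = x₁) :
    π (ev t nhW) • x₀ = x₁ := h1 _ (conj_nh h π)

end Cfsg.Agent.MonsterP.IIb
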