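import Cfsg.Agent.MonsterP.LeechPairs

/-!
Connectivity of the graphs of common neighbours on the minimal vectors of the Leech lattice
(adjacency: inner product `±16`): the neighbours of `o` (`9200` points, with the edges `u, u'`
such that `o, u, u'` is a triple with product `16 ^ 3` of the inner products), and the common
neighbours of `o` and `x` for `x = -o`, `(o, x) = 0` and `(o, x) = ±8`.
-/

set_option autoImplicit false

namespace Cfsg.Agent.MonsterP.LeechMu

open Cfsg Cfsg.Agent.MonsterX.KSide Cfsg.Agent.MonsterX.Lat Cfsg.Agent.Leech.Min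
  Cfsg.Agent.Leech.Trans Cfsg.Agent.Leech.TransPair Cfsg.Agent.Leech.Code
  Cfsg.Agent.Leech.Co0Elts Cfsg.Agent.MonsterP.LeechTriple Cfsg.Agent.MonsterP.LeechNbr
  Cfsg.Agent.Leech.Basic Cfsg.Agent.MonsterP.LeechPairs

/-! ### Reflexive transitive closures -/

theorem rt_symm {r : leechLattice → leechLattice → Prop} (hr : ∀ a b, r a b → r b a)
    {a b : leechLattice} (h : Relation.ReflTransGen r a b) : Relation.ReflTransGen r b a := by
  induction h with
  | refl => exact Relation.ReflTransGen.refl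
  | tail _ h2 ih => exact (Relation.ReflTransGen.single (hr _ _ h2)).trans ih

theorem rt_lift {r s : leechLattice → leechLattice → Prop} (f : leechLattice → leechLattice)
    (hr : ∀ a b, r a b → s (f a) (f b)) {a b : leechLattice} (h : Relation.ReflTransGen r a b) :
    Relation.ReflTransGen s (f a) (f b) := by
  induction h with
  | refl => exact Relation.ReflTransGen.refl
  | tail _ h2 ih => exact ih.tail (hr _ _ h2)

theorem rt_mono {r s : leechLattice → leechLattice → Prop} (hr : ∀ a b, r a b → s a b)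
    {a b : leechLattice} (h : Relation.ReflTransGen r a b) : Relation.ReflTransGen s a b := by
  induction h with
  | refl => exact Relation.ReflTransGen.refl
  | tail _ h2 ih => exact ih.tail (hr _ _ h2)

/-! ### The neighbours of a vector -/

/-- Neighbours `u`, `u'` of `o` such that `o, u, u'` have, up to signs, inner products `16`. -/
def NbrAdj (o u u' : leechLattice) : Prop :=
  nrm u = 32 ∧ nrm u' = 32 ∧ (dot o u = 16 ∨ dot o u = -16) ∧ (dot o u' = 16 ∨ dot o u' = -16) ∧
    dot o u * dot o u' * dot u u' = 4096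

theorem NbrAdj.symm {o u u' : leechLattice} (h : NbrAdj o u u') : NbrAdj o u' u := by
  obtain ⟨h1, h2, h3, h4, h5⟩ := h
  refine ⟨h2, h1, h4, h3, ?_⟩
  rw [dot_comm u' u, mul_comm (dot o u')]
  exact h5

theorem NbrAdj.dot_eq {o u u' : leechLattice} (h : NbrAdj o u u') :
    dot u u' = 16 ∨ dot u u' = -16 := by
  obtain ⟨h1, h2, h3, h4, h5⟩ := h
  rcases h3 with h3 | h3 <;> rcases h4 with h4 | h4 <;> rw [h3, h4] at h5 <;> omega

theorem NbrAdj.smul (g : ↥Co0) {o u u' : leechLattice} (h : NbrAdj o u u') :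
    NbrAdj (g • o) (g • u) (g • u') := by
  unfold NbrAdj at *
  simp only [dot_smul, nrm_smul]
  exact h

section

variable {p q : GolayPt} (hpq : p ≠ q)

include hpq

theorem nbrAdj_same {k l : GolayPt} (hpk : p ≠ k) (hqk : q ≠ k) (hpl : p ≠ l) (hql : q ≠ l)
    (hkl : k ≠ l) {a b c d : ℤ} (ha : a = 4 ∨ a = -4) (hb : b = 4 ∨ b = -4) (hc : c = 4 ∨ c = -4)
    (hd : d = 4 ∨ d = -4) :
    NbrAdj (lv p q 4 4 hpq four_or four_or) (lv p k a b hpk ha hb) (lv p l c d hpl hc hd) := by
  have e1 : dot (lv p q 4 4 hpq four_or four_or) (lv p k a b hpk ha hb) = 4 * a := by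
    rw [dot_lv, lv_coe, two_left, two_other hpq.symm hqk]; ring
  have e2 : dot (lv p q 4 4 hpq four_or four_or) (lv p l c d hpl hc hd) = 4 * c := by
    rw [dot_lv, lv_coe, two_left, two_other hpq.symm hql]; ring
  have e3 : dot (lv p k a b hpk ha hb) (lv p l c d hpl hc hd) = a * c := by
    rw [dot_lv, lv_coe, two_left, two_other hpk.symm hkl]; ring
  refine ⟨nrm_lv _ _ _ _ _ _ _, nrm_lv _ _ _ _ _ _ _, by omega, by omega, ?_⟩
  rw [e1, e2, e3]
  rcases ha with rfl | rfl <;> rcases hc with rfl | rfl <;> norm_num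

theorem nbr_same {k l : GolayPt} (hpk : p ≠ k) (hqk : q ≠ k) (hpl : p ≠ l) (hql : q ≠ l)
    {a b c d : ℤ} (ha : a = 4 ∨ a = -4) (hb : b = 4 ∨ b = -4) (hc : c = 4 ∨ c = -4)
    (hd : d = 4 ∨ d = -4) :
    Relation.ReflTransGen (NbrAdj (lv p q 4 4 hpq four_or four_or)) (lv p k a b hpk ha hb)
      (lv p l c d hpl hc hd) := by
  obtain ⟨m, hm⟩ := exists_notMem {p, q, k, l} (lt_of_le_of_lt Finset.card_le_four (by decide))
  simp only [Finset.mem_insert, Finset.mem_singleton, not_or] at hm
  exact (Relation.ReflTransGen.single (nbrAdj_same hpq hpk hqk (Ne.symm hm.1) (Ne.symm hm.2.1)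
    (Ne.symm hm.2.2.1) ha hb four_or four_or)).tail
    (nbrAdj_same hpq (Ne.symm hm.1) (Ne.symm hm.2.1) hpl hql hm.2.2.2 four_or four_or hc hd)

theorem nbrAdj_swap {k : GolayPt} (hpk : p ≠ k) (hqk : q ≠ k) :
    NbrAdj (lv p q 4 4 hpq four_or four_or) (lv p k 4 4 hpk four_or four_or)
      (lv q k 4 4 hqk four_or four_or) := by
  have e1 : dot (lv p q 4 4 hpq four_or four_or) (lv p k 4 4 hpk four_or four_or) = 16 := by
    rw [dot_lv, lv_coe, two_left, two_other hpq.symm hqk]; rfl
  have e2 : dot (lv p q 4 4 hpq four_or four_or) (lv q k 4 4 hqk four_or four_or) = 16 := by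
    rw [dot_lv, lv_coe, two_left, two_other hpq hpk]; rfl
  have e3 : dot (lv p k 4 4 hpk four_or four_or) (lv q k 4 4 hqk four_or four_or) = 16 := by
    rw [dot_lv, lv_coe, two_right hqk, two_other hpq hpk]; rfl
  refine ⟨nrm_lv _ _ _ _ _ _ _, nrm_lv _ _ _ _ _ _ _, by omega, by omega, ?_⟩
  rw [e1, e2, e3]; rfl

/-- The two vectors swapped. -/
theorem lv_base_swap : lv p q 4 4 hpq four_or four_or = lv q p 4 4 hpq.symm four_or four_or :=
  lv_swap _ _ _

theorem nbr_diff {k l : GolayPt} (hpk : p ≠ k) (hqk : q ≠ k) (hpl : p ≠ l) (hql : q ≠ l)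
    {a b c d : ℤ} (ha : a = 4 ∨ a = -4) (hb : b = 4 ∨ b = -4) (hc : c = 4 ∨ c = -4)
    (hd : d = 4 ∨ d = -4) :
    Relation.ReflTransGen (NbrAdj (lv p q 4 4 hpq four_or four_or)) (lv p k a b hpk ha hb)
      (lv q l c d hql hc hd) := by
  refine ((nbr_same hpq hpk hqk hpk hqk ha hb four_or four_or).tail
    (nbrAdj_swap hpq hpk hqk)).trans ?_
  rw [lv_base_swap hpq]
  exact nbr_same hpq.symm hqk hpk hql hpl _ _ _ _

/-- Every neighbour of the base vector is connected to a standard one. -/
theorem exists_std (u : leechLattice) (hu : nrm u = 32)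
    (h : (u : GolayPt → ℤ) p + (u : GolayPt → ℤ) q = 4 ∨
      (u : GolayPt → ℤ) p + (u : GolayPt → ℤ) q = -4) :
    (∃ k, ∃ (hpk : p ≠ k) (_ : q ≠ k), ∃ a b, ∃ (ha : a = 4 ∨ a = -4) (hb : b = 4 ∨ b = -4),
      u = lv p k a b hpk ha hb ∨
        NbrAdj (lv p q 4 4 hpq four_or four_or) u (lv p k a b hpk ha hb)) ∨
    (∃ k, ∃ (_ : p ≠ k) (hqk : q ≠ k), ∃ a b, ∃ (ha : a = 4 ∨ a = -4) (hb : b = 4 ∨ b = -4),
      u = lv q k a b hqk ha hb ∨
        NbrAdj (lv p q 4 4 hpq four_or four_or) u (lv q k a b hqk ha hb)) := by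
  rcases (min_iff _).1 ⟨u.2, hu⟩ with h4 | h2 | h3
  · obtain ⟨k, l, hkl, a, b, ha, hb, e⟩ := eq_two_of_type4 h4
    have hue : u = lv k l a b hkl ha hb := Subtype.ext e
    rw [e] at h
    by_cases hpk : p = k
    · subst hpk
      by_cases hql : q = l
      · subst hql
        rw [two_left, two_right hkl] at h
        omega
      · left
        exact ⟨l, hkl, hql, a, b, ha, hb, Or.inl hue⟩
    · by_cases hqk : q = k
      · subst hqk
        by_cases hpl : p = l
        · subst hpl
          rw [two_left, two_right hkl] at h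
          omega
        · right
          exact ⟨l, hpl, hkl, a, b, ha, hb, Or.inl hue⟩
      · rw [lv_swap] at hue
        by_cases hpl : p = l
        · subst hpl
          left
          exact ⟨k, hkl.symm, hqk, b, a, hb, ha, Or.inl hue⟩
        · by_cases hql : q = l
          · subst hql
            right
            exact ⟨k, hpk, hkl.symm, b, a, hb, ha, Or.inl hue⟩
          · rw [two_other hpk hpl, two_other hqk hql] at h
            omega
  · obtain ⟨A, hA, hA2, hA0, -⟩ := h2
    have h8 : A.card = 8 := hA.2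
    have hval : ∀ i, (u : GolayPt → ℤ) i = 0 ∨ (u : GolayPt → ℤ) i = 2 ∨
        (u : GolayPt → ℤ) i = -2 := by
      intro i
      by_cases hi : i ∈ A
      · exact Or.inr (hA2 i hi)
      · exact Or.inl (hA0 i hi)
    have hvp := hval p
    have hvq := hval q
    obtain ⟨k, hkA, hk⟩ := Finset.exists_mem_notMem_of_card_lt_card
      (show ({p, q} : Finset GolayPt).card < A.card from
        lt_of_le_of_lt Finset.card_le_two (by omega))
    simp only [Finset.mem_insert, Finset.mem_singleton, not_or] at hk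
    have hk2 := hA2 k hkA
    have hpk := Ne.symm hk.1
    have hqk := Ne.symm hk.2
    left
    refine ⟨k, hpk, hqk, 2 * (u : GolayPt → ℤ) p, 2 * (u : GolayPt → ℤ) k, by omega, by omega,
      Or.inr ?_⟩
    have e1 : dot (lv p q 4 4 hpq four_or four_or) u =
        4 * ((u : GolayPt → ℤ) p + (u : GolayPt → ℤ) q) := by
      rw [dot_lv]; ring
    have e2 : dot (lv p q 4 4 hpq four_or four_or) (lv p k (2 * (u : GolayPt → ℤ) p)
        (2 * (u : GolayPt → ℤ) k) hpk (by omega) (by omega)) = 8 * (u : GolayPt → ℤ) p := by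
      rw [dot_lv, lv_coe, two_left, two_other hpq.symm hqk]; ring
    have e3 : dot u (lv p k (2 * (u : GolayPt → ℤ) p)
        (2 * (u : GolayPt → ℤ) k) hpk (by omega) (by omega)) = 16 := by
      rw [dot_lv']
      rcases hk2 with e | e <;> rcases (show (u : GolayPt → ℤ) p = 2 ∨
        (u : GolayPt → ℤ) p = -2 by omega) with e' | e' <;> rw [e, e'] <;> norm_num
    have e4 : (u : GolayPt → ℤ) q = (u : GolayPt → ℤ) p := by omega
    refine ⟨hu, nrm_lv _ _ _ _ _ _ _, by omega, by omega, ?_⟩
    rw [e1, e2, e3, e4]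
    rcases (show (u : GolayPt → ℤ) p = 2 ∨
        (u : GolayPt → ℤ) p = -2 by omega) with e' | e' <;> rw [e'] <;> norm_num
  · obtain ⟨m, hm, hm1, -⟩ := h3
    obtain ⟨k, hk⟩ := exists_notMem {p, q} (lt_of_le_of_lt Finset.card_le_two (by decide))
    simp only [Finset.mem_insert, Finset.mem_singleton, not_or] at hk
    have hpk := Ne.symm hk.1
    have hqk := Ne.symm hk.2
    have hmpq : m = p ∨ m = q := by
      by_contra hcon
      push Not at hcon
      have h1 := hm1 p (Ne.symm hcon.1)
      have h2 := hm1 q (Ne.symm hcon.2)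
      omega
    have e1 : dot (lv p q 4 4 hpq four_or four_or) u =
        4 * ((u : GolayPt → ℤ) p + (u : GolayPt → ℤ) q) := by
      rw [dot_lv]; ring
    rcases hmpq with rfl | rfl
    · left
      have hq1 := hm1 q hpq.symm
      have hk1 := hm1 k hk.1
      refine ⟨k, hpk, hqk, 4 * (u : GolayPt → ℤ) q, 4 * (u : GolayPt → ℤ) k, by omega, by omega,
        Or.inr ?_⟩
      have e2 : dot (lv m q 4 4 hpq four_or four_or) (lv m k (4 * (u : GolayPt → ℤ) q)
          (4 * (u : GolayPt → ℤ) k) hpk (by omega) (by omega)) = 16 * (u : GolayPt → ℤ) q := by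
        rw [dot_lv, lv_coe, two_left, two_other hpq.symm hqk]; ring
      have e5 : (u : GolayPt → ℤ) m = 3 * (u : GolayPt → ℤ) q := by omega
      have e3 : dot u (lv m k (4 * (u : GolayPt → ℤ) q)
          (4 * (u : GolayPt → ℤ) k) hpk (by omega) (by omega)) = 16 := by
        rw [dot_lv', e5]
        rcases hk1 with e | e <;> rcases hq1 with e' | e' <;> rw [e, e'] <;> norm_num
      refine ⟨hu, nrm_lv _ _ _ _ _ _ _, by omega, by omega, ?_⟩
      rw [e1, e2, e3, e5]
      rcases hq1 with e' | e' <;> rw [e'] <;> norm_num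
    · right
      have hp1 := hm1 p hpq
      have hk1 := hm1 k hk.2
      refine ⟨k, hpk, hqk, 4 * (u : GolayPt → ℤ) p, 4 * (u : GolayPt → ℤ) k, by omega, by omega,
        Or.inr ?_⟩
      have e2 : dot (lv p m 4 4 hpq four_or four_or) (lv m k (4 * (u : GolayPt → ℤ) p)
          (4 * (u : GolayPt → ℤ) k) hqk (by omega) (by omega)) = 16 * (u : GolayPt → ℤ) p := by
        rw [dot_lv, lv_coe, two_left, two_other hpq hpk]; ring
      have e5 : (u : GolayPt → ℤ) m = 3 * (u : GolayPt → ℤ) p := by omega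
      have e3 : dot u (lv m k (4 * (u : GolayPt → ℤ) p)
          (4 * (u : GolayPt → ℤ) k) hqk (by omega) (by omega)) = 16 := by
        rw [dot_lv', e5]
        rcases hk1 with e | e <;> rcases hp1 with e' | e' <;> rw [e, e'] <;> norm_num
      refine ⟨hu, nrm_lv _ _ _ _ _ _ _, by omega, by omega, ?_⟩
      rw [e1, e2, e3, e5]
      rcases hp1 with e' | e' <;> rw [e'] <;> norm_num

theorem nbr_base_conn (u u' : leechLattice) (hu : nrm u = 32) (hu' : nrm u' = 32)
    (h : (u : GolayPt → ℤ) p + (u : GolayPt → ℤ) q = 4 ∨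
      (u : GolayPt → ℤ) p + (u : GolayPt → ℤ) q = -4)
    (h' : (u' : GolayPt → ℤ) p + (u' : GolayPt → ℤ) q = 4 ∨
      (u' : GolayPt → ℤ) p + (u' : GolayPt → ℤ) q = -4) :
    Relation.ReflTransGen (NbrAdj (lv p q 4 4 hpq four_or four_or)) u u' := by
  obtain ⟨n, hn⟩ := exists_notMem {p, q} (lt_of_le_of_lt Finset.card_le_two (by decide))
  simp only [Finset.mem_insert, Finset.mem_singleton, not_or] at hn
  have hpn := Ne.symm hn.1
  have hqn := Ne.symm hn.2
  have hsymm : ∀ a b, NbrAdj (lv p q 4 4 hpq four_or four_or) a b →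
      NbrAdj (lv p q 4 4 hpq four_or four_or) b a := fun _ _ h => h.symm
  have key : ∀ u : leechLattice, nrm u = 32 → ((u : GolayPt → ℤ) p + (u : GolayPt → ℤ) q = 4 ∨
      (u : GolayPt → ℤ) p + (u : GolayPt → ℤ) q = -4) →
      Relation.ReflTransGen (NbrAdj (lv p q 4 4 hpq four_or four_or)) u
        (lv p n 4 4 hpn four_or four_or) := by
    intro u hu h
    rcases exists_std hpq u hu h with ⟨k, hpk, hqk, a, b, ha, hb, e⟩ | ⟨k, hpk, hqk, a, b, ha, hb, e⟩
    · have h1 := nbr_same hpq hpk hqk hpn hqn ha hb four_or four_or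
      rcases e with rfl | e
      · exact h1
      · exact (Relation.ReflTransGen.single e).trans h1
    · have h1 := nbr_diff hpq hpn hqn hpk hqk four_or four_or ha hb
      have h2 := rt_symm hsymm h1
      rcases e with rfl | e
      · exact h2
      · exact (Relation.ReflTransGen.single e).trans h2
  exact (key u hu h).trans (rt_symm hsymm (key u' hu' h'))

end

/-- The graph on the `9200` neighbours of `o` whose edges are the pairs `u, u'` with
`(o, u) (o, u') (u, u') = 16 ^ 3` is connected. -/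
theorem conn_nbr (o u u' : leechLattice) (ho : nrm o = 32) (hu : nrm u = 32) (hu' : nrm u' = 32)
    (h : dot o u = 16 ∨ dot o u = -16) (h' : dot o u' = 16 ∨ dot o u' = -16) :
    Relation.ReflTransGen (NbrAdj o) u u' := by
  obtain ⟨p, hp⟩ := exists_notMem ∅ (by simp)
  obtain ⟨q, hq⟩ := exists_notMem {p} (by simp)
  simp only [Finset.mem_singleton] at hq
  have hpq : p ≠ q := Ne.symm hq
  obtain ⟨g, hg⟩ := co0_transitive_min o (lv p q 4 4 hpq four_or four_or) ho
    (nrm_lv _ _ _ _ _ _ _)
  have hd : ∀ u : leechLattice, 4 * (((g • u : leechLattice) : GolayPt → ℤ) p +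
      ((g • u : leechLattice) : GolayPt → ℤ) q) = dot o u := by
    intro u
    rw [← dot_smul g o u, hg, dot_lv]; ring
  have h1 := hd u
  have h2 := hd u'
  have key := nbr_base_conn hpq (g • u) (g • u') (by rw [nrm_smul, hu]) (by rw [nrm_smul, hu'])
    (by omega) (by omega)
  have := rt_lift (r := NbrAdj (lv p q 4 4 hpq four_or four_or))
    (s := NbrAdj o) (fun x => g⁻¹ • x) (fun a b hab => by
      have := hab.smul g⁻¹
      rwa [← hg, inv_smul_smul] at this) key
  simpa only [inv_smul_smul] using this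

/-! ### Common neighbours -/

/-- Common neighbours of `o` and `x`. -/
def Mu (o x u : leechLattice) : Prop :=
  nrm u = 32 ∧ (dot o u = 16 ∨ dot o u = -16) ∧ (dot x u = 16 ∨ dot x u = -16)

/-- Adjacency among the common neighbours. -/
def MuAdj (o x u u' : leechLattice) : Prop :=
  Mu o x u ∧ Mu o x u' ∧ (dot u u' = 16 ∨ dot u u' = -16)

theorem MuAdj.symm {o x u u' : leechLattice} (h : MuAdj o x u u') : MuAdj o x u' u :=
  ⟨h.2.1, h.1, by rw [dot_comm]; exact h.2.2⟩

theorem Mu.neg {o x u : leechLattice} (h : Mu o x u) : Mu o x (-u) := by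
  obtain ⟨h1, h2, h3⟩ := h
  refine ⟨by rw [nrm_neg, h1], ?_, ?_⟩ <;> rw [dot_neg_right] <;> omega

theorem MuAdj.neg {o x u u' : leechLattice} (h : MuAdj o x u u') : MuAdj o x (-u) u' := by
  obtain ⟨h1, h2, h3⟩ := h
  refine ⟨h1.neg, h2, ?_⟩
  rw [dot_neg_left]
  omega

theorem MuAdj.smul (g : ↥Co0) {o x u u' : leechLattice} (h : MuAdj o x u u') :
    MuAdj (g • o) (g • x) (g • u) (g • u') := by
  unfold MuAdj Mu at *
  simp only [dot_smul, nrm_smul]
  exact h

/-- Transport of the connectivity. -/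
theorem mu_transport (g : ↥Co0) {o x : leechLattice}
    (h : ∀ u u', Mu (g • o) (g • x) u → Mu (g • o) (g • x) u' →
      Relation.ReflTransGen (MuAdj (g • o) (g • x)) u u') (u u' : leechLattice)
    (hu : Mu o x u) (hu' : Mu o x u') : Relation.ReflTransGen (MuAdj o x) u u' := by
  have hsm : ∀ u : leechLattice, Mu o x u → Mu (g • o) (g • x) (g • u) := by
    intro u hu
    unfold Mu at *
    simp only [dot_smul, nrm_smul]
    exact hu
  have := rt_lift (r := MuAdj (g • o) (g • x))
    (s := MuAdj o x) (fun x => g⁻¹ • x) (fun a b hab => by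
      have := hab.smul g⁻¹
      simpa only [inv_smul_smul] using this) (h _ _ (hsm u hu) (hsm u' hu'))
  simpa only [inv_smul_smul] using this

/-- The common neighbours of `o` and `-o` form a connected graph. -/
theorem conn_opp (o u u' : leechLattice) (ho : nrm o = 32) (hu : Mu o (-o) u)
    (hu' : Mu o (-o) u') : Relation.ReflTransGen (MuAdj o (-o)) u u' := by
  refine rt_mono (fun a b hab => ?_)
    (conn_nbr o u u' ho hu.1 hu'.1 hu.2.1 hu'.2.1)
  have h3 := hab.dot_eq
  obtain ⟨h1, h2, h4, h5, -⟩ := hab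
  refine ⟨⟨h1, h4, ?_⟩, ⟨h2, h5, ?_⟩, h3⟩ <;> rw [dot_neg_left] <;> omega

/-! ### Inner product `0` -/

section

variable {p q : GolayPt} (hpq : p ≠ q)

include hpq

theorem mu_zero_lv {k : GolayPt} (hpk : p ≠ k) (hqk : q ≠ k) {a b : ℤ} (ha : a = 4 ∨ a = -4)
    (hb : b = 4 ∨ b = -4) :
    Mu (v0 p q hpq) (lv p q (-4) (-4) hpq neg_four_or neg_four_or) (lv p k a b hpk ha hb) := by
  refine ⟨nrm_lv _ _ _ _ _ _ _, ?_, ?_⟩
  · rw [dot_v0', lv_coe, two_left, two_other hpq.symm hqk]
    omega
  · rw [dot_lv, lv_coe, two_left, two_other hpq.symm hqk]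
    omega

theorem mu_zero_lv' {k : GolayPt} (hpk : p ≠ k) (hqk : q ≠ k) {a b : ℤ} (ha : a = 4 ∨ a = -4)
    (hb : b = 4 ∨ b = -4) :
    Mu (v0 p q hpq) (lv p q (-4) (-4) hpq neg_four_or neg_four_or) (lv q k a b hqk ha hb) := by
  refine ⟨nrm_lv _ _ _ _ _ _ _, ?_, ?_⟩
  · rw [dot_v0', lv_coe, two_left, two_other hpq hpk]
    omega
  · rw [dot_lv, lv_coe, two_left, two_other hpq hpk]
    omega

/-- Every common neighbour is one of the obvious ones. -/
theorem mu_zero_cases {u : leechLattice}
    (hu : Mu (v0 p q hpq) (lv p q (-4) (-4) hpq neg_four_or neg_four_or) u) :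
    (∃ k, ∃ (hpk : p ≠ k) (_ : q ≠ k), ∃ a b, ∃ (ha : a = 4 ∨ a = -4) (hb : b = 4 ∨ b = -4),
      u = lv p k a b hpk ha hb) ∨
    (∃ k, ∃ (_ : p ≠ k) (hqk : q ≠ k), ∃ a b, ∃ (ha : a = 4 ∨ a = -4) (hb : b = 4 ∨ b = -4),
      u = lv q k a b hqk ha hb) := by
  obtain ⟨hn, h1, h2⟩ := hu
  rw [dot_v0'] at h1
  rw [dot_lv] at h2
  have h4 : Type4 (u : GolayPt → ℤ) := by
    rcases (show ((u : GolayPt → ℤ) p = 4 ∨ (u : GolayPt → ℤ) p = -4) ∨
        ((u : GolayPt → ℤ) q = 4 ∨ (u : GolayPt → ℤ) q = -4) by omega) with h | h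
    · exact type4_of_coord u.2 hn h
    · exact type4_of_coord u.2 hn h
  obtain ⟨k, l, hkl, a, b, ha, hb, e⟩ := eq_two_of_type4 h4
  have hue : u = lv k l a b hkl ha hb := Subtype.ext e
  rw [e] at h1 h2
  by_cases hpk : p = k
  · subst hpk
    by_cases hql : q = l
    · subst hql
      rw [two_left, two_right hkl] at h1 h2
      omega
    · left
      exact ⟨l, hkl, hql, a, b, ha, hb, hue⟩
  · by_cases hqk : q = k
    · subst hqk
      by_cases hpl : p = l
      · subst hpl
        rw [two_left, two_right hkl] at h1 h2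
        omega
      · right
        exact ⟨l, hpl, hkl, a, b, ha, hb, hue⟩
    · rw [lv_swap] at hue
      by_cases hpl : p = l
      · subst hpl
        left
        exact ⟨k, hkl.symm, hqk, b, a, hb, ha, hue⟩
      · by_cases hql : q = l
        · subst hql
          right
          exact ⟨k, hpk, hkl.symm, b, a, hb, ha, hue⟩
        · rw [two_other hpk hpl, two_other hqk hql] at h1 h2
          omega

theorem mu_zero_same {k l : GolayPt} (hpk : p ≠ k) (hqk : q ≠ k) (hpl : p ≠ l) (hql : q ≠ l)
    {a b c d : ℤ} (ha : a = 4 ∨ a = -4) (hb : b = 4 ∨ b = -4) (hc : c = 4 ∨ c = -4)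
    (hd : d = 4 ∨ d = -4) :
    Relation.ReflTransGen (MuAdj (v0 p q hpq) (lv p q (-4) (-4) hpq neg_four_or neg_four_or))
      (lv p k a b hpk ha hb) (lv p l c d hpl hc hd) := by
  obtain ⟨m, hm⟩ := exists_notMem {p, q, k, l} (lt_of_le_of_lt Finset.card_le_four (by decide))
  simp only [Finset.mem_insert, Finset.mem_singleton, not_or] at hm
  have hpm := Ne.symm hm.1
  have hqm := Ne.symm hm.2.1
  exact (Relation.ReflTransGen.single ⟨mu_zero_lv hpq hpk hqk ha hb,
    mu_zero_lv hpq hpm hqm four_or four_or,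
    (adj_lv hpk hpm (Ne.symm hm.2.2.1) ha hb four_or four_or).2⟩).tail
    ⟨mu_zero_lv hpq hpm hqm four_or four_or, mu_zero_lv hpq hpl hql hc hd,
    (adj_lv hpm hpl hm.2.2.2 four_or four_or hc hd).2⟩

theorem mu_zero_same' {k l : GolayPt} (hpk : p ≠ k) (hqk : q ≠ k) (hpl : p ≠ l) (hql : q ≠ l)
    {a b c d : ℤ} (ha : a = 4 ∨ a = -4) (hb : b = 4 ∨ b = -4) (hc : c = 4 ∨ c = -4)
    (hd : d = 4 ∨ d = -4) :
    Relation.ReflTransGen (MuAdj (v0 p q hpq) (lv p q (-4) (-4) hpq neg_four_or neg_four_or))
      (lv q k a b hqk ha hb) (lv q l c d hql hc hd) := by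
  obtain ⟨m, hm⟩ := exists_notMem {p, q, k, l} (lt_of_le_of_lt Finset.card_le_four (by decide))
  simp only [Finset.mem_insert, Finset.mem_singleton, not_or] at hm
  have hpm := Ne.symm hm.1
  have hqm := Ne.symm hm.2.1
  exact (Relation.ReflTransGen.single ⟨mu_zero_lv' hpq hpk hqk ha hb,
    mu_zero_lv' hpq hpm hqm four_or four_or,
    (adj_lv hqk hqm (Ne.symm hm.2.2.1) ha hb four_or four_or).2⟩).tail
    ⟨mu_zero_lv' hpq hpm hqm four_or four_or, mu_zero_lv' hpq hpl hql hc hd,
    (adj_lv hqm hql hm.2.2.2 four_or four_or hc hd).2⟩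

theorem mu_zero_base (u u' : leechLattice)
    (hu : Mu (v0 p q hpq) (lv p q (-4) (-4) hpq neg_four_or neg_four_or) u)
    (hu' : Mu (v0 p q hpq) (lv p q (-4) (-4) hpq neg_four_or neg_four_or) u') :
    Relation.ReflTransGen (MuAdj (v0 p q hpq)
      (lv p q (-4) (-4) hpq neg_four_or neg_four_or)) u u' := by
  obtain ⟨n, hn⟩ := exists_notMem {p, q} (lt_of_le_of_lt Finset.card_le_two (by decide))
  simp only [Finset.mem_insert, Finset.mem_singleton, not_or] at hn
  have hpn := Ne.symm hn.1
  have hqn := Ne.symm hn.2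
  have hsymm : ∀ a b, MuAdj (v0 p q hpq) (lv p q (-4) (-4) hpq neg_four_or neg_four_or) a b →
      MuAdj (v0 p q hpq) (lv p q (-4) (-4) hpq neg_four_or neg_four_or) b a :=
    fun _ _ h => h.symm
  have hswap : MuAdj (v0 p q hpq) (lv p q (-4) (-4) hpq neg_four_or neg_four_or)
      (lv q n 4 4 hqn four_or four_or) (lv p n 4 4 hpn four_or four_or) := by
    refine ⟨mu_zero_lv' hpq hpn hqn four_or four_or, mu_zero_lv hpq hpn hqn four_or four_or,
      Or.inl ?_⟩
    rw [dot_lv, lv_coe, two_right hpn, two_other hpq.symm hqn]; rfl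
  have key : ∀ u : leechLattice, Mu (v0 p q hpq) (lv p q (-4) (-4) hpq neg_four_or neg_four_or) u →
      Relation.ReflTransGen (MuAdj (v0 p q hpq) (lv p q (-4) (-4) hpq neg_four_or neg_four_or)) u
        (lv p n 4 4 hpn four_or four_or) := by
    intro u hu
    rcases mu_zero_cases hpq hu with ⟨k, hpk, hqk, a, b, ha, hb, rfl⟩ |
      ⟨k, hpk, hqk, a, b, ha, hb, rfl⟩
    · exact mu_zero_same hpq hpk hqk hpn hqn _ _ _ _
    · exact (mu_zero_same' hpq hpk hqk hpn hqn ha hb four_or four_or).tail hswap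
  exact (key u hu).trans (rt_symm hsymm (key u' hu'))

end

/-- The common neighbours of two orthogonal minimal vectors form a connected graph. -/
theorem conn_zero (o x u u' : leechLattice) (ho : nrm o = 32) (hx : nrm x = 32)
    (hox : dot o x = 0) (hu : Mu o x u) (hu' : Mu o x u') :
    Relation.ReflTransGen (MuAdj o x) u u' := by
  obtain ⟨p, hp⟩ := exists_notMem ∅ (by simp)
  obtain ⟨q, hq⟩ := exists_notMem {p} (by simp)
  simp only [Finset.mem_singleton] at hq
  have hpq : p ≠ q := Ne.symm hq
  obtain ⟨g, hg1, hg2⟩ := exists_pair_zero o x (v0 p q hpq)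
    (lv p q (-4) (-4) hpq neg_four_or neg_four_or) ho hx (nrm_v0 _) (nrm_lv _ _ _ _ _ _ _) hox (by
      rw [dot_v0', lv_coe, two_left, two_right hpq]; rfl)
  refine mu_transport g ?_ u u' hu hu'
  rw [hg1, hg2]
  exact mu_zero_base hpq

/-! ### Inner product `8` -/

/-- The vector with coordinate `3` at `p` and `-1` elsewhere. -/
def w3 (p : GolayPt) : leechLattice := ⟨fun i => if i = p then 3 else -1,
  ((min_iff _).2 (Or.inr (Or.inr ⟨p, Or.inl (if_pos rfl), fun i hi => Or.inr (if_neg hi), by
    have : cls (fun i => if i = p then (3 : ℤ) else -1) 1 = ∅ := by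
      ext i
      rw [mem_cls]
      unfold Int.ModEq
      simp only [Finset.notMem_empty, iff_false]
      split_ifs <;> decide
    rw [this]
    exact empty_mem⟩))).1⟩

theorem nrm_w3 (p : GolayPt) : nrm (w3 p) = 32 :=
  ((min_iff _).2 (Or.inr (Or.inr ⟨p, Or.inl (if_pos rfl), fun i hi => Or.inr (if_neg hi), by
    have : cls (fun i => if i = p then (3 : ℤ) else -1) 1 = ∅ := by
      ext i
      rw [mem_cls]
      unfold Int.ModEq
      simp only [Finset.notMem_empty, iff_false]
      split_ifs <;> decide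
    rw [this]
    exact empty_mem⟩))).2

theorem dot_w3 (p : GolayPt) (u : leechLattice) :
    dot (w3 p) u = 4 * (u : GolayPt → ℤ) p - ∑ i, (u : GolayPt → ℤ) i := by
  show dotInt _ _ = _
  unfold dotInt
  have : ∀ i, ((w3 p : leechLattice) : GolayPt → ℤ) i * (u : GolayPt → ℤ) i =
      (if i = p then 4 * (u : GolayPt → ℤ) p else 0) - (u : GolayPt → ℤ) i := by
    intro i
    show (if i = p then (3 : ℤ) else -1) * _ = _
    split_ifs with h
    · subst h; ring
    · ring
  rw [Finset.sum_congr rfl fun i _ => this i, Finset.sum_sub_distrib, Finset.sum_ite_eq' Finset.univ p]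
  simp

section

variable {p q : GolayPt} (hpq : p ≠ q)

include hpq

theorem sum_two {k l : GolayPt} (hkl : k ≠ l) (a b : ℤ) : ∑ i, two k l a b i = a + b := by
  rw [Finset.sum_eq_add k l hkl]
  · rw [two_left, two_right hkl]
  · intro i _ hi
    exact two_other hi.1 hi.2 _ _
  · intro h; exact absurd (Finset.mem_univ _) h
  · intro h; exact absurd (Finset.mem_univ _) h

theorem mu_eight_lv {k : GolayPt} (hpk : p ≠ k) (hqk : q ≠ k) :
    Mu (lv p q 4 4 hpq four_or four_or) (w3 p) (lv p k 4 (-4) hpk four_or neg_four_or) := by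
  refine ⟨nrm_lv _ _ _ _ _ _ _, Or.inl ?_, Or.inl ?_⟩
  · rw [dot_lv, lv_coe, two_left, two_other hpq.symm hqk]; rfl
  · rw [dot_w3, lv_coe, two_left, sum_two hpq hpk]; rfl

/-- Every common neighbour with positive inner product with the first vector is a standard one
or adjacent to a standard one. -/
theorem mu_eight_cases {u : leechLattice}
    (hu : Mu (lv p q 4 4 hpq four_or four_or) (w3 p) u)
    (hpos : (u : GolayPt → ℤ) p + (u : GolayPt → ℤ) q = 4) :
    ∃ k, ∃ (hpk : p ≠ k) (_ : q ≠ k), u = lv p k 4 (-4) hpk four_or neg_four_or ∨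
      MuAdj (lv p q 4 4 hpq four_or four_or) (w3 p) u
        (lv p k 4 (-4) hpk four_or neg_four_or) := by
  have hu' := hu
  obtain ⟨hn, -, h2⟩ := hu
  rw [dot_w3] at h2
  rcases (min_iff _).1 ⟨u.2, hn⟩ with h4 | h4 | h4
  · obtain ⟨k, l, hkl, a, b, ha, hb, e⟩ := eq_two_of_type4 h4
    have hue : u = lv k l a b hkl ha hb := Subtype.ext e
    rw [e, sum_two hpq hkl] at h2
    rw [e] at hpos
    by_cases hpk : p = k
    · subst hpk
      by_cases hql : q = l
      · subst hql
        rw [two_left, two_right hkl] at hpos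
        omega
      · rw [two_left, two_other hpq.symm hql] at hpos
        rw [two_left] at h2
        have ea : a = 4 := by omega
        have eb : b = -4 := by omega
        subst ea; subst eb
        exact ⟨l, hkl, hql, Or.inl hue⟩
    · by_cases hpl : p = l
      · subst hpl
        by_cases hqk : q = k
        · subst hqk
          rw [two_left, two_right hkl] at hpos
          omega
        · rw [two_right hkl, two_other hqk hpq.symm] at hpos
          rw [two_right hkl] at h2
          have eb : b = 4 := by omega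
          have ea : a = -4 := by omega
          subst ea; subst eb
          rw [lv_swap] at hue
          exact ⟨k, hkl.symm, hqk, Or.inl hue⟩
      · rw [two_other hpk hpl] at hpos h2
        exfalso
        by_cases hqk : q = k
        · subst hqk
          rw [two_left] at hpos
          omega
        · by_cases hql : q = l
          · subst hql
            rw [two_right hkl] at hpos
            omega
          · rw [two_other hqk hql] at hpos
            omega
  · obtain ⟨A, hA, hA2, hA0, -⟩ := h4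
    have h8 : A.card = 8 := hA.2
    have hval : ∀ i, (u : GolayPt → ℤ) i = 0 ∨ (u : GolayPt → ℤ) i = 2 ∨
        (u : GolayPt → ℤ) i = -2 := by
      intro i
      by_cases hi : i ∈ A
      · exact Or.inr (hA2 i hi)
      · exact Or.inl (hA0 i hi)
    have hvp := hval p
    have hvq := hval q
    have hex : ∃ k, (u : GolayPt → ℤ) k = -2 := by
      by_contra hcon
      push Not at hcon
      have : ∀ i, (u : GolayPt → ℤ) i = 2 * chi A i := by
        intro i
        by_cases hi : i ∈ A
        · rw [chi_mem hi]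
          have := hA2 i hi
          have := hcon i
          omega
        · rw [chi_not_mem hi, hA0 i hi]; rfl
      rw [Finset.sum_congr rfl fun i _ => this i, ← Finset.mul_sum, sum_chi, h8] at h2
      omega
    obtain ⟨k, hk⟩ := hex
    have hpk : p ≠ k := by rintro rfl; omega
    have hqk : q ≠ k := by rintro rfl; omega
    refine ⟨k, hpk, hqk, Or.inr ⟨hu', mu_eight_lv hpq hpk hqk, Or.inl ?_⟩⟩
    rw [dot_lv']
    omega
  · obtain ⟨m, hm, hm1, hW⟩ := h4
    have hmpq : m = p ∨ m = q := by
      by_contra hcon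
      push Not at hcon
      have h1 := hm1 p (Ne.symm hcon.1)
      have h2 := hm1 q (Ne.symm hcon.2)
      omega
    rcases hmpq with rfl | rfl
    · have hq1 := hm1 q hpq.symm
      have hex : ∃ k, k ≠ m ∧ k ≠ q ∧ (u : GolayPt → ℤ) k = -1 := by
        by_contra hcon
        push Not at hcon
        have : ∀ i, (u : GolayPt → ℤ) i = 1 + (if i = m then 2 else 0) := by
          intro i
          by_cases him : i = m
          · subst him
            rw [if_pos rfl]
            omega
          · rw [if_neg him]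
            by_cases hiq : i = q
            · subst hiq; omega
            · have := hcon i him hiq
              have := hm1 i him
              omega
        rw [Finset.sum_congr rfl fun i _ => this i, Finset.sum_add_distrib,
          Finset.sum_ite_eq' Finset.univ m] at h2
        simp only [Finset.sum_const, Finset.card_univ, card_golayPt, Finset.mem_univ, if_true,
          nsmul_eq_mul, mul_one] at h2
        push_cast at h2
        omega
      obtain ⟨k, hkm, hkq, hk⟩ := hex
      refine ⟨k, hkm.symm, hkq.symm, Or.inr ⟨hu', mu_eight_lv hpq hkm.symm hkq.symm,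
        Or.inl ?_⟩⟩
      rw [dot_lv']
      omega
    · exfalso
      have hp1 := hm1 p hpq
      have hm3 : (u : GolayPt → ℤ) m = 3 := by omega
      have : ∀ i, (u : GolayPt → ℤ) i = 2 * chi (cls (u : GolayPt → ℤ) 1) i - 1 +
          (if i = m then 4 else 0) := by
        intro i
        by_cases him : i = m
        · subst him
          rw [if_pos rfl, chi_not_mem, hm3]
          · rfl
          · rw [mem_cls]
            unfold Int.ModEq
            rw [hm3]
            decide
        · rw [if_neg him]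
          rcases hm1 i him with h | h
          · rw [chi_mem, h]
            · rfl
            · rw [mem_cls, h]
          · rw [chi_not_mem, h]
            · rfl
            · rw [mem_cls]
              unfold Int.ModEq
              rw [h]
              decide
      have hs : ∑ i, (u : GolayPt → ℤ) i =
          2 * ((cls (u : GolayPt → ℤ) 1).card : ℤ) - 24 + 4 := by
        rw [Finset.sum_congr rfl fun i _ => this i, Finset.sum_add_distrib,
          Finset.sum_sub_distrib, ← Finset.mul_sum, sum_chi, Finset.sum_ite_eq' Finset.univ m]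
        simp only [Finset.sum_const, Finset.card_univ, card_golayPt, Finset.mem_univ, if_true,
          nsmul_eq_mul, mul_one]
        push_cast
        ring
      rw [hs] at h2
      have h5 : (u : GolayPt → ℤ) p = 1 := by omega
      rw [h5] at h2
      have hcard := Cfsg.Agent.SporadicA.GolayBase.card_of_mem_supports hW
      generalize (cls (u : GolayPt → ℤ) 1).card = n at h2 hcard
      omega

theorem mu_eight_base (u u' : leechLattice)
    (hu : Mu (lv p q 4 4 hpq four_or four_or) (w3 p) u)
    (hu' : Mu (lv p q 4 4 hpq four_or four_or) (w3 p) u') :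
    Relation.ReflTransGen (MuAdj (lv p q 4 4 hpq four_or four_or) (w3 p)) u u' := by
  obtain ⟨n, hn⟩ := exists_notMem {p, q} (lt_of_le_of_lt Finset.card_le_two (by decide))
  simp only [Finset.mem_insert, Finset.mem_singleton, not_or] at hn
  have hpn := Ne.symm hn.1
  have hqn := Ne.symm hn.2
  have hsymm : ∀ a b, MuAdj (lv p q 4 4 hpq four_or four_or) (w3 p) a b →
      MuAdj (lv p q 4 4 hpq four_or four_or) (w3 p) b a := fun _ _ h => h.symm
  have hadj : ∀ k l (hpk : p ≠ k) (_ : q ≠ k) (hpl : p ≠ l) (_ : q ≠ l), k ≠ l →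
      MuAdj (lv p q 4 4 hpq four_or four_or) (w3 p) (lv p k 4 (-4) hpk four_or neg_four_or)
        (lv p l 4 (-4) hpl four_or neg_four_or) := by
    intro k l hpk hqk hpl hql hkl
    exact ⟨mu_eight_lv hpq hpk hqk, mu_eight_lv hpq hpl hql,
      (adj_lv hpk hpl hkl _ _ _ _).2⟩
  -- the standard vectors are connected, with both signs
  have hstd : ∀ k (hpk : p ≠ k) (_ : q ≠ k),
      Relation.ReflTransGen (MuAdj (lv p q 4 4 hpq four_or four_or) (w3 p))
        (lv p k 4 (-4) hpk four_or neg_four_or) (lv p n 4 (-4) hpn four_or neg_four_or) := by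
    intro k hpk hqk
    by_cases hkn : k = n
    · subst hkn
      exact Relation.ReflTransGen.refl
    · exact Relation.ReflTransGen.single (hadj k n hpk hqk hpn hqn hkn)
  have hstd' : ∀ k (hpk : p ≠ k) (_ : q ≠ k),
      Relation.ReflTransGen (MuAdj (lv p q 4 4 hpq four_or four_or) (w3 p))
        (-(lv p k 4 (-4) hpk four_or neg_four_or)) (lv p n 4 (-4) hpn four_or neg_four_or) := by
    intro k hpk hqk
    obtain ⟨m, hm⟩ := exists_notMem {p, q, k} (lt_of_le_of_lt Finset.card_le_three (by decide))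
    simp only [Finset.mem_insert, Finset.mem_singleton, not_or] at hm
    exact (Relation.ReflTransGen.single (hadj k m hpk hqk (Ne.symm hm.1) (Ne.symm hm.2.1)
      (Ne.symm hm.2.2)).neg).trans (hstd m (Ne.symm hm.1) (Ne.symm hm.2.1))
  have key : ∀ u : leechLattice, Mu (lv p q 4 4 hpq four_or four_or) (w3 p) u →
      Relation.ReflTransGen (MuAdj (lv p q 4 4 hpq four_or four_or) (w3 p)) u
        (lv p n 4 (-4) hpn four_or neg_four_or) := by
    intro u hu
    have h1 := hu.2.1
    rw [dot_lv] at h1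
    by_cases hpos : (u : GolayPt → ℤ) p + (u : GolayPt → ℤ) q = 4
    · obtain ⟨k, hpk, hqk, h | h⟩ := mu_eight_cases hpq hu hpos
      · rw [h]
        exact hstd k hpk hqk
      · exact (Relation.ReflTransGen.single h).trans (hstd k hpk hqk)
    · have hneg : ((-u : leechLattice) : GolayPt → ℤ) p +
          ((-u : leechLattice) : GolayPt → ℤ) q = 4 := by
        rw [AddSubgroup.coe_neg, Pi.neg_apply, Pi.neg_apply]
        omega
      obtain ⟨k, hpk, hqk, h | h⟩ := mu_eight_cases hpq hu.neg hneg
      · have : u = -(lv p k 4 (-4) hpk four_or neg_four_or) := by rw [← h, neg_neg]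
        rw [this]
        exact hstd' k hpk hqk
      · have := h.neg
        rw [neg_neg] at this
        exact (Relation.ReflTransGen.single this).trans (hstd k hpk hqk)
  exact (key u hu).trans (rt_symm hsymm (key u' hu'))

end

/-- The common neighbours of two minimal vectors with inner product `8` form a connected
graph. -/
theorem conn_eight (o x u u' : leechLattice) (ho : nrm o = 32) (hx : nrm x = 32)
    (hox : dot o x = 8 ∨ dot o x = -8) (hu : Mu o x u) (hu' : Mu o x u') :
    Relation.ReflTransGen (MuAdj o x) u u' := by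
  wlog h8 : dot o x = 8 with H
  · have hmu : ∀ u : leechLattice, Mu o x u ↔ Mu o (-x) u := by
      intro u
      unfold Mu
      rw [dot_neg_left]
      constructor
      · rintro ⟨h1, h2, h3⟩; exact ⟨h1, h2, by omega⟩
      · rintro ⟨h1, h2, h3⟩; exact ⟨h1, h2, by omega⟩
    have := H o (-x) u u' ho (by rw [nrm_neg, hx]) (by rw [dot_neg_right]; omega)
      ((hmu u).1 hu) ((hmu u').1 hu') (by rw [dot_neg_right]; omega)
    refine rt_mono (fun a b hab => ?_) this
    exact ⟨(hmu a).2 hab.1, (hmu b).2 hab.2.1, hab.2.2⟩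
  obtain ⟨p, hp⟩ := exists_notMem ∅ (by simp)
  obtain ⟨q, hq⟩ := exists_notMem {p} (by simp)
  simp only [Finset.mem_singleton] at hq
  have hpq : p ≠ q := Ne.symm hq
  obtain ⟨g, hg1, hg2⟩ := exists_pair_eight o x (lv p q 4 4 hpq four_or four_or) (w3 p) ho hx
    (nrm_lv _ _ _ _ _ _ _) (nrm_w3 p) h8 (by
      rw [dot_lv]
      show 4 * (if p = p then (3 : ℤ) else -1) + 4 * (if q = p then (3 : ℤ) else -1) = 8
      rw [if_pos rfl, if_neg hpq.symm]
      rfl)
  refine mu_transport g ?_ u u' hu hu'
  rw [hg1, hg2]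
  exact mu_eight_base hpq

end Cfsg.Agent.MonsterP.LeechMu
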