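import Cfsg.Agent.MonsterP.CovP
import Cfsg.Agent.MonsterP.AxisInj
import Cfsg.Agent.MonsterX.MainPack

/-!
# The facts on the stabiliser of an axis in the model

`MFacts` of `CovP.lean` for the group of the 196884-dimensional model: nodes `π (t 10) = ι o`,
`π (t 5) = ι o'` with `o`, `o'` adjacent short elements.
-/

set_option autoImplicit false

namespace Cfsg.Agent.MonsterP.MFactsInst

open Cfsg Cfsg.Agent.LeechMat.Core Cfsg.Agent.MonsterX.KSide Cfsg.Agent.MonsterX.KLift
  Cfsg.Agent.MonsterX.KModel Cfsg.Agent.MonsterX.Model Cfsg.Agent.MonsterX.MainTrans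
  Cfsg.Agent.MonsterX.MainBasic
  Cfsg.Agent.Bimonster Cfsg.Agent.Bimonster.Tits Cfsg.Agent.MonsterP.NhatData
  Cfsg.Agent.MonsterP.SChar Cfsg.Agent.MonsterP.W2 Cfsg.Agent.MonsterP.CovP

variable {V P W : Type} [AddCommGroup V] [Module ℚ V] [Group P] [AddCommGroup W] [Module ℚ W]
variable {D : MData V} {M : KS ↥D.G V P W} {x₀ : P} {θ : leechLattice → P} {K₀ : Type} [Group K₀]

/-- A braid relation and a commutation. -/
theorem eq_of_br {G : Type*} [Group G] {x c : G} (hx : x * x = 1) (hc : c * c = 1)
    (h1 : x * c = c * x) (h2 : x * c * x = c * x * c) : c = x := by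
  have e1 : x * c * x = c := by rw [h1, mul_assoc, hx, mul_one]
  have e2 : c * x * c = x := by rw [← h1, mul_assoc, hc, mul_one]
  rw [← e1, h2, e2]

/-- If two neighbours agree, all nodes agree. -/
theorem all_eq {G : Type*} [Group G] {y : ℕ → G} (h : CoxRel 14 y) (h01 : y 0 = y 1) :
    y 5 = y 10 := by
  have step : ∀ a b c : ℕ, a < 14 → b < 14 → c < 14 → adjB a c = false → adjB b c = true →
      y a = y b → y c = y b := by
    intro a b c ha hb hc h1 h2 hab
    refine eq_of_br (h.sq b hb) (h.sq c hc) ?_ (h.br b hb c hc h2)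
    rw [← hab]
    exact h.cm a ha c hc h1
  have e2 := step 0 1 2 (by norm_num) (by norm_num) (by norm_num) (by decide) (by decide) h01
  have e3 := step 1 2 3 (by norm_num) (by norm_num) (by norm_num) (by decide) (by decide) e2.symm
  have e4 := step 2 3 4 (by norm_num) (by norm_num) (by norm_num) (by decide) (by decide) e3.symm
  have e5 := step 3 4 5 (by norm_num) (by norm_num) (by norm_num) (by decide) (by decide) e4.symm
  have e6 := step 1 0 6 (by norm_num) (by norm_num) (by norm_num) (by decide) (by decide) h01.symm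
  have e7 := step 0 6 7 (by norm_num) (by norm_num) (by norm_num) (by decide) (by decide) e6.symm
  have e8 := step 6 7 8 (by norm_num) (by norm_num) (by norm_num) (by decide) (by decide) e7.symm
  have e9 := step 7 8 9 (by norm_num) (by norm_num) (by norm_num) (by decide) (by decide) e8.symm
  have e10 := step 8 9 10 (by norm_num) (by norm_num) (by norm_num) (by decide) (by decide) e9.symm
  rw [e5, e4, e3, e2, ← h01, e10, e9, e8, e7, e6]

/-- The Coxeter relations in the image. -/
theorem cox_map {Γ G : Type*} [Group Γ] [Group G] {n : ℕ} {t : ℕ → Γ} (h : CoxRel n t)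
    (π : Γ →* G) : CoxRel n (fun i => π (t i)) where
  sq i hi := by rw [← map_mul, h.sq i hi, map_one]
  cm i hi j hj hij := by rw [← map_mul, ← map_mul, h.cm i hi j hj hij]
  br i hi j hj hij := by simp only [← map_mul]; rw [h.br i hi j hj hij]

/-- The order of the stabiliser of an axis. -/
theorem card_stab (H : Link D M x₀) (L : Lift M θ) (hG : MGroup D K₀) (hR : MRep D)
    (hL : MLat D) (hO : MOrbit D) (hT : MTrans D) {o : P} (ho : o ∈ M.Sh) :
    Nat.card (MulAction.stabilizer D.G (M.a o)) = 2 * 4154781481226426191177580544000000 := by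
  obtain ⟨k, hk, -⟩ := HB.exists_trans H L ho
  rw [← hk, MulAction.stabilizer_smul_eq_stabilizer_map_conj,
    Subgroup.card_map_of_injective (MulAut.conj k).injective,
    ← MonsterX.MainPack.card_cent_t hG hR hL hO hT]
  congr 2
  ext g
  rw [MonsterX.MainPack.mem_cent_t_iff' hG hR hL hO hT, MulAction.mem_stabilizer_iff, ← H.a₀_eq]
  rfl

variable {Γ : Type*} [Group Γ] {t : ℕ → Γ} {π : Γ →* D.G} {o o' : P}

/-- **The facts on the stabiliser of the axis of node 10.** -/
theorem mfacts (hP : PRel t) (H : Link D M x₀) (L : Lift M θ) (hG : MGroup D K₀) (hR : MRep D)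
    (hL : MLat D) (hO : MOrbit D) (hT : MTrans D) (hB : IsB Spor.BabyMonster) (ho : o ∈ M.Sh)
    (ho' : o' ∈ M.Sh) (had : Ad M o o') (e10 : π (t 10) = M.ι o) (e5 : π (t 5) = M.ι o') :
    MFacts (fun i => π (t i)) (M.a o) where
  fix i hi := by
    have h1 : t i * t 10 = t 10 * t i := by
      have h2 : i < 14 ∧ adjB i 10 = false := by
        fin_cases hi <;> exact ⟨by norm_num, by decide⟩
      exact hP.cox.cm i h2.1 10 (by norm_num) h2.2
    refine (AxisInj.axis_iff H L hG hR hL hO hT ho ho).1 ?_
    rw [← e10, ← map_mul, h1, map_mul, mul_inv_cancel_right]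
  cent g hg := by
    have h1 := (AxisInj.axis_iff H L hG hR hL hO hT ho ho).2 hg
    change g * π (t 10) = π (t 10) * g
    rw [e10]
    exact mul_inv_eq_iff_eq_mul.1 h1
  ne_one := by
    change π (t 10) ≠ 1
    rw [e10, ← map_one M.ι]
    intro h
    obtain ⟨q, hq⟩ := nc_of_mem L ho
    rw [Link.ι_inj L h, chi_eq_one, mul_one, mul_inv_cancel, mul_one] at hq
    exact M.zc_ne hq.symm
  ne := by
    intro h
    have h1 := all_eq (cox_map hP.cox π) h
    change π (t 5) = π (t 10) at h1
    rw [e10, e5] at h1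
    exact SGraph.Ad.ne ho had (Link.ι_inj L h1)
  stab_fin := by
    have := G_finite hO
    infer_instance
  stab_card := by
    rw [card_stab H L hG hR hL hO hT ho, hB.2]
  conj := by
    obtain ⟨k, α, hk, h1, h2⟩ := trans_pair L ho ho' ho (mul_mem L ho ho' had) had
      (ad_mul_left L ho ho' had)
    refine ⟨k, ?_, ?_⟩
    · rw [hk.smul_a ho, h1]
    · change k * π (t 5) * k⁻¹ = π (t 5) * π (t 10)
      obtain ⟨-, A, T, hA⟩ := hk
      rw [e5, e10, mul_inv_eq_iff_eq_mul, conj_ι hA, h2, ← map_mul, mul_comm' L ho ho' had]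

end Cfsg.Agent.MonsterP.MFactsInst
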