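import Cfsg.Agent.MonsterP.NhatData

/-!
# The element swapping the arms 1 and 2

Let `t` satisfy the relations `PRel` (nodes of `Y553`).  The longest element `nh` of the `S12` generated by the path
`f1 e1 d1 c1 b1 a b2 c2 d2 e2 f2` swaps the arms 1 and 2 and centralises `b3, c3, d3`.
-/

set_option autoImplicit false

namespace Cfsg.Agent.MonsterP.Nhat

open Cfsg.Agent.Bimonster Cfsg.Agent.Bimonster.Tits Cfsg.Agent.MonsterP.NhatData

variable {G : Type*} [Group G]

theorem mir_lt : ∀ i < 14, mir i < 14 := by decide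

theorem mir_mir (i : ℕ) : mir (mir i) = i := by
  rcases lt_or_ge i 11 with h | h
  · interval_cases i <;> rfl
  · have : mir i = i := by
      unfold mir
      split <;> omega
    rw [this, this]

theorem adjB_mir : ∀ i < 14, ∀ j < 14, adjB (mir i) (mir j) = adjB i j := by decide

/-- the mirrored family -/
theorem cox_mir {t : ℕ → G} (h : CoxRel 14 t) : CoxRel 14 (fun i => t (mir i)) where
  sq i hi := h.sq _ (mir_lt i hi)
  cm i hi j hj hij := h.cm _ (mir_lt i hi) _ (mir_lt j hj) (by rw [adjB_mir i hi j hj, hij])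
  br i hi j hj hij := h.br _ (mir_lt i hi) _ (mir_lt j hj) (by rw [adjB_mir i hi j hj, hij])

theorem ev_map (t : ℕ → G) (f : ℕ → ℕ) (w : List ℕ) : ev (fun i => t (f i)) w = ev t (w.map f) := by
  unfold ev
  rw [List.map_map]
  rfl

/-- the conjugator `w₁` -/
def nw1 : List ℕ := nvW ++ [5] ++ [4, 3, 4]

theorem lt_of_all {n : ℕ} {w : List ℕ} (h : w.all (fun i => Nat.blt i n) = true) : ∀ i ∈ w, i < n := by
  intro i hi
  simpa using List.all_eq_true.1 h i hi

theorem ev_rev {t : ℕ → G} (h : CoxRel 14 t) {w : List ℕ}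
    (hw : w.all (fun i => Nat.blt i 14) = true) : ev t w.reverse = (ev t w)⁻¹ :=
  ev_reverse fun i hi => h.sq i (lt_of_all hw i hi)

/-- `b₃` conjugated by `w₁` -/
theorem conj_w1 {t : ℕ → G} (h : CoxRel 14 t) (h5 : t 5 = ev t f1a ^ 9) :
    (ev t nw1)⁻¹ * t 11 * ev t nw1 = ev t nAL := by
  have h1 : ev t nAL = ev t nAR := eq_of_nilB (n := 14) h (lt_of_all (by decide)) nA_ok
  rw [h1]
  unfold nw1 nAR
  rw [← ev_rev h (by decide)]
  simp only [List.reverse_append, ev_append, ev_rep, ← h5]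
  simp only [List.reverse_cons, List.reverse_nil, List.nil_append, List.cons_append, ev_cons,
    ev_nil, mul_one, mul_assoc]

/-- the mirror image of `nAL` has the same value -/
theorem ev_nAL_mir {t : ℕ → G} (h : CoxRel 14 t)
    (hu : ev t (nuW.map mir) = ev t nuW) : ev t (nAL.map mir) = ev t nAL := by
  have hr : ev t (nuW.map mir).reverse = ev t nuW.reverse := by
    rw [ev_rev h (by decide), ev_rev h (by decide), hu]
  unfold nAL
  simp only [List.map_append, List.map_reverse, List.reverse_append, List.reverse_reverse,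
    ev_append, hu, hr, List.map_cons, List.map_nil]
  rfl

/-- certificate -/
def nuC : List ℕ := [24, 16, 19, 21, 7, 10, 13, 16, 18, 15, 10, 12, 4, 7, 9, 6, 3, 0]

theorem nu_ok : nilB 14 nuC (nuW ++ (nuW.map mir).reverse) = true := by decide +kernel

theorem ev_nu {t : ℕ → G} (h : CoxRel 14 t) : ev t (nuW.map mir) = ev t nuW :=
  (eq_of_nilB (n := 14) h (lt_of_all (by decide)) nu_ok).symm

theorem comm_word {t : ℕ → G} {x : G} {w : List ℕ} (h : ∀ i ∈ w, t i * x = x * t i) :
    ev t w * x = x * ev t w := by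
  induction w with
  | nil => simp
  | cons i w ih =>
    rw [ev_cons, mul_assoc, ih fun j hj => h j (by simp [hj]), ← mul_assoc, h i (by simp), mul_assoc]

theorem nhW_eq : nhW = nsW ++ nw1.map mir ++ nw1.reverse := by decide

/-- the element `n̂` commutes with `b₃` -/
theorem nh_comm {t : ℕ → G} (h : CoxRel 14 t) (h5 : t 5 = ev t f1a ^ 9) (h10 : t 10 = ev t f2a ^ 9) :
    ev t nhW * t 11 = t 11 * ev t nhW := by
  have e1 := conj_w1 h h5
  have e2 := conj_w1 (cox_mir h) (by
    show t 10 = _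
    rw [ev_map t mir, h10]
    rfl)
  rw [ev_map t mir nw1, ev_map t mir nAL, ev_nAL_mir h (ev_nu h)] at e2
  have e3 : t (mir 11) = t 11 := rfl
  rw [e3] at e2
  have e4 : ev t (nw1.map mir) * (ev t nw1)⁻¹ * t 11 = t 11 * (ev t (nw1.map mir) * (ev t nw1)⁻¹) := by
    have h1 : (ev t nw1)⁻¹ * t 11 = ev t nAL * (ev t nw1)⁻¹ := by
      rw [← e1]; group
    have h2 : ev t (nw1.map mir) * ev t nAL = t 11 * ev t (nw1.map mir) := by
      rw [← e2]; group
    rw [mul_assoc, h1, ← mul_assoc, h2]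
    group
  have hs : ev t nsW * t 11 = t 11 * ev t nsW := by
    apply comm_word
    intro i hi
    have : ∀ i ∈ nsW, i < 14 ∧ adjB i 11 = false := by decide
    exact h.cm i (this i hi).1 11 (by norm_num) (this i hi).2
  rw [nhW_eq, ev_append, ev_append, ev_rev h (by decide), mul_assoc (ev t nsW), mul_assoc (ev t nsW), e4,
    ← mul_assoc, hs]
  group

theorem nh_sq {t : ℕ → G} (h : CoxRel 14 t) : ev t nhW * ev t nhW = 1 := by
  rw [← ev_append]
  exact nilB_sound h nhSq_ok

theorem nh_conj_aux {t : ℕ → G} (h : CoxRel 14 t) {i : ℕ} (hi : i < 14) {c : List ℕ}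
    (hc : nilB 14 c (nhW ++ [i] ++ nhW ++ [mir i]) = true) :
    ev t nhW * t i * ev t nhW = t (mir i) := by
  have := nilB_sound h hc
  simp only [ev_append, ev_cons, ev_nil, mul_one] at this
  rw [eq_inv_of_mul_eq_one_left this]
  exact inv_eq_of_mul_eq_one_left (h.sq _ (mir_lt i hi))

/-- `n̂` swaps the arms 1 and 2 -/
theorem nh_conj {t : ℕ → G} (h : CoxRel 14 t) (h5 : t 5 = ev t f1a ^ 9) (h10 : t 10 = ev t f2a ^ 9)
    {i : ℕ} (hi : i < 14) : ev t nhW * t i * ev t nhW = t (mir i) := by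
  interval_cases i
  · exact nh_conj_aux h hi nh_ok0
  · exact nh_conj_aux h hi nh_ok1
  · exact nh_conj_aux h hi nh_ok2
  · exact nh_conj_aux h hi nh_ok3
  · exact nh_conj_aux h hi nh_ok4
  · exact nh_conj_aux h hi nh_ok5
  · exact nh_conj_aux h hi nh_ok6
  · exact nh_conj_aux h hi nh_ok7
  · exact nh_conj_aux h hi nh_ok8
  · exact nh_conj_aux h hi nh_ok9
  · exact nh_conj_aux h hi nh_ok10
  · rw [nh_comm h h5 h10, mul_assoc, nh_sq h, mul_one]
    rfl
  · exact nh_conj_aux h hi nh_ok12
  · exact nh_conj_aux h hi nh_ok13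

/-- words are mirrored by conjugation with `n̂` -/
theorem nh_word {t : ℕ → G} (h : CoxRel 14 t) (h5 : t 5 = ev t f1a ^ 9) (h10 : t 10 = ev t f2a ^ 9)
    {w : List ℕ} (hw : ∀ i ∈ w, i < 14) : ev t nhW * ev t w * ev t nhW = ev t (w.map mir) := by
  induction w with
  | nil => simp [nh_sq h]
  | cons i w ih =>
    rw [List.map_cons, ev_cons, ev_cons, ← ih fun j hj => hw j (by simp [hj]),
      ← nh_conj h h5 h10 (hw i (by simp))]
    have : ev t nhW * t i * ev t nhW * (ev t nhW * ev t w * ev t nhW) =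
        ev t nhW * t i * (ev t nhW * ev t nhW) * ev t w * ev t nhW := by
      simp only [mul_assoc]
    rw [this, nh_sq h, mul_one]
    simp only [mul_assoc]

/-- the arm swap respects the relations of `P` -/
theorem prel_mir {t : ℕ → G} (h : PRel t) : PRel (fun i => t (mir i)) where
  cox := cox_mir h.cox
  spider := by
    rw [ev_map t mir, ← nh_word h.cox h.f1a h.f2a (by decide)]
    have e : ev t nhW * ev t spW * ev t nhW = ev t nhW * ev t spW * (ev t nhW)⁻¹ := by
      rw [inv_eq_of_mul_eq_one_left (nh_sq h.cox)]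
    rw [e, conj_pow, h.spider]
    group
  f1a := by
    rw [ev_map t mir]
    exact h.f2a
  f1b := by
    rw [ev_map t mir]
    exact h.f2b
  f2a := by
    rw [ev_map t mir]
    exact h.f1a
  f2b := by
    rw [ev_map t mir]
    exact h.f1b
  f3a := by
    rw [ev_map t mir]
    exact h.f3b
  f3b := by
    rw [ev_map t mir]
    exact h.f3a

end Cfsg.Agent.MonsterP.Nhat
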