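import Cfsg.Agent.MonsterX.OrdChk

/-!
# The nodes of the presentation of the Monster in the model: words

Node letters as in `Bimonster/Graph.lean`: `0 = a`, `1..5 = b1..f1`, `6..10 = b2..f2`, `11..13 = b3, c3, d3`; the row `14`
is an auxiliary axis (`ζ = f1 * t 14`), the rows `15..22` are elements of `Q`: `15 = d3 * f1`, `16 = θ₄` (the highest root
of the `D₄`), `17, 18, 19` = `θ₆` (highest root of the `D₆` containing the arm 1, 2, 3 up to `d`), `20, 21, 22` = `θ₇` (highest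
root of the two `E₇` with the arm 1, 2, 3 up to `d`); the rows `23..29` are auxiliary axes for `ζ` (`NodeZeta.lean`).

* `aw i` : word of the axis of the node `i` (`W (aw i) a₀`);
* `tw i` : word of the involution of the node `i`; `W (tw i) = W (aw i) * t₀ * (W (aw i))⁻¹`: for the eight nodes in `Q`
  (`1 3 5 6 8 10 11 13`) and the rows `15..22` a word in the letters of `Q`, otherwise `ivA (aw i) ([13, 14] ++ aw i)`.

Data: `blueprints/R19/helper484/data/nodes_M_v2.txt`.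
-/

set_option autoImplicit false
set_option maxRecDepth 100000

namespace Cfsg.Agent.MonsterP.NodeData

open Cfsg.Agent.MonsterX

/-- The words of the axes. -/
def awT : List (List ℕ) :=
  [[42, 39, 42, 39, 40, 39, 2, 7, 19], [37, 39, 37, 39, 29, 37], [42, 39, 42, 39, 40, 39, 43, 39, 38, 36, 36,
   38, 42, 43, 42, 43, 42, 14, 16, 17, 21, 22, 26, 32, 15], [1, 38, 36, 39, 28, 30, 25], [42, 39, 42, 39, 40,
   39, 42, 42, 37, 42, 38, 42, 43, 6, 7, 13, 15, 18, 21], [36, 43, 42, 39], [37, 39, 37, 39, 29, 31, 37], [42,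
   39, 42, 39, 40, 39, 43, 39, 37, 25, 28, 31, 32, 13, 15, 17, 20, 22], [1, 36, 36, 36, 39, 29], [42, 39, 42,
   39, 40, 39, 36, 37, 42, 37, 37, 42, 37, 37, 6, 14, 15, 17, 18, 21, 22, 23, 45], [43, 39, 28, 36, 27], [1,
   37, 39, 37, 27, 39, 29, 37], [42, 39, 42, 39, 40, 39, 43, 39, 42, 42, 43, 42, 42, 42, 37, 37, 42, 14, 15,
   18, 21, 22, 27, 30, 13, 15, 16, 18], [1, 25, 36, 39, 25], [42, 39, 42, 39, 40, 39, 42, 42, 38, 42, 42, 37,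
   37, 14, 16, 17, 18, 22, 23, 30, 1, 4, 5, 14, 15], [42, 37, 39, 30], [37, 39, 37, 39, 34, 37, 27], [42, 37,
   39, 27, 30, 26], [1, 43, 39, 26, 36], [1, 36, 36], [42, 37, 39, 25, 28], [1, 36, 36, 36, 39], [1, 25, 43,
   43], [42, 39, 40, 38, 39, 42, 39, 40, 42, 39, 37, 39, 40, 43, 43, 39, 37, 42, 37, 42, 37, 36, 37, 37, 38,
   42, 37, 37, 13, 14, 17, 21, 23, 26, 27, 28, 29, 32, 34, 0, 2, 4, 6, 8, 9, 12, 13, 14, 17, 19, 20, 21, 22,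
   23], [42, 39, 42, 39, 40, 39, 43, 39, 42, 39, 36, 43, 42, 38, 42, 42, 37, 42, 42, 13, 16, 17, 20, 21, 22,
   25, 26, 27, 29, 31, 32, 33, 34, 35, 13, 14, 15, 45], [42, 39, 40, 42, 39, 40, 37, 39, 36, 25, 39, 40, 43,
   39, 36, 36, 43, 36, 37, 36, 43, 38, 42, 16, 20, 25, 26, 27, 28, 29, 0, 3, 4, 13, 15, 19, 20, 21, 22, 45],
   [42, 39, 40, 42, 39, 40, 37, 39, 36, 25, 39, 40, 43, 39, 36, 36, 38, 42, 42, 37, 42, 43, 42, 38, 17, 18,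
   22, 25, 26, 28, 30, 32, 34, 2, 3, 5, 6, 14, 15, 16, 19, 20, 21, 45], [42, 39, 40, 38, 39, 42, 39, 40, 42,
   39, 37, 39, 40, 43, 43, 39, 37, 42, 37, 42, 37, 36, 37, 37, 38, 42, 37, 37, 13, 14, 17, 21, 23, 26, 27, 28,
   29, 32, 34, 0, 1, 3, 5, 6, 9, 11, 12, 13, 15, 16, 18, 20], [42, 39, 40, 38, 39, 42, 39, 40, 42, 39, 37, 39,
   40, 43, 43, 39, 37, 42, 37, 42, 37, 36, 37, 37, 38, 42, 37, 37, 13, 14, 17, 21, 23, 26, 27, 28, 29, 32, 34,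
   0, 1, 3, 4, 6, 9, 12, 13, 16, 20, 22, 45], [42, 39, 42, 39, 40, 39, 36, 36, 36, 38, 42, 42, 42, 42, 42, 13,
   15, 16, 17, 18, 21, 22, 23, 25, 27, 29, 3, 4, 6, 8, 13, 14, 16]]

/-- The words of the involutions. -/
def twT : List (List ℕ) :=
  [[19, 7, 2, 39, 41, 39, 36, 39, 36, 13, 14, 42, 39, 42, 39, 40, 39, 2, 7, 19], [0, 1, 3, 4, 8, 10, 15, 17, 19,
   21, 23], [15, 32, 26, 22, 21, 17, 16, 14, 36, 37, 36, 37, 36, 44, 42, 42, 44, 39, 37, 39, 41, 39, 36, 39,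
   36, 13, 14, 42, 39, 42, 39, 40, 39, 43, 39, 38, 36, 36, 38, 42, 43, 42, 43, 42, 14, 16, 17, 21, 22, 26, 32,
   15], [0, 5, 7, 8, 9, 10, 11, 14, 16, 17, 19, 21, 23], [21, 18, 15, 13, 7, 6, 37, 36, 44, 36, 43, 36, 36,
   39, 41, 39, 36, 39, 36, 13, 14, 42, 39, 42, 39, 40, 39, 42, 42, 37, 42, 38, 42, 43, 6, 7, 13, 15, 18, 21],
   [5, 7, 8, 9, 10, 11, 14, 15, 17, 20, 21, 22], [0, 1, 3, 4, 8, 10, 14, 15, 16, 20, 23, 45], [22, 20, 17, 15,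
   13, 32, 31, 28, 25, 43, 39, 37, 39, 41, 39, 36, 39, 36, 13, 14, 42, 39, 42, 39, 40, 39, 43, 39, 37, 25, 28,
   31, 32, 13, 15, 17, 20, 22], [0, 1, 2, 3, 4, 5, 8, 11, 14, 15, 16, 18, 19, 21, 22], [45, 23, 22, 21, 18,
   17, 15, 14, 6, 43, 43, 36, 43, 43, 36, 43, 42, 39, 41, 39, 36, 39, 36, 13, 14, 42, 39, 42, 39, 40, 39, 36,
   37, 42, 37, 37, 42, 37, 37, 6, 14, 15, 17, 18, 21, 22, 23, 45], [0, 1, 2, 3, 4, 5, 8, 11, 13, 17, 18, 19,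
   20, 21, 22], [0, 1, 3, 4, 8, 10, 18, 19, 20], [18, 16, 15, 13, 30, 27, 22, 21, 18, 15, 14, 36, 43, 43, 36,
   36, 36, 37, 36, 36, 39, 37, 39, 41, 39, 36, 39, 36, 13, 14, 42, 39, 42, 39, 40, 39, 43, 39, 42, 42, 43, 42,
   42, 42, 37, 37, 42, 14, 15, 18, 21, 22, 27, 30, 13, 15, 16, 18], [13, 16, 45], [15, 14, 5, 4, 1, 30, 23,
   22, 18, 17, 16, 14, 43, 43, 36, 36, 44, 36, 36, 39, 41, 39, 36, 39, 36, 13, 14, 42, 39, 42, 39, 40, 39, 42,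
   42, 38, 42, 42, 37, 37, 14, 16, 17, 18, 22, 23, 30, 1, 4, 5, 14, 15], [5, 7, 8, 9, 10, 11, 13, 14, 15, 16,
   17, 20, 21, 22, 45], [1, 3, 4, 8, 10, 14, 16, 17, 18, 21], [5, 7, 8, 9, 10, 11, 14, 15, 17, 18, 20, 21, 22,
   45], [1, 2, 3, 4, 5, 8, 11, 14, 15, 16, 17, 18, 19, 21, 22, 23], [15, 16, 45], [5, 7, 8, 9, 10, 11, 14, 16,
   17, 18, 19, 21, 23], [0, 1, 2, 3, 4, 5, 8, 11, 13, 18, 19, 20, 21, 22, 23, 45], [0, 13, 15, 45], [23, 22,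
   21, 20, 19, 17, 14, 13, 12, 9, 8, 6, 4, 2, 0, 34, 32, 29, 28, 27, 26, 23, 21, 17, 14, 13, 43, 43, 36, 44,
   43, 43, 42, 43, 36, 43, 36, 43, 39, 37, 37, 41, 39, 43, 39, 36, 41, 39, 36, 39, 44, 41, 39, 36, 13, 14, 42,
   39, 40, 38, 39, 42, 39, 40, 42, 39, 37, 39, 40, 43, 43, 39, 37, 42, 37, 42, 37, 36, 37, 37, 38, 42, 37, 37,
   13, 14, 17, 21, 23, 26, 27, 28, 29, 32, 34, 0, 2, 4, 6, 8, 9, 12, 13, 14, 17, 19, 20, 21, 22, 23], [45, 15,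
   14, 13, 35, 34, 33, 32, 31, 29, 27, 26, 25, 22, 21, 20, 17, 16, 13, 36, 36, 43, 36, 36, 44, 36, 37, 42, 39,
   36, 39, 37, 39, 41, 39, 36, 39, 36, 13, 14, 42, 39, 42, 39, 40, 39, 43, 39, 42, 39, 36, 43, 42, 38, 42, 42,
   37, 42, 42, 13, 16, 17, 20, 21, 22, 25, 26, 27, 29, 31, 32, 33, 34, 35, 13, 14, 15, 45], [45, 22, 21, 20,
   19, 15, 13, 4, 3, 0, 29, 28, 27, 26, 25, 20, 16, 36, 44, 37, 42, 43, 42, 37, 42, 42, 39, 37, 41, 39, 25,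
   42, 39, 43, 41, 39, 36, 41, 39, 36, 13, 14, 42, 39, 40, 42, 39, 40, 37, 39, 36, 25, 39, 40, 43, 39, 36, 36,
   43, 36, 37, 36, 43, 38, 42, 16, 20, 25, 26, 27, 28, 29, 0, 3, 4, 13, 15, 19, 20, 21, 22, 45], [45, 21, 20,
   19, 16, 15, 14, 6, 5, 3, 2, 34, 32, 30, 28, 26, 25, 22, 18, 17, 44, 36, 37, 36, 43, 36, 36, 44, 42, 42, 39,
   37, 41, 39, 25, 42, 39, 43, 41, 39, 36, 41, 39, 36, 13, 14, 42, 39, 40, 42, 39, 40, 37, 39, 36, 25, 39, 40,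
   43, 39, 36, 36, 38, 42, 42, 37, 42, 43, 42, 38, 17, 18, 22, 25, 26, 28, 30, 32, 34, 2, 3, 5, 6, 14, 15, 16,
   19, 20, 21, 45], [20, 18, 16, 15, 13, 12, 11, 9, 6, 5, 3, 1, 0, 34, 32, 29, 28, 27, 26, 23, 21, 17, 14, 13,
   43, 43, 36, 44, 43, 43, 42, 43, 36, 43, 36, 43, 39, 37, 37, 41, 39, 43, 39, 36, 41, 39, 36, 39, 44, 41, 39,
   36, 13, 14, 42, 39, 40, 38, 39, 42, 39, 40, 42, 39, 37, 39, 40, 43, 43, 39, 37, 42, 37, 42, 37, 36, 37, 37,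
   38, 42, 37, 37, 13, 14, 17, 21, 23, 26, 27, 28, 29, 32, 34, 0, 1, 3, 5, 6, 9, 11, 12, 13, 15, 16, 18, 20],
   [45, 22, 20, 16, 13, 12, 9, 6, 4, 3, 1, 0, 34, 32, 29, 28, 27, 26, 23, 21, 17, 14, 13, 43, 43, 36, 44, 43,
   43, 42, 43, 36, 43, 36, 43, 39, 37, 37, 41, 39, 43, 39, 36, 41, 39, 36, 39, 44, 41, 39, 36, 13, 14, 42, 39,
   40, 38, 39, 42, 39, 40, 42, 39, 37, 39, 40, 43, 43, 39, 37, 42, 37, 42, 37, 36, 37, 37, 38, 42, 37, 37, 13,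
   14, 17, 21, 23, 26, 27, 28, 29, 32, 34, 0, 1, 3, 4, 6, 9, 12, 13, 16, 20, 22, 45], [16, 14, 13, 8, 6, 4, 3,
   29, 27, 25, 23, 22, 21, 18, 17, 16, 15, 13, 36, 36, 36, 36, 36, 44, 42, 42, 42, 39, 41, 39, 36, 39, 36, 13,
   14, 42, 39, 42, 39, 40, 39, 36, 36, 36, 38, 42, 42, 42, 42, 42, 13, 15, 16, 17, 18, 21, 22, 23, 25, 27, 29,
   3, 4, 6, 8, 13, 14, 16]]

/-- The word of the axis of a node. -/
noncomputable def aw (i : ℕ) : List ℕ := CertVec.nth [] awT i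

/-- The word of the involution of a node. -/
noncomputable def tw (i : ℕ) : List ℕ := CertVec.nth [] twT i

/-- The nodes in `Q`. -/
def inQ (i : ℕ) : Bool := List.elem i [1, 3, 5, 6, 8, 10, 11, 13]

/-- Parent table of the tree (the one of `Bimonster/Graph.lean`). -/
def par (i : ℕ) : ℕ := Nat.mod (Nat.shiftRight 544708151567523330982943 (Nat.mul 5 i)) 32

/-- Adjacency. -/
def adj (i j : ℕ) : Bool := Nat.beq (par i) j || Nat.beq (par j) i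

/-- Kernel check for a pair of nodes: `t_i a_j = a_j` if they are not joined, `t_i a_j = t_j a_i` if they are joined. -/
noncomputable def pairOK (i j : ℕ) : Bool :=
  Bool.rec (OrdChk.eqC (OrdChk.cat (aw j) (tw i)) (aw j)) (OrdChk.eqC (OrdChk.cat (aw j) (tw i)) (OrdChk.cat (aw i) (tw j)))
    (adj i j)

theorem pair_comm {i j : ℕ} (h : pairOK i j = true) (ha : adj i j = false) :
    Conc.W (tw i) (Conc.W (aw j) InstData.M.a₀) = Conc.W (aw j) InstData.M.a₀ := by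
  unfold pairOK at h
  rw [ha] at h
  have h1 := OrdChk.eqC_sound (show OrdChk.eqC (OrdChk.cat (aw j) (tw i)) (aw j) = true from h)
  rw [OrdChk.cat_eq, Conc.W_append] at h1
  exact h1

theorem pair_join {i j : ℕ} (h : pairOK i j = true) (ha : adj i j = true) :
    Conc.W (tw i) (Conc.W (aw j) InstData.M.a₀) = Conc.W (tw j) (Conc.W (aw i) InstData.M.a₀) := by
  unfold pairOK at h
  rw [ha] at h
  have h1 := OrdChk.eqC_sound
    (show OrdChk.eqC (OrdChk.cat (aw j) (tw i)) (OrdChk.cat (aw i) (tw j)) = true from h)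
  rw [OrdChk.cat_eq, OrdChk.cat_eq, Conc.W_append, Conc.W_append] at h1
  exact h1

end Cfsg.Agent.MonsterP.NodeData
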