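import Cfsg.Agent.MonsterP.NodeData

/-!
# Pair checks for the nodes (kernel computation)
-/

set_option autoImplicit false
set_option maxRecDepth 100000
set_option Elab.async false

namespace Cfsg.Agent.MonsterP.NodePairs1

open Cfsg.Agent.MonsterP.NodeData

theorem p_1_0 : pairOK 1 0 = true := by decide +kernel

theorem p_1_2 : pairOK 1 2 = true := by decide +kernel

theorem p_1_3 : pairOK 1 3 = true := by decide +kernel

theorem p_1_4 : pairOK 1 4 = true := by decide +kernel

theorem p_1_5 : pairOK 1 5 = true := by decide +kernel

theorem p_1_6 : pairOK 1 6 = true := by decide +kernel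

theorem p_1_7 : pairOK 1 7 = true := by decide +kernel

theorem p_1_8 : pairOK 1 8 = true := by decide +kernel

theorem p_1_9 : pairOK 1 9 = true := by decide +kernel

theorem p_1_10 : pairOK 1 10 = true := by decide +kernel

theorem p_1_11 : pairOK 1 11 = true := by decide +kernel

theorem p_1_12 : pairOK 1 12 = true := by decide +kernel

theorem p_1_13 : pairOK 1 13 = true := by decide +kernel

theorem p_3_0 : pairOK 3 0 = true := by decide +kernel

theorem p_3_2 : pairOK 3 2 = true := by decide +kernel

theorem p_3_4 : pairOK 3 4 = true := by decide +kernel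

theorem p_3_5 : pairOK 3 5 = true := by decide +kernel

theorem p_3_6 : pairOK 3 6 = true := by decide +kernel

theorem p_3_7 : pairOK 3 7 = true := by decide +kernel

theorem p_3_8 : pairOK 3 8 = true := by decide +kernel

theorem p_3_9 : pairOK 3 9 = true := by decide +kernel

theorem p_3_10 : pairOK 3 10 = true := by decide +kernel

theorem p_3_11 : pairOK 3 11 = true := by decide +kernel

theorem p_3_12 : pairOK 3 12 = true := by decide +kernel

theorem p_3_13 : pairOK 3 13 = true := by decide +kernel

theorem p_5_0 : pairOK 5 0 = true := by decide +kernel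

theorem p_5_2 : pairOK 5 2 = true := by decide +kernel

theorem p_5_4 : pairOK 5 4 = true := by decide +kernel

theorem p_5_6 : pairOK 5 6 = true := by decide +kernel

theorem p_5_7 : pairOK 5 7 = true := by decide +kernel

theorem p_5_8 : pairOK 5 8 = true := by decide +kernel

theorem p_5_9 : pairOK 5 9 = true := by decide +kernel

theorem p_5_10 : pairOK 5 10 = true := by decide +kernel

theorem p_5_11 : pairOK 5 11 = true := by decide +kernel

theorem p_5_12 : pairOK 5 12 = true := by decide +kernel

theorem p_5_13 : pairOK 5 13 = true := by decide +kernel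

end Cfsg.Agent.MonsterP.NodePairs1
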