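import Cfsg.Agent.MonsterP.NodeData

/-!
# Pair checks for the nodes (kernel computation)
-/

set_option autoImplicit false
set_option maxRecDepth 100000
set_option Elab.async false

namespace Cfsg.Agent.MonsterP.NodePairs2

open Cfsg.Agent.MonsterP.NodeData

theorem p_6_0 : pairOK 6 0 = true := by decide +kernel

theorem p_6_2 : pairOK 6 2 = true := by decide +kernel

theorem p_6_4 : pairOK 6 4 = true := by decide +kernel

theorem p_6_7 : pairOK 6 7 = true := by decide +kernel

theorem p_6_8 : pairOK 6 8 = true := by decide +kernel

theorem p_6_9 : pairOK 6 9 = true := by decide +kernel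

theorem p_6_10 : pairOK 6 10 = true := by decide +kernel

theorem p_6_11 : pairOK 6 11 = true := by decide +kernel

theorem p_6_12 : pairOK 6 12 = true := by decide +kernel

theorem p_6_13 : pairOK 6 13 = true := by decide +kernel

theorem p_8_0 : pairOK 8 0 = true := by decide +kernel

theorem p_8_2 : pairOK 8 2 = true := by decide +kernel

theorem p_8_4 : pairOK 8 4 = true := by decide +kernel

theorem p_8_7 : pairOK 8 7 = true := by decide +kernel

theorem p_8_9 : pairOK 8 9 = true := by decide +kernel

theorem p_8_10 : pairOK 8 10 = true := by decide +kernel

theorem p_8_11 : pairOK 8 11 = true := by decide +kernel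

theorem p_8_12 : pairOK 8 12 = true := by decide +kernel

theorem p_8_13 : pairOK 8 13 = true := by decide +kernel

theorem p_10_0 : pairOK 10 0 = true := by decide +kernel

theorem p_10_2 : pairOK 10 2 = true := by decide +kernel

theorem p_10_4 : pairOK 10 4 = true := by decide +kernel

theorem p_10_7 : pairOK 10 7 = true := by decide +kernel

theorem p_10_9 : pairOK 10 9 = true := by decide +kernel

theorem p_10_11 : pairOK 10 11 = true := by decide +kernel

theorem p_10_12 : pairOK 10 12 = true := by decide +kernel

theorem p_10_13 : pairOK 10 13 = true := by decide +kernel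

end Cfsg.Agent.MonsterP.NodePairs2
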