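import Cfsg.Agent.MonsterP.NodeData

/-!
# Pair checks for the nodes (kernel computation)
-/

set_option autoImplicit false
set_option maxRecDepth 100000
set_option Elab.async false

namespace Cfsg.Agent.MonsterP.NodePairs3

open Cfsg.Agent.MonsterP.NodeData

theorem p_11_0 : pairOK 11 0 = true := by decide +kernel

theorem p_11_2 : pairOK 11 2 = true := by decide +kernel

theorem p_11_4 : pairOK 11 4 = true := by decide +kernel

theorem p_11_7 : pairOK 11 7 = true := by decide +kernel

theorem p_11_9 : pairOK 11 9 = true := by decide +kernel

theorem p_11_12 : pairOK 11 12 = true := by decide +kernel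

theorem p_11_13 : pairOK 11 13 = true := by decide +kernel

theorem p_13_0 : pairOK 13 0 = true := by decide +kernel

theorem p_13_2 : pairOK 13 2 = true := by decide +kernel

theorem p_13_4 : pairOK 13 4 = true := by decide +kernel

theorem p_13_7 : pairOK 13 7 = true := by decide +kernel

theorem p_13_9 : pairOK 13 9 = true := by decide +kernel

theorem p_13_12 : pairOK 13 12 = true := by decide +kernel

end Cfsg.Agent.MonsterP.NodePairs3
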