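import Cfsg.Agent.MonsterP.NodePairs0
import Cfsg.Agent.MonsterP.NodePairs1
import Cfsg.Agent.MonsterP.NodePairs2
import Cfsg.Agent.MonsterP.NodePairs3

/-!
# All pair checks for the nodes

`pairs : i < 14 → j < 14 → i ≠ j → pairOK i j = true ∨ pairOK j i = true`; `comm` and `join` are the corresponding
statements on vectors.
-/

set_option autoImplicit false

namespace Cfsg.Agent.MonsterP.NodePairs

open Cfsg.Agent.MonsterX Cfsg.Agent.MonsterP.NodeData

theorem row0 : ∀ j < 14, 0 ≠ j → (pairOK 0 j = true ∨ pairOK j 0 = true) := by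
  intro j hj hne
  match j, hj, hne with
  | 0, _, h => exact absurd rfl h
  | 1, _, _ => exact Or.inr NodePairs1.p_1_0
  | 2, _, _ => exact Or.inl NodePairs0.p_0_2
  | 3, _, _ => exact Or.inr NodePairs1.p_3_0
  | 4, _, _ => exact Or.inl NodePairs0.p_0_4
  | 5, _, _ => exact Or.inr NodePairs1.p_5_0
  | 6, _, _ => exact Or.inr NodePairs2.p_6_0
  | 7, _, _ => exact Or.inl NodePairs0.p_0_7
  | 8, _, _ => exact Or.inr NodePairs2.p_8_0
  | 9, _, _ => exact Or.inl NodePairs0.p_0_9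
  | 10, _, _ => exact Or.inr NodePairs2.p_10_0
  | 11, _, _ => exact Or.inr NodePairs3.p_11_0
  | 12, _, _ => exact Or.inl NodePairs0.p_0_12
  | 13, _, _ => exact Or.inr NodePairs3.p_13_0
  | n + 14, h, _ => exact absurd h (by omega)

theorem row1 : ∀ j < 14, 1 ≠ j → (pairOK 1 j = true ∨ pairOK j 1 = true) := by
  intro j hj hne
  match j, hj, hne with
  | 0, _, _ => exact Or.inl NodePairs1.p_1_0
  | 1, _, h => exact absurd rfl h
  | 2, _, _ => exact Or.inl NodePairs1.p_1_2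
  | 3, _, _ => exact Or.inl NodePairs1.p_1_3
  | 4, _, _ => exact Or.inl NodePairs1.p_1_4
  | 5, _, _ => exact Or.inl NodePairs1.p_1_5
  | 6, _, _ => exact Or.inl NodePairs1.p_1_6
  | 7, _, _ => exact Or.inl NodePairs1.p_1_7
  | 8, _, _ => exact Or.inl NodePairs1.p_1_8
  | 9, _, _ => exact Or.inl NodePairs1.p_1_9
  | 10, _, _ => exact Or.inl NodePairs1.p_1_10
  | 11, _, _ => exact Or.inl NodePairs1.p_1_11
  | 12, _, _ => exact Or.inl NodePairs1.p_1_12
  | 13, _, _ => exact Or.inl NodePairs1.p_1_13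
  | n + 14, h, _ => exact absurd h (by omega)

theorem row2 : ∀ j < 14, 2 ≠ j → (pairOK 2 j = true ∨ pairOK j 2 = true) := by
  intro j hj hne
  match j, hj, hne with
  | 0, _, _ => exact Or.inr NodePairs0.p_0_2
  | 1, _, _ => exact Or.inr NodePairs1.p_1_2
  | 2, _, h => exact absurd rfl h
  | 3, _, _ => exact Or.inr NodePairs1.p_3_2
  | 4, _, _ => exact Or.inl NodePairs0.p_2_4
  | 5, _, _ => exact Or.inr NodePairs1.p_5_2
  | 6, _, _ => exact Or.inr NodePairs2.p_6_2
  | 7, _, _ => exact Or.inl NodePairs0.p_2_7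
  | 8, _, _ => exact Or.inr NodePairs2.p_8_2
  | 9, _, _ => exact Or.inl NodePairs0.p_2_9
  | 10, _, _ => exact Or.inr NodePairs2.p_10_2
  | 11, _, _ => exact Or.inr NodePairs3.p_11_2
  | 12, _, _ => exact Or.inl NodePairs0.p_2_12
  | 13, _, _ => exact Or.inr NodePairs3.p_13_2
  | n + 14, h, _ => exact absurd h (by omega)

theorem row3 : ∀ j < 14, 3 ≠ j → (pairOK 3 j = true ∨ pairOK j 3 = true) := by
  intro j hj hne
  match j, hj, hne with
  | 0, _, _ => exact Or.inl NodePairs1.p_3_0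
  | 1, _, _ => exact Or.inr NodePairs1.p_1_3
  | 2, _, _ => exact Or.inl NodePairs1.p_3_2
  | 3, _, h => exact absurd rfl h
  | 4, _, _ => exact Or.inl NodePairs1.p_3_4
  | 5, _, _ => exact Or.inl NodePairs1.p_3_5
  | 6, _, _ => exact Or.inl NodePairs1.p_3_6
  | 7, _, _ => exact Or.inl NodePairs1.p_3_7
  | 8, _, _ => exact Or.inl NodePairs1.p_3_8
  | 9, _, _ => exact Or.inl NodePairs1.p_3_9
  | 10, _, _ => exact Or.inl NodePairs1.p_3_10
  | 11, _, _ => exact Or.inl NodePairs1.p_3_11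
  | 12, _, _ => exact Or.inl NodePairs1.p_3_12
  | 13, _, _ => exact Or.inl NodePairs1.p_3_13
  | n + 14, h, _ => exact absurd h (by omega)

theorem row4 : ∀ j < 14, 4 ≠ j → (pairOK 4 j = true ∨ pairOK j 4 = true) := by
  intro j hj hne
  match j, hj, hne with
  | 0, _, _ => exact Or.inr NodePairs0.p_0_4
  | 1, _, _ => exact Or.inr NodePairs1.p_1_4
  | 2, _, _ => exact Or.inr NodePairs0.p_2_4
  | 3, _, _ => exact Or.inr NodePairs1.p_3_4
  | 4, _, h => exact absurd rfl h
  | 5, _, _ => exact Or.inr NodePairs1.p_5_4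
  | 6, _, _ => exact Or.inr NodePairs2.p_6_4
  | 7, _, _ => exact Or.inl NodePairs0.p_4_7
  | 8, _, _ => exact Or.inr NodePairs2.p_8_4
  | 9, _, _ => exact Or.inl NodePairs0.p_4_9
  | 10, _, _ => exact Or.inr NodePairs2.p_10_4
  | 11, _, _ => exact Or.inr NodePairs3.p_11_4
  | 12, _, _ => exact Or.inl NodePairs0.p_4_12
  | 13, _, _ => exact Or.inr NodePairs3.p_13_4
  | n + 14, h, _ => exact absurd h (by omega)

theorem row5 : ∀ j < 14, 5 ≠ j → (pairOK 5 j = true ∨ pairOK j 5 = true) := by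
  intro j hj hne
  match j, hj, hne with
  | 0, _, _ => exact Or.inl NodePairs1.p_5_0
  | 1, _, _ => exact Or.inr NodePairs1.p_1_5
  | 2, _, _ => exact Or.inl NodePairs1.p_5_2
  | 3, _, _ => exact Or.inr NodePairs1.p_3_5
  | 4, _, _ => exact Or.inl NodePairs1.p_5_4
  | 5, _, h => exact absurd rfl h
  | 6, _, _ => exact Or.inl NodePairs1.p_5_6
  | 7, _, _ => exact Or.inl NodePairs1.p_5_7
  | 8, _, _ => exact Or.inl NodePairs1.p_5_8
  | 9, _, _ => exact Or.inl NodePairs1.p_5_9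
  | 10, _, _ => exact Or.inl NodePairs1.p_5_10
  | 11, _, _ => exact Or.inl NodePairs1.p_5_11
  | 12, _, _ => exact Or.inl NodePairs1.p_5_12
  | 13, _, _ => exact Or.inl NodePairs1.p_5_13
  | n + 14, h, _ => exact absurd h (by omega)

theorem row6 : ∀ j < 14, 6 ≠ j → (pairOK 6 j = true ∨ pairOK j 6 = true) := by
  intro j hj hne
  match j, hj, hne with
  | 0, _, _ => exact Or.inl NodePairs2.p_6_0
  | 1, _, _ => exact Or.inr NodePairs1.p_1_6
  | 2, _, _ => exact Or.inl NodePairs2.p_6_2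
  | 3, _, _ => exact Or.inr NodePairs1.p_3_6
  | 4, _, _ => exact Or.inl NodePairs2.p_6_4
  | 5, _, _ => exact Or.inr NodePairs1.p_5_6
  | 6, _, h => exact absurd rfl h
  | 7, _, _ => exact Or.inl NodePairs2.p_6_7
  | 8, _, _ => exact Or.inl NodePairs2.p_6_8
  | 9, _, _ => exact Or.inl NodePairs2.p_6_9
  | 10, _, _ => exact Or.inl NodePairs2.p_6_10
  | 11, _, _ => exact Or.inl NodePairs2.p_6_11
  | 12, _, _ => exact Or.inl NodePairs2.p_6_12
  | 13, _, _ => exact Or.inl NodePairs2.p_6_13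
  | n + 14, h, _ => exact absurd h (by omega)

theorem row7 : ∀ j < 14, 7 ≠ j → (pairOK 7 j = true ∨ pairOK j 7 = true) := by
  intro j hj hne
  match j, hj, hne with
  | 0, _, _ => exact Or.inr NodePairs0.p_0_7
  | 1, _, _ => exact Or.inr NodePairs1.p_1_7
  | 2, _, _ => exact Or.inr NodePairs0.p_2_7
  | 3, _, _ => exact Or.inr NodePairs1.p_3_7
  | 4, _, _ => exact Or.inr NodePairs0.p_4_7
  | 5, _, _ => exact Or.inr NodePairs1.p_5_7
  | 6, _, _ => exact Or.inr NodePairs2.p_6_7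
  | 7, _, h => exact absurd rfl h
  | 8, _, _ => exact Or.inr NodePairs2.p_8_7
  | 9, _, _ => exact Or.inl NodePairs0.p_7_9
  | 10, _, _ => exact Or.inr NodePairs2.p_10_7
  | 11, _, _ => exact Or.inr NodePairs3.p_11_7
  | 12, _, _ => exact Or.inl NodePairs0.p_7_12
  | 13, _, _ => exact Or.inr NodePairs3.p_13_7
  | n + 14, h, _ => exact absurd h (by omega)

theorem row8 : ∀ j < 14, 8 ≠ j → (pairOK 8 j = true ∨ pairOK j 8 = true) := by
  intro j hj hne
  match j, hj, hne with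
  | 0, _, _ => exact Or.inl NodePairs2.p_8_0
  | 1, _, _ => exact Or.inr NodePairs1.p_1_8
  | 2, _, _ => exact Or.inl NodePairs2.p_8_2
  | 3, _, _ => exact Or.inr NodePairs1.p_3_8
  | 4, _, _ => exact Or.inl NodePairs2.p_8_4
  | 5, _, _ => exact Or.inr NodePairs1.p_5_8
  | 6, _, _ => exact Or.inr NodePairs2.p_6_8
  | 7, _, _ => exact Or.inl NodePairs2.p_8_7
  | 8, _, h => exact absurd rfl h
  | 9, _, _ => exact Or.inl NodePairs2.p_8_9
  | 10, _, _ => exact Or.inl NodePairs2.p_8_10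
  | 11, _, _ => exact Or.inl NodePairs2.p_8_11
  | 12, _, _ => exact Or.inl NodePairs2.p_8_12
  | 13, _, _ => exact Or.inl NodePairs2.p_8_13
  | n + 14, h, _ => exact absurd h (by omega)

theorem row9 : ∀ j < 14, 9 ≠ j → (pairOK 9 j = true ∨ pairOK j 9 = true) := by
  intro j hj hne
  match j, hj, hne with
  | 0, _, _ => exact Or.inr NodePairs0.p_0_9
  | 1, _, _ => exact Or.inr NodePairs1.p_1_9
  | 2, _, _ => exact Or.inr NodePairs0.p_2_9
  | 3, _, _ => exact Or.inr NodePairs1.p_3_9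
  | 4, _, _ => exact Or.inr NodePairs0.p_4_9
  | 5, _, _ => exact Or.inr NodePairs1.p_5_9
  | 6, _, _ => exact Or.inr NodePairs2.p_6_9
  | 7, _, _ => exact Or.inr NodePairs0.p_7_9
  | 8, _, _ => exact Or.inr NodePairs2.p_8_9
  | 9, _, h => exact absurd rfl h
  | 10, _, _ => exact Or.inr NodePairs2.p_10_9
  | 11, _, _ => exact Or.inr NodePairs3.p_11_9
  | 12, _, _ => exact Or.inl NodePairs0.p_9_12
  | 13, _, _ => exact Or.inr NodePairs3.p_13_9
  | n + 14, h, _ => exact absurd h (by omega)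

theorem row10 : ∀ j < 14, 10 ≠ j → (pairOK 10 j = true ∨ pairOK j 10 = true) := by
  intro j hj hne
  match j, hj, hne with
  | 0, _, _ => exact Or.inl NodePairs2.p_10_0
  | 1, _, _ => exact Or.inr NodePairs1.p_1_10
  | 2, _, _ => exact Or.inl NodePairs2.p_10_2
  | 3, _, _ => exact Or.inr NodePairs1.p_3_10
  | 4, _, _ => exact Or.inl NodePairs2.p_10_4
  | 5, _, _ => exact Or.inr NodePairs1.p_5_10
  | 6, _, _ => exact Or.inr NodePairs2.p_6_10
  | 7, _, _ => exact Or.inl NodePairs2.p_10_7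
  | 8, _, _ => exact Or.inr NodePairs2.p_8_10
  | 9, _, _ => exact Or.inl NodePairs2.p_10_9
  | 10, _, h => exact absurd rfl h
  | 11, _, _ => exact Or.inl NodePairs2.p_10_11
  | 12, _, _ => exact Or.inl NodePairs2.p_10_12
  | 13, _, _ => exact Or.inl NodePairs2.p_10_13
  | n + 14, h, _ => exact absurd h (by omega)

theorem row11 : ∀ j < 14, 11 ≠ j → (pairOK 11 j = true ∨ pairOK j 11 = true) := by
  intro j hj hne
  match j, hj, hne with
  | 0, _, _ => exact Or.inl NodePairs3.p_11_0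
  | 1, _, _ => exact Or.inr NodePairs1.p_1_11
  | 2, _, _ => exact Or.inl NodePairs3.p_11_2
  | 3, _, _ => exact Or.inr NodePairs1.p_3_11
  | 4, _, _ => exact Or.inl NodePairs3.p_11_4
  | 5, _, _ => exact Or.inr NodePairs1.p_5_11
  | 6, _, _ => exact Or.inr NodePairs2.p_6_11
  | 7, _, _ => exact Or.inl NodePairs3.p_11_7
  | 8, _, _ => exact Or.inr NodePairs2.p_8_11
  | 9, _, _ => exact Or.inl NodePairs3.p_11_9
  | 10, _, _ => exact Or.inr NodePairs2.p_10_11
  | 11, _, h => exact absurd rfl h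
  | 12, _, _ => exact Or.inl NodePairs3.p_11_12
  | 13, _, _ => exact Or.inl NodePairs3.p_11_13
  | n + 14, h, _ => exact absurd h (by omega)

theorem row12 : ∀ j < 14, 12 ≠ j → (pairOK 12 j = true ∨ pairOK j 12 = true) := by
  intro j hj hne
  match j, hj, hne with
  | 0, _, _ => exact Or.inr NodePairs0.p_0_12
  | 1, _, _ => exact Or.inr NodePairs1.p_1_12
  | 2, _, _ => exact Or.inr NodePairs0.p_2_12
  | 3, _, _ => exact Or.inr NodePairs1.p_3_12
  | 4, _, _ => exact Or.inr NodePairs0.p_4_12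
  | 5, _, _ => exact Or.inr NodePairs1.p_5_12
  | 6, _, _ => exact Or.inr NodePairs2.p_6_12
  | 7, _, _ => exact Or.inr NodePairs0.p_7_12
  | 8, _, _ => exact Or.inr NodePairs2.p_8_12
  | 9, _, _ => exact Or.inr NodePairs0.p_9_12
  | 10, _, _ => exact Or.inr NodePairs2.p_10_12
  | 11, _, _ => exact Or.inr NodePairs3.p_11_12
  | 12, _, h => exact absurd rfl h
  | 13, _, _ => exact Or.inr NodePairs3.p_13_12
  | n + 14, h, _ => exact absurd h (by omega)

theorem row13 : ∀ j < 14, 13 ≠ j → (pairOK 13 j = true ∨ pairOK j 13 = true) := by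
  intro j hj hne
  match j, hj, hne with
  | 0, _, _ => exact Or.inl NodePairs3.p_13_0
  | 1, _, _ => exact Or.inr NodePairs1.p_1_13
  | 2, _, _ => exact Or.inl NodePairs3.p_13_2
  | 3, _, _ => exact Or.inr NodePairs1.p_3_13
  | 4, _, _ => exact Or.inl NodePairs3.p_13_4
  | 5, _, _ => exact Or.inr NodePairs1.p_5_13
  | 6, _, _ => exact Or.inr NodePairs2.p_6_13
  | 7, _, _ => exact Or.inl NodePairs3.p_13_7
  | 8, _, _ => exact Or.inr NodePairs2.p_8_13
  | 9, _, _ => exact Or.inl NodePairs3.p_13_9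
  | 10, _, _ => exact Or.inr NodePairs2.p_10_13
  | 11, _, _ => exact Or.inr NodePairs3.p_11_13
  | 12, _, _ => exact Or.inl NodePairs3.p_13_12
  | 13, _, h => exact absurd rfl h
  | n + 14, h, _ => exact absurd h (by omega)

theorem pairs : ∀ i < 14, ∀ j < 14, i ≠ j → (pairOK i j = true ∨ pairOK j i = true) := by
  intro i hi
  match i, hi with
  | 0, _ => exact row0
  | 1, _ => exact row1
  | 2, _ => exact row2
  | 3, _ => exact row3
  | 4, _ => exact row4
  | 5, _ => exact row5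
  | 6, _ => exact row6
  | 7, _ => exact row7
  | 8, _ => exact row8
  | 9, _ => exact row9
  | 10, _ => exact row10
  | 11, _ => exact row11
  | 12, _ => exact row12
  | 13, _ => exact row13
  | n + 14, h => exact absurd h (by omega)

theorem adj_comm (i j : ℕ) : adj i j = adj j i := by
  unfold adj; rw [Bool.or_comm]

/-- Nodes which are not joined. -/
theorem comm {i j : ℕ} (hi : i < 14) (hj : j < 14) (hne : i ≠ j) (ha : adj i j = false) :
    Conc.W (tw i) (Conc.W (aw j) InstData.M.a₀) = Conc.W (aw j) InstData.M.a₀ ∨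
      Conc.W (tw j) (Conc.W (aw i) InstData.M.a₀) = Conc.W (aw i) InstData.M.a₀ := by
  rcases pairs i hi j hj hne with h | h
  · exact Or.inl (pair_comm h ha)
  · exact Or.inr (pair_comm h (by rw [adj_comm]; exact ha))

/-- Joined nodes. -/
theorem join {i j : ℕ} (hi : i < 14) (hj : j < 14) (hne : i ≠ j) (ha : adj i j = true) :
    Conc.W (tw i) (Conc.W (aw j) InstData.M.a₀) = Conc.W (tw j) (Conc.W (aw i) InstData.M.a₀) := by
  rcases pairs i hi j hj hne with h | h
  · exact pair_join h ha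
  · exact (pair_join h (by rw [adj_comm]; exact ha)).symm

end Cfsg.Agent.MonsterP.NodePairs
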