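import Cfsg.Agent.MonsterP.NodeData

/-!
# Pair checks for the nodes (kernel computation)
-/

set_option autoImplicit false
set_option maxRecDepth 100000
set_option Elab.async false

namespace Cfsg.Agent.MonsterP.NodePairs0

open Cfsg.Agent.MonsterP.NodeData

theorem p_0_2 : pairOK 0 2 = true := by decide +kernel

theorem p_0_4 : pairOK 0 4 = true := by decide +kernel

theorem p_0_7 : pairOK 0 7 = true := by decide +kernel

theorem p_0_9 : pairOK 0 9 = true := by decide +kernel

theorem p_0_12 : pairOK 0 12 = true := by decide +kernel

theorem p_2_4 : pairOK 2 4 = true := by decide +kernel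

theorem p_2_7 : pairOK 2 7 = true := by decide +kernel

theorem p_2_9 : pairOK 2 9 = true := by decide +kernel

theorem p_2_12 : pairOK 2 12 = true := by decide +kernel

theorem p_4_7 : pairOK 4 7 = true := by decide +kernel

theorem p_4_9 : pairOK 4 9 = true := by decide +kernel

theorem p_4_12 : pairOK 4 12 = true := by decide +kernel

theorem p_7_9 : pairOK 7 9 = true := by decide +kernel

theorem p_7_12 : pairOK 7 12 = true := by decide +kernel

theorem p_9_12 : pairOK 9 12 = true := by decide +kernel

end Cfsg.Agent.MonsterP.NodePairs0
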