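import Cfsg.Agent.MonsterP.NodeVec
import Cfsg.Agent.MonsterX.ConcMono

/-!
# The rows in `Q`: kernel checks

For the rows `i` of `rows` the word `tw i` is a word in the letters of `Q` and `T i * W (aw i) = W (aw i) * t₀`
(checked on the base vector of `C`).  Products in `Q`: `d₃ f₁ = e` and the centres of the three `E₇`.
-/

set_option autoImplicit false
set_option maxRecDepth 100000
set_option Elab.async false

namespace Cfsg.Agent.MonsterP.NodeQ

open Cfsg.Agent.Monster.VecEngine Cfsg.Agent.Monster.VecSpace Cfsg.Agent.MonsterX.Space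
open Cfsg.Agent.MonsterX Cfsg.Agent.MonsterX.Model Cfsg.Agent.MonsterX.Conc Cfsg.Agent.MonsterX.InstData
open Cfsg.Agent.MonsterP.NodeData Cfsg.Agent.MonsterP.NodeVec

/-- The rows in `Q`. -/
def rows : List ℕ := [1, 3, 5, 6, 8, 10, 11, 13, 15, 16, 17, 18, 19, 20, 21, 22]

theorem q_1 : qC 1 = true := by decide +kernel

theorem q_3 : qC 3 = true := by decide +kernel

theorem q_5 : qC 5 = true := by decide +kernel

theorem q_6 : qC 6 = true := by decide +kernel

theorem q_8 : qC 8 = true := by decide +kernel

theorem q_10 : qC 10 = true := by decide +kernel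

theorem q_11 : qC 11 = true := by decide +kernel

theorem q_13 : qC 13 = true := by decide +kernel

theorem q_15 : qC 15 = true := by decide +kernel

theorem q_16 : qC 16 = true := by decide +kernel

theorem q_17 : qC 17 = true := by decide +kernel

theorem q_18 : qC 18 = true := by decide +kernel

theorem q_19 : qC 19 = true := by decide +kernel

theorem q_20 : qC 20 = true := by decide +kernel

theorem q_21 : qC 21 = true := by decide +kernel

theorem q_22 : qC 22 = true := by decide +kernel

theorem q_row : ∀ i ∈ rows, qC i = true := by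
  intro i hi
  simp only [rows, List.mem_cons, List.not_mem_nil, or_false] at hi
  rcases hi with h | h | h | h | h | h | h | h | h | h | h | h | h | h | h | h
  · rw [h]; exact q_1
  · rw [h]; exact q_3
  · rw [h]; exact q_5
  · rw [h]; exact q_6
  · rw [h]; exact q_8
  · rw [h]; exact q_10
  · rw [h]; exact q_11
  · rw [h]; exact q_13
  · rw [h]; exact q_15
  · rw [h]; exact q_16
  · rw [h]; exact q_17
  · rw [h]; exact q_18
  · rw [h]; exact q_19
  · rw [h]; exact q_20
  · rw [h]; exact q_21
  · rw [h]; exact q_22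

/-- `tw i` is a word in the letters of `Q`. -/
theorem tw_Q : ∀ i ∈ rows, ∀ n ∈ tw i, n < 24 ∨ n = 45 := by
  have h : (rows.all fun i => (tw i).all fun n => n < 24 || n == 45) = true := by decide +kernel
  intro i hi n hn
  simpa using (List.all_eq_true.1 (List.all_eq_true.1 h i hi) n hn)

/-- `aw i` is a word in the letters of `C`. -/
theorem aw_C : ∀ i ∈ rows, ∀ n ∈ aw i, n < 46 ∧ n ≠ 40 ∧ n ≠ 41 := by
  have h : (rows.all fun i => (aw i).all fun n => n < 46 && n != 40 && n != 41) = true := by decide +kernel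
  intro i hi n hn
  have h1 := (List.all_eq_true.1 (List.all_eq_true.1 h i hi) n hn)
  simp only [Bool.and_eq_true, decide_eq_true_eq, bne_iff_ne, ne_eq] at h1
  exact ⟨h1.1.1, h1.1.2, h1.2⟩

/-- All letters of the involutions are less than `46`. -/
theorem tw_lt : ∀ i < 23, ∀ n ∈ tw i, n < 46 := by
  have h : ((List.range 23).all fun i => (tw i).all fun n => n < 46) = true := by decide +kernel
  intro i hi n hn
  simpa using (List.all_eq_true.1 (List.all_eq_true.1 h i (List.mem_range.2 hi)) n hn)

/-- All letters of the axes are less than `46`. -/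
theorem aw_lt : ∀ i < 23, ∀ n ∈ aw i, n < 46 := by
  have h : ((List.range 23).all fun i => (aw i).all fun n => n < 46) = true := by decide +kernel
  intro i hi n hn
  simpa using (List.all_eq_true.1 (List.all_eq_true.1 h i (List.mem_range.2 hi)) n hn)

theorem w_e_eq : W (tw 13 ++ (tw 5)) = W (tw 15) :=
  ConcMono.W_eq_of_same (by decide +kernel)

theorem w_c1 : W (tw 1 ++ (tw 6 ++ (tw 11 ++ (tw 3 ++ (tw 16 ++ (tw 17 ++ (tw 20))))))) = W (tw 5) :=
  ConcMono.W_eq_of_same (by decide +kernel)

theorem w_c2 : W (tw 1 ++ (tw 6 ++ (tw 11 ++ (tw 8 ++ (tw 16 ++ (tw 18 ++ (tw 21))))))) = W (tw 10) :=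
  ConcMono.W_eq_of_same (by decide +kernel)

theorem w_c3 : W (tw 1 ++ (tw 6 ++ (tw 11 ++ (tw 13 ++ (tw 16 ++ (tw 19 ++ (tw 22))))))) = W [] :=
  ConcMono.W_eq_of_same (by decide +kernel)

/-- `e = d₃ f₁`. -/
theorem e_eq : T 5 * T 13 = T 15 := by
  have h := w_e_eq
  rw [W_append] at h
  exact h

/-- The centre of the first `E₇` is `f₁`. -/
theorem cen1 : T 20 * T 17 * T 16 * T 3 * T 11 * T 6 * T 1 = T 5 := by
  have h := w_c1
  simp only [W_append] at h
  exact h

/-- The centre of the second `E₇` is `f₂`. -/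
theorem cen2 : T 21 * T 18 * T 16 * T 8 * T 11 * T 6 * T 1 = T 10 := by
  have h := w_c2
  simp only [W_append] at h
  exact h

/-- The centre of the third `E₇` is trivial. -/
theorem cen3 : T 22 * T 19 * T 16 * T 13 * T 11 * T 6 * T 1 = 1 := by
  have h := w_c3
  simp only [W_append, W_nil] at h
  exact h

end Cfsg.Agent.MonsterP.NodeQ
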