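import Cfsg.Agent.MonsterP.NodeSpBase
import Cfsg.Agent.MonsterP.SpLit1

/-!
# The spider relation: kernel computation, part 1
-/

set_option autoImplicit false
set_option maxRecDepth 100000
set_option Elab.async false

namespace Cfsg.Agent.MonsterP.NodeSp1

open Cfsg.Agent.MonsterX Cfsg.Agent.MonsterP.NodeSpBase

theorem chk : stC [2, 0, 16, 7, 11] (InstData.up 10 BaseVec.vB) SpLit1.L = true := by decide +kernel

end Cfsg.Agent.MonsterP.NodeSp1
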