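import Cfsg.Agent.MonsterP.NodeSp1
import Cfsg.Agent.MonsterP.SpLit1
import Cfsg.Agent.MonsterP.SpLit2

/-!
# The spider relation: kernel computation, part 2 (imports the previous part only to build one after the other)
-/

set_option autoImplicit false
set_option maxRecDepth 100000
set_option Elab.async false

namespace Cfsg.Agent.MonsterP.NodeSp2

open Cfsg.Agent.MonsterX Cfsg.Agent.MonsterP.NodeSpBase

theorem chk : stC [12, 16, 2, 6] SpLit1.L SpLit2.L = true := by decide +kernel

end Cfsg.Agent.MonsterP.NodeSp2
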