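import Cfsg.Agent.MonsterP.NodeSp2
import Cfsg.Agent.MonsterP.SpLit2
import Cfsg.Agent.MonsterP.SpLit3

/-!
# The spider relation: kernel computation, part 3 (imports the previous part only to build one after the other)
-/

set_option autoImplicit false
set_option maxRecDepth 100000
set_option Elab.async false

namespace Cfsg.Agent.MonsterP.NodeSp3

open Cfsg.Agent.MonsterX Cfsg.Agent.MonsterP.NodeSpBase

theorem chk : stC [7, 0, 16, 12, 1] SpLit2.L SpLit3.L = true := by decide +kernel

end Cfsg.Agent.MonsterP.NodeSp3
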