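import Cfsg.Agent.MonsterP.NodeSp3
import Cfsg.Agent.MonsterP.SpLit3
import Cfsg.Agent.MonsterP.SpLit4

/-!
# The spider relation: kernel computation, part 4 (imports the previous part only to build one after the other)
-/

set_option autoImplicit false
set_option maxRecDepth 100000
set_option Elab.async false

namespace Cfsg.Agent.MonsterP.NodeSp4

open Cfsg.Agent.MonsterX Cfsg.Agent.MonsterP.NodeSpBase

theorem chk : stC [2, 16, 7, 11] SpLit3.L SpLit4.L = true := by decide +kernel

end Cfsg.Agent.MonsterP.NodeSp4
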