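import Cfsg.Agent.MonsterP.NodeSp4
import Cfsg.Agent.MonsterP.SpLit4
import Cfsg.Agent.MonsterP.SpLit5

/-!
# The spider relation: kernel computation, part 5 (imports the previous part only to build one after the other)
-/

set_option autoImplicit false
set_option maxRecDepth 100000
set_option Elab.async false

namespace Cfsg.Agent.MonsterP.NodeSp5

open Cfsg.Agent.MonsterX Cfsg.Agent.MonsterP.NodeSpBase

theorem chk : stC [12, 6, 16, 7, 16] SpLit4.L SpLit5.L = true := by decide +kernel

end Cfsg.Agent.MonsterP.NodeSp5
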