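import Cfsg.Agent.MonsterP.NodeVec

/-!
# The spider relation: form of the kernel checks
-/

set_option autoImplicit false

namespace Cfsg.Agent.MonsterP.NodeSpBase

open Cfsg.Agent.Monster.VecEngine Cfsg.Agent.Monster.VecSpace Cfsg.Agent.MonsterX.Space
open Cfsg.Agent.MonsterX Cfsg.Agent.MonsterX.Conc Cfsg.Agent.MonsterX.InstData Cfsg.Agent.MonsterP.NodeVec

/-- Kernel check: the product of the involutions of `l` (the first one acts first) maps the planes `x` to `y`. -/
noncomputable def stC (l : List ℕ) (x y : Pl) : Bool :=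
  check (CertVec.dec ProgTable.prog (actL [] l)) x [] y

theorem stC_sound {l : List ℕ} {x y : Pl} (h : stC l x y = true) : TL l (vecV x) = vecV y := by
  unfold stC at h
  rw [CertVec.dec_eq] at h
  have h1 : W (actL [] l) (vecV x) = W [] (vecV y) := W_eq_of_check (w₂ := []) h
  rw [W_nil] at h1
  exact h1

end Cfsg.Agent.MonsterP.NodeSpBase
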