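import Cfsg.Agent.Bimonster.Graph

/-!
# The spider relation from one relation of cost 28

In the affine Weyl group `E₆` (nodes `0, 1, 2, 6, 7, 11, 12`) the fifth power of the spider word times a reflection `ρ` is a
translation by a vector of norm `12`; it is conjugate to the product `rW` of nodes and `16 = θ₄` (highest root of the `D₄`),
the cheapest word in the model.  If `ev T rW = 1` then the spider relation holds.
-/

set_option autoImplicit false
set_option maxRecDepth 100000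

namespace Cfsg.Agent.MonsterP.NodeSpiderCox

open Cfsg.Agent.Bimonster Cfsg.Agent.Bimonster.Tits

/-- the relation, `16 = θ₄` -/
def rW : List ℕ := [12, 16, 1, 11, 2, 16, 7, 16, 6, 12, 11, 7, 16, 2, 1, 12, 16, 0, 7, 6, 2, 16, 12, 11, 7, 16, 0, 2]

/-- `θ₄` written in the nodes -/
def ex : List ℕ → List ℕ
  | [] => []
  | i :: w => if Nat.beq i 16 then t4W ++ ex w else i :: ex w

/-- the reflection -/
def rhoW : List ℕ := [1, 7, 6, 0, 11, 0, 1, 2, 6, 0, 1, 7, 6, 0, 11, 12, 11, 0, 6, 7, 1, 0, 6, 2, 1, 0, 11, 0, 6, 7, 1]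

/-- the conjugator -/
def gW : List ℕ := [11, 12, 7, 6, 0, 1]

/-- the certificate -/
def cert : List ℕ := [
  124, 127, 130, 133, 135, 119, 124, 127, 130, 132, 106, 109, 112, 115, 118, 122, 127, 131, 135, 101, 106, 109,
  112, 116, 121, 125, 130, 132, 109, 112, 115, 118, 106, 70, 73, 76, 79, 82, 85, 88, 92, 97, 101, 107, 112,
  115, 119, 124, 127, 129, 115, 118, 121, 112, 115, 109, 85, 88, 91, 94, 97, 100, 104, 110, 116, 122, 127, 130,
  133, 136, 139, 142, 146, 150, 124, 118, 100, 103, 80, 85, 88, 91, 95, 100, 104, 109, 112, 115, 119, 125, 130,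
  133, 136, 140, 145, 147, 109, 112, 65, 70, 73, 76, 80, 85, 89, 94, 97, 100, 104, 109, 113, 118, 121, 125,
  130, 134, 139, 142, 144, 118, 73, 76, 79, 82, 70, 34, 37, 40, 43, 46, 49, 52, 56, 61, 65, 71, 76, 79, 83, 88,
  91, 94, 97, 100, 104, 109, 113, 119, 124, 128, 133, 136, 139, 141, 124, 127, 121, 79, 82, 85, 88, 91, 76, 79,
  73, 49, 52, 55, 58, 61, 64, 68, 74, 80, 85, 88, 92, 97, 100, 103, 106, 109, 112, 116, 122, 128, 133, 136,
  138, 112, 115, 64, 67, 44, 49, 52, 55, 59, 64, 68, 73, 76, 80, 85, 88, 92, 97, 100, 103, 107, 112, 116, 121,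
  124, 128, 133, 135, 121, 73, 29, 34, 37, 40, 44, 49, 53, 58, 61, 64, 68, 74, 79, 82, 85, 88, 92, 97, 101,
  106, 109, 112, 116, 122, 127, 130, 132, 97, 100, 103, 106, 94, 49, 52, 55, 58, 46, 16, 19, 22, 25, 28, 32,
  37, 41, 47, 52, 55, 59, 64, 67, 70, 73, 77, 82, 85, 89, 95, 100, 103, 107, 112, 115, 118, 121, 125, 130, 133,
  137, 141, 11, 16, 19, 22, 26, 31, 35, 40, 43, 47, 52, 55, 59, 64, 67, 71, 76, 79, 83, 88, 91, 95, 100, 103,
  107, 112, 115, 119, 124, 127, 131, 136, 139, 142, 144, 136, 139, 141, 124, 127, 130, 133, 136, 138, 135, 132,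
  129, 126, 123, 123, 120, 116, 110, 115, 119, 123, 120, 113, 117, 106, 109, 113, 117, 100, 103, 97, 100, 104,
  109, 112, 114, 111, 97, 100, 103, 106, 108, 105, 103, 105, 97, 100, 102, 94, 91, 95, 99, 88, 85, 89, 94, 96,
  94, 96, 80, 85, 89, 93, 76, 79, 73, 76, 80, 85, 88, 90, 87, 76, 79, 82, 84, 81, 64, 68, 73, 77, 82, 85, 87,
  62, 67, 70, 73, 77, 67, 70, 64, 58, 55, 59, 65, 71, 76, 80, 84, 82, 84, 74, 79, 81, 67, 70, 74, 78, 50, 55,
  58, 61, 64, 52, 55, 46, 43, 47, 52, 56, 61, 65, 70, 73, 75, 72, 52, 55, 58, 61, 64, 67, 69, 66, 63, 58, 60,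
  55, 49, 52, 56, 60, 57, 40, 37, 41, 46, 49, 19, 22, 25, 28, 32, 37, 41, 46, 50, 54, 34, 37, 41, 46, 50, 54,
  28, 25, 29, 34, 37, 40, 16, 20, 25, 29, 34, 37, 41, 46, 49, 51, 48, 37, 40, 43, 45, 22, 25, 29, 34, 38, 42,
  39, 31, 34, 36, 33, 28, 14, 19, 22, 25, 29, 33, 30, 20, 10, 14, 19, 23, 27, 17, 22, 25, 28, 30, 27, 24, 13,
  17, 21, 10, 13, 17, 21, 18, 7, 10, 13, 16, 19, 22, 24, 11, 17, 21, 4, 1, 5, 10, 13, 17, 21, 19, 22, 24, 14,
  8, 13, 17, 21, 19, 21, 11, 16, 18, 4, 7, 11, 15, 13, 15, 10, 12, 4, 7, 9, 1, 4, 6, 3, 0]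

theorem cert_ok : run (rules 14) cert 0 (rep 5 spW ++ (rhoW ++ (gW ++ ((ex rW).reverse ++ gW.reverse)))) =
    some (86, []) := by
  decide +kernel

variable {G : Type*} [Group G]

theorem ev_ex {T : ℕ → G} (h : ev T t4W = T 16) (w : List ℕ) : ev T (ex w) = ev T w := by
  induction w with
  | nil => rfl
  | cons i w ih =>
    unfold ex
    by_cases hi : Nat.beq i 16 = true
    · rw [if_pos hi, ev_append, ih, h, ev_cons, Nat.eq_of_beq_eq_true hi]
    · rw [if_neg hi, ev_cons, ev_cons, ih]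

theorem ev_t4 {T : ℕ → G} (h : CoxRel 14 T)
    (h4 : T 0 * T 16 * T 0 = T 11 * T 6 * T 1 * T 0 * T 1 * T 6 * T 11) : ev T t4W = T 16 := by
  have q := h.sq 0 (by norm_num)
  have h1 : ev T t4W = T 0 * (T 11 * T 6 * T 1 * T 0 * T 1 * T 6 * T 11) * T 0 := by
    unfold t4W
    simp only [ev_cons, ev_nil, mul_one, mul_assoc]
  rw [h1, ← h4]
  calc T 0 * (T 0 * T 16 * T 0) * T 0 = (T 0 * T 0) * T 16 * (T 0 * T 0) := by group
    _ = T 16 := by rw [q, one_mul, mul_one]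

theorem ex_lt : ∀ i ∈ ex rW, i < 14 := by
  have h : ((ex rW).all fun i => Nat.blt i 14) = true := by decide +kernel
  intro i hi
  simpa using List.all_eq_true.1 h i hi

theorem rho_lt : ∀ i ∈ rhoW, i < 14 := by
  have h : (rhoW.all fun i => Nat.blt i 14) = true := by decide +kernel
  intro i hi
  simpa using List.all_eq_true.1 h i hi

theorem g_lt : ∀ i ∈ gW, i < 14 := by
  have h : (gW.all fun i => Nat.blt i 14) = true := by decide +kernel
  intro i hi
  simpa using List.all_eq_true.1 h i hi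

theorem rho_rev : rhoW.reverse = rhoW := by decide +kernel

/-- **The spider relation.** -/
theorem spider_of {T : ℕ → G} (h : CoxRel 14 T)
    (h4 : T 0 * T 16 * T 0 = T 11 * T 6 * T 1 * T 0 * T 1 * T 6 * T 11) (hR : ev T rW = 1) :
    ev T spW ^ 10 = 1 := by
  have h1 := eq_of_run h.valid cert_ok
  have hx : ev T (ex rW) = 1 := (ev_ex (ev_t4 h h4) rW).trans hR
  have sq : ∀ {w : List ℕ}, (∀ i ∈ w, i < 14) → ∀ i ∈ w, T i * T i = 1 := fun hw i hi => h.sq i (hw i hi)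
  rw [ev_append, ev_append, ev_append, ev_append, ev_rep, ev_reverse (sq ex_lt), ev_reverse (sq g_lt), hx, inv_one,
    one_mul, mul_inv_cancel, mul_one, one_pow] at h1
  have hr : (ev T rhoW)⁻¹ = ev T rhoW := by rw [← ev_reverse (sq rho_lt), rho_rev]
  have h2 : ev T spW ^ 5 = ev T rhoW := by
    rw [← hr]
    exact eq_inv_of_mul_eq_one_left h1
  rw [show (10 : ℕ) = 5 + 5 from rfl, pow_add, h2]
  nth_rewrite 1 [← hr]
  exact inv_mul_cancel _

end Cfsg.Agent.MonsterP.NodeSpiderCox
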