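import Cfsg.Agent.MonsterP.NodeVec

/-!
# The highest roots in the model: kernel checks

`16 = θ₄`, `16 + k = θ₆` (arm `k`), `19 + k = θ₇` (arm `k`).
`θ₄ = T_{b3} T_{b2} T_{b1} a`, `θ₆ = T_{θ₄} T_{d} T_{b} c` and `θ₇ = T_{θ₆} T_{θ₄} T_{b'} c'` up to the symmetry of pairs.
-/

set_option autoImplicit false
set_option maxRecDepth 100000
set_option Elab.async false

namespace Cfsg.Agent.MonsterP.NodeTheta

open Cfsg.Agent.MonsterP.NodeVec

/-- The node `b` of the arm. -/
def b (k : ℕ) : ℕ := 5 * k - 4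

/-- The node `c` of the arm. -/
def c (k : ℕ) : ℕ := 5 * k - 3

/-- The node `d` of the arm. -/
def d (k : ℕ) : ℕ := 5 * k - 2

theorem t4 : idC 16 [0] 0 [1, 6, 11] = true := by decide +kernel

theorem t6_1 : idC 17 [2] 2 [1, 3, 16] = true := by decide +kernel

theorem t6_2 : idC 18 [7] 7 [6, 8, 16] = true := by decide +kernel

theorem t6_3 : idC 19 [12] 12 [11, 13, 16] = true := by decide +kernel

theorem t7_1_2 : idC 20 [7] 7 [6, 16, 17] = true := by decide +kernel

theorem t7_1_3 : idC 20 [12] 12 [11, 16, 17] = true := by decide +kernel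

theorem t7_2_1 : idC 21 [2] 2 [1, 16, 18] = true := by decide +kernel

theorem t7_2_3 : idC 21 [12] 12 [11, 16, 18] = true := by decide +kernel

theorem t7_3_1 : idC 22 [2] 2 [1, 16, 19] = true := by decide +kernel

theorem t7_3_2 : idC 22 [7] 7 [6, 16, 19] = true := by decide +kernel

/-- `θ₄`. -/
theorem theta4 : T 0 (ax 16) = T 11 (T 6 (T 1 (ax 0))) := idC_sound t4

/-- `θ₆` of the arm `k`. -/
theorem theta6 {k : ℕ} (h : k ∈ [1, 2, 3]) :
    T (c k) (ax (16 + k)) = T 16 (T (d k) (T (b k) (ax (c k)))) := by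
  simp only [List.mem_cons, List.not_mem_nil, or_false] at h
  rcases h with h | h | h <;> subst h
  · exact idC_sound t6_1
  · exact idC_sound t6_2
  · exact idC_sound t6_3

/-- `θ₇` of the arm `k`: the node `c` of another arm `l`. -/
theorem theta7 {k l : ℕ} (h : k ∈ [1, 2, 3]) (hl : l ∈ [1, 2, 3]) (hkl : k ≠ l) :
    T (c l) (ax (19 + k)) = T (16 + k) (T 16 (T (b l) (ax (c l)))) := by
  simp only [List.mem_cons, List.not_mem_nil, or_false] at h hl
  rcases h with h | h | h <;> rcases hl with h' | h' | h' <;> subst h <;> subst h'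
  · exact absurd rfl hkl
  · exact idC_sound t7_1_2
  · exact idC_sound t7_1_3
  · exact idC_sound t7_2_1
  · exact absurd rfl hkl
  · exact idC_sound t7_2_3
  · exact idC_sound t7_3_1
  · exact idC_sound t7_3_2
  · exact absurd rfl hkl

end Cfsg.Agent.MonsterP.NodeTheta
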