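import Cfsg.Agent.MonsterP.NodeVec

/-!
# The auxiliary axis `14`: kernel checks

`ζ = T 5 * T 14`: `T 14` is conjugate to `T 5`; `x` (`x = 0, 1, 2, 6, 7, 11`) and `T 5` act in the same way on `ax 14`;
`15 = d₃ f₁` and `14` generate a symmetric group of degree 3.
-/

set_option autoImplicit false
set_option maxRecDepth 100000
set_option Elab.async false

namespace Cfsg.Agent.MonsterP.NodeU

open Cfsg.Agent.MonsterP.NodeVec

theorem u_5 : idC 14 [5] 5 [14] = true := by decide +kernel

theorem u_0 : idC 14 [0] 14 [5] = true := by decide +kernel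

theorem u_1 : idC 14 [1] 14 [5] = true := by decide +kernel

theorem u_2 : idC 14 [2] 14 [5] = true := by decide +kernel

theorem u_6 : idC 14 [6] 14 [5] = true := by decide +kernel

theorem u_7 : idC 14 [7] 14 [5] = true := by decide +kernel

theorem u_11 : idC 14 [11] 14 [5] = true := by decide +kernel

theorem u_15 : idC 14 [15] 15 [14] = true := by decide +kernel

/-- `T 5 (ax 14) = T 14 (ax 5)`. -/
theorem f_u : T 5 (ax 14) = T 14 (ax 5) := idC_sound u_5

/-- `T x (ax 14) = T 5 (ax 14)` for the six nodes. -/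
theorem x_u {x : ℕ} (h : x ∈ [0, 1, 2, 6, 7, 11]) : T x (ax 14) = T 5 (ax 14) := by
  simp only [List.mem_cons, List.not_mem_nil, or_false] at h
  rcases h with h | h | h | h | h | h <;> subst h
  · exact idC_sound u_0
  · exact idC_sound u_1
  · exact idC_sound u_2
  · exact idC_sound u_6
  · exact idC_sound u_7
  · exact idC_sound u_11

/-- `T 15 (ax 14) = T 14 (ax 15)`. -/
theorem e_u : T 15 (ax 14) = T 14 (ax 15) := idC_sound u_15

end Cfsg.Agent.MonsterP.NodeU
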