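import Cfsg.Agent.MonsterP.NodeData
import Cfsg.Agent.MonsterX.BaseVec

/-!
# Nodes of the presentation of the Monster: axes and involutions, checks

`ax i = W (aw i) a₀`, `T i = W (tw i)` (`i ≤ 22`); `T i` is the word form, for the rows in `Q` it is compared with
`W (aw i) * t₀ * (W (aw i))⁻¹` in `NodeQ`.
`actW i l` = the word of `T l_k (… (T l_1 (ax i)))`, `l = [l_1, …, l_k]`; `idC i l j l'` = kernel check of
`T … (ax i) = T … (ax j)`.
-/

set_option autoImplicit false

namespace Cfsg.Agent.MonsterP.NodeVec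

open Cfsg.Agent.Monster.VecEngine Cfsg.Agent.Monster.VecSpace Cfsg.Agent.MonsterX.Space
open Cfsg.Agent.MonsterX Cfsg.Agent.MonsterX.Conc Cfsg.Agent.MonsterX.InstData Cfsg.Agent.MonsterP.NodeData

/-- The axis of a node. -/
noncomputable def ax (i : ℕ) : V := W (aw i) M.a₀

/-- The involution of a node (word form). -/
noncomputable def T (i : ℕ) : V ≃ₗ[ℚ] V := W (tw i)

/-- The word `w` followed by the words of the involutions of `l`. -/
noncomputable def actL (w : List ℕ) (l : List ℕ) : List ℕ :=
  OrdChk.cat w (List.rec (motive := fun _ => List ℕ) [] (fun j _ ih => OrdChk.cat (tw j) ih) l)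

/-- The vector of the word. -/
noncomputable def app (l : List ℕ) (v : V) : V := l.foldl (fun v j => T j v) v

/-- The product of the involutions of a list, the FIRST acts first. -/
noncomputable def TL (l : List ℕ) : V ≃ₗ[ℚ] V := W (actL [] l)

theorem W_actL (w l : List ℕ) : W (actL w l) = TL l * W w := by
  unfold TL actL
  rw [OrdChk.cat_eq, OrdChk.cat_eq, W_append, W_append, W_nil, mul_one]

theorem TL_nil : TL [] = 1 := W_nil

theorem TL_cons (j : ℕ) (l : List ℕ) : TL (j :: l) = TL l * T j := by
  have h : actL [] (j :: l) = actL (tw j) l := by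
    unfold actL
    rw [OrdChk.cat_eq, OrdChk.cat_eq, List.nil_append]
    show OrdChk.cat (tw j) _ = _
    rw [OrdChk.cat_eq]
  unfold TL
  rw [h, W_actL]
  rfl

theorem TL_apply (l : List ℕ) (v : V) : TL l v = app l v := by
  induction l generalizing v with
  | nil => rw [TL_nil]; rfl
  | cons j l ih => rw [TL_cons, LinearEquiv.mul_apply, ih]; rfl

/-- Kernel check of `T … (ax i) = T … (ax j)`. -/
noncomputable def idC (i : ℕ) (l : List ℕ) (j : ℕ) (l' : List ℕ) : Bool :=
  OrdChk.eqC (actL (aw i) l) (actL (aw j) l')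

theorem idC_sound {i j : ℕ} {l l' : List ℕ} (h : idC i l j l' = true) : app l (ax i) = app l' (ax j) := by
  have h1 := OrdChk.eqC_sound h
  rw [W_actL, W_actL, LinearEquiv.mul_apply, LinearEquiv.mul_apply, TL_apply, TL_apply] at h1
  exact h1

/-- Kernel check of `T i * W (aw i) = W (aw i) * t₀` on the base vector of `C`. -/
noncomputable def qC (i : ℕ) : Bool :=
  check (CertVec.dec ProgTable.prog (OrdChk.cat (aw i) (tw i))) (up 8 BaseVec.uB)
    (CertVec.dec ProgTable.prog (OrdChk.cat [13, 14] (aw i))) (up 8 BaseVec.uB)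

theorem qC_sound {i : ℕ} (h : qC i = true) :
    (T i * W (aw i)) (vecV BaseVec.uB) = (W (aw i) * M.t₀) (vecV BaseVec.uB) := by
  unfold qC at h
  rw [CertVec.dec_eq, CertVec.dec_eq] at h
  have h1 := W_eq_of_up h
  rw [OrdChk.cat_eq, OrdChk.cat_eq, W_append, W_append] at h1
  exact h1

end Cfsg.Agent.MonsterP.NodeVec
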