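import Cfsg.Agent.MonsterP.NodeVec

/-!
# Kernel checks for `ζ`, first part: the chain from `c₃` to `x = 23`
-/

set_option autoImplicit false
set_option maxRecDepth 100000
set_option Elab.async false

namespace Cfsg.Agent.MonsterP.NodeZ1

open Cfsg.Agent.MonsterP.NodeVec

theorem z_24 : idC 12 [11, 18, 2] 24 [] = true := by decide +kernel

theorem z_25 : idC 24 [17, 7] 25 [] = true := by decide +kernel

end Cfsg.Agent.MonsterP.NodeZ1
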