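import Cfsg.Agent.MonsterP.NodeVec

/-!
# Kernel checks for `ζ`, second part: the chain from `c₃` to `x = 23`
-/

set_option autoImplicit false
set_option maxRecDepth 100000
set_option Elab.async false

namespace Cfsg.Agent.MonsterP.NodeZ2

open Cfsg.Agent.MonsterP.NodeVec

theorem z_26 : idC 25 [4] 26 [] = true := by decide +kernel

theorem z_27 : idC 26 [17, 9] 27 [] = true := by decide +kernel

theorem z_23 : idC 27 [18] 23 [] = true := by decide +kernel

end Cfsg.Agent.MonsterP.NodeZ2
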