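import Cfsg.Agent.MonsterP.NodeVec

/-!
# Kernel checks for `ζ`, third part: the images of `23` under `c₃` and under `T 5 * T 14`
-/

set_option autoImplicit false
set_option maxRecDepth 100000
set_option Elab.async false

namespace Cfsg.Agent.MonsterP.NodeZ3

open Cfsg.Agent.MonsterP.NodeVec

theorem z_28 : idC 23 [12] 28 [] = true := by decide +kernel

theorem z_28' : idC 23 [14, 5] 28 [] = true := by decide +kernel

end Cfsg.Agent.MonsterP.NodeZ3
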