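import Cfsg.Agent.MonsterP.NodeVec

/-!
# Kernel checks for `ζ`, fourth part: `T x (ax 14) = T 5 (ax 14)` for five more nodes, and `e₁` on the fibre of `f₂`
-/

set_option autoImplicit false
set_option maxRecDepth 100000
set_option Elab.async false

namespace Cfsg.Agent.MonsterP.NodeZ4

open Cfsg.Agent.MonsterP.NodeVec

theorem u_3 : idC 14 [3] 14 [5] = true := by decide +kernel

theorem u_8 : idC 14 [8] 14 [5] = true := by decide +kernel

theorem u_9 : idC 14 [9] 14 [5] = true := by decide +kernel

theorem u_10 : idC 14 [10] 14 [5] = true := by decide +kernel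

theorem u_12 : idC 14 [12] 14 [5] = true := by decide +kernel

theorem z_29 : idC 10 [14, 5] 29 [] = true := by decide +kernel

theorem z_29' : idC 29 [4] 29 [10] = true := by decide +kernel

end Cfsg.Agent.MonsterP.NodeZ4
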