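import Cfsg.Agent.MonsterP.NodeU
import Cfsg.Agent.MonsterP.NodeZ1
import Cfsg.Agent.MonsterP.NodeZ2
import Cfsg.Agent.MonsterP.NodeZ3
import Cfsg.Agent.MonsterP.NodeZ4

/-!
# The axis identities for `ζ`

`ζ = T 5 * T 14`; `x = 23` is the image of `12` under `11, 18, 2, 17, 7, 4, 17, 9, 18` (in this order).
-/

set_option autoImplicit false

namespace Cfsg.Agent.MonsterP.NodeZ

open Cfsg.Agent.MonsterP.NodeVec

theorem app_append (l l' : List ℕ) (v : MonsterX.Space.V) : app (l ++ l') v = app l' (app l v) := by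
  unfold app
  rw [List.foldl_append]

/-- (Z1) The axis `23`. -/
theorem x_eq : app [11, 18, 2, 17, 7, 4, 17, 9, 18] (ax 12) = ax 23 := by
  have h1 : app [11, 18, 2] (ax 12) = ax 24 := idC_sound NodeZ1.z_24
  have h2 : app [17, 7] (ax 24) = ax 25 := idC_sound NodeZ1.z_25
  have h3 : app [4] (ax 25) = ax 26 := idC_sound NodeZ2.z_26
  have h4 : app [17, 9] (ax 26) = ax 27 := idC_sound NodeZ2.z_27
  have h5 : app [18] (ax 27) = ax 23 := idC_sound NodeZ2.z_23
  rw [show [11, 18, 2, 17, 7, 4, 17, 9, 18] = [11, 18, 2] ++ ([17, 7] ++ ([4] ++ ([17, 9] ++ [18]))) from rfl,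
    app_append, app_append, app_append, app_append, h1, h2, h3, h4, h5]

/-- (Z2) `c₃` and `ζ` agree on the axis `23`. -/
theorem c_x : T 12 (ax 23) = T 5 (T 14 (ax 23)) :=
  (idC_sound NodeZ3.z_28 : T 12 (ax 23) = ax 28).trans (idC_sound NodeZ3.z_28' : T 5 (T 14 (ax 23)) = ax 28).symm

/-- (Z3) `T x (ax 14) = T 5 (ax 14)` for all nodes `x < 13`, `x ≠ 4`. -/
theorem x_u {x : ℕ} (h : x ∈ [0, 1, 2, 3, 5, 6, 7, 8, 9, 10, 11, 12]) : T x (ax 14) = T 5 (ax 14) := by
  simp only [List.mem_cons, List.not_mem_nil, or_false] at h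
  rcases h with h | h | h | h | h | h | h | h | h | h | h | h <;> subst h
  · exact idC_sound NodeU.u_0
  · exact idC_sound NodeU.u_1
  · exact idC_sound NodeU.u_2
  · exact idC_sound NodeZ4.u_3
  · rfl
  · exact idC_sound NodeU.u_6
  · exact idC_sound NodeU.u_7
  · exact idC_sound NodeZ4.u_8
  · exact idC_sound NodeZ4.u_9
  · exact idC_sound NodeZ4.u_10
  · exact idC_sound NodeU.u_11
  · exact idC_sound NodeZ4.u_12

/-- (Z4) `e₁` and `f₂` agree on the axis `ζ (ax 10)`. -/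
theorem e_f : T 4 (T 5 (T 14 (ax 10))) = T 10 (T 5 (T 14 (ax 10))) := by
  have h1 : T 5 (T 14 (ax 10)) = ax 29 := idC_sound NodeZ4.z_29
  have h2 : T 4 (ax 29) = T 10 (ax 29) := idC_sound NodeZ4.z_29'
  rw [h1, h2]

end Cfsg.Agent.MonsterP.NodeZ
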