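import Cfsg.Agent.MonsterP.NodesCox

/-!
# From the identities of the reflections to the relations of the presentation

`NodeRel T` collects the identities between the involutions `T i` (`i < 14` the nodes, `14 = u`, `15 = d₃ f₁`, `16 = θ₄`,
`17, 18, 19 = θ₆`, `20, 21, 22 = θ₇`, `23 = x`) which are verified in the model; `prel` and `zrel` are the relations of the
presentation of the Monster.
-/

set_option autoImplicit false

namespace Cfsg.Agent.MonsterP.NodesRel

open Cfsg.Agent.Bimonster Cfsg.Agent.Bimonster.Tits Cfsg.Agent.MonsterP.NodesCox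

variable {G : Type*} [Group G]

/-- the identities of the `E₇` type -/
structure NodeRel (T : ℕ → G) : Prop where
  cox : CoxRel 14 T
  th4 : T 0 * T 16 * T 0 = T 11 * T 6 * T 1 * T 0 * T 1 * T 6 * T 11
  th6_1 : T 2 * T 17 * T 2 = T 16 * T 3 * T 1 * T 2 * T 1 * T 3 * T 16
  th6_2 : T 7 * T 18 * T 7 = T 16 * T 8 * T 6 * T 7 * T 6 * T 8 * T 16
  th6_3 : T 12 * T 19 * T 12 = T 16 * T 13 * T 11 * T 12 * T 11 * T 13 * T 16
  th7_12 : T 7 * T 20 * T 7 = T 17 * T 16 * T 6 * T 7 * T 6 * T 16 * T 17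
  th7_13 : T 12 * T 20 * T 12 = T 17 * T 16 * T 11 * T 12 * T 11 * T 16 * T 17
  th7_21 : T 2 * T 21 * T 2 = T 18 * T 16 * T 1 * T 2 * T 1 * T 16 * T 18
  th7_23 : T 12 * T 21 * T 12 = T 18 * T 16 * T 11 * T 12 * T 11 * T 16 * T 18
  th7_31 : T 2 * T 22 * T 2 = T 19 * T 16 * T 1 * T 2 * T 1 * T 16 * T 19
  th7_32 : T 7 * T 22 * T 7 = T 19 * T 16 * T 6 * T 7 * T 6 * T 16 * T 19
  cen1 : T 20 * T 17 * T 16 * T 3 * T 11 * T 6 * T 1 = T 5
  cen2 : T 21 * T 18 * T 16 * T 8 * T 11 * T 6 * T 1 = T 10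
  cen3 : T 22 * T 19 * T 16 * T 13 * T 11 * T 6 * T 1 = 1
  sq : ∀ i, 16 ≤ i → i < 23 → T i * T i = 1

/-- the permutation of the letters -/
def sg (b1 c1 d1 b2 c2 b3 : ℕ) (i : ℕ) : ℕ :=
  if i = 1 then b1 else if i = 2 then c1 else if i = 3 then d1 else if i = 6 then b2 else if i = 7 then c2 else
  if i = 11 then b3 else 0

/-- a good permutation of the letters -/
def good (σ : ℕ → ℕ) : Bool :=
  (List.range 12).all fun i => (List.range 12).all fun j =>
    !(mem7 i && mem7 j) || (Nat.blt (σ i) 14 && (adjB (σ i) (σ j) == adjB i j))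

theorem mem7_lt' {i : ℕ} (h : mem7 i = true) : i < 12 := by
  have := mem7_lt h
  omega

theorem good_spec {σ : ℕ → ℕ} (h : good σ = true) {i j : ℕ} (hi : mem7 i = true) (hj : mem7 j = true) :
    σ i < 14 ∧ adjB (σ i) (σ j) = adjB i j := by
  unfold good at h
  have h1 := List.all_eq_true.1 (List.all_eq_true.1 h i (List.mem_range.2 (mem7_lt' hi))) j
    (List.mem_range.2 (mem7_lt' hj))
  rw [hi, hj] at h1
  simpa using h1

theorem valid_of_good {σ : ℕ → ℕ} (h : good σ = true) {T : ℕ → G} (hT : CoxRel 14 T) :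
    Valid R7 (fun i => T (σ i)) 1 where
  sq i hi := hT.sq _ (good_spec h hi hi).1
  cm i j hij := by
    simp only [R7, Bool.and_eq_true, Bool.not_eq_true'] at hij
    have h1 := good_spec h hij.1.1 hij.1.2
    have h2 := good_spec h hij.1.2 hij.1.1
    exact hT.cm _ h1.1 _ h2.1 (by rw [h1.2, hij.2])
  br i j hij := by
    simp only [R7, Bool.and_eq_true] at hij
    have h1 := good_spec h hij.1.1 hij.1.2
    have h2 := good_spec h hij.1.2 hij.1.1
    exact hT.br _ h1.1 _ h2.1 (by rw [h1.2, hij.2])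
  central g := by simp

theorem perm4 {x y z a t4 : G} (hxy : x * y = y * x) (hxz : x * z = z * x) (hyz : y * z = z * y)
    (h : a * t4 * a = z * y * x * a * x * y * z) :
    (a * t4 * a = y * z * x * a * x * z * y) ∧ (a * t4 * a = z * x * y * a * y * x * z) ∧
    (a * t4 * a = x * z * y * a * y * z * x) ∧ (a * t4 * a = y * x * z * a * z * x * y) ∧
    (a * t4 * a = x * y * z * a * z * y * x) := by
  have e : ∀ {l r l' r' : G}, z * y * x = l → x * y * z = r → l * a * r = l' → a * t4 * a = l' := by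
    intro l r l' r' h1 h2 h3
    rw [h, ← h3, ← h1, ← h2]
    group
  have u1 : y * z * x = z * y * x := by rw [hyz]
  have u2 : z * x * y = z * y * x := by rw [mul_assoc, hxy, ← mul_assoc]
  have u3 : x * z * y = z * y * x := by rw [hxz, u2]
  have u4 : y * x * z = z * y * x := by rw [mul_assoc, hxz, ← mul_assoc, u1]
  have u5 : x * y * z = z * y * x := by rw [hxy, u4]
  refine ⟨e (r' := 1) u1.symm (u5.trans u3.symm) (by group), e (r' := 1) u2.symm (u5.trans u4.symm) (by group),
    e (r' := 1) u3.symm (u5.trans u1.symm) (by group), e (r' := 1) u4.symm (u5.trans u2.symm) (by group),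
    e (r' := 1) u5.symm u5 (by group)⟩

theorem inv7 {a b c d e f g h : G} (ha : a * a = 1) (hb : b * b = 1) (hc : c * c = 1) (hd : d * d = 1)
    (he : e * e = 1) (hf : f * f = 1) (hg : g * g = 1) (hh : h * h = 1) (H : g * f * e * d * c * b * a = h) :
    a * b * c * d * e * f * g = h := by
  have i : ∀ {x : G}, x * x = 1 → x⁻¹ = x := fun {x} hx => inv_eq_of_mul_eq_one_left hx
  have h1 : (g * f * e * d * c * b * a)⁻¹ = h⁻¹ := by rw [H]
  simp only [mul_inv_rev, i ha, i hb, i hc, i hd, i he, i hf, i hg, i hh] at h1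
  rw [← h1]
  simp only [mul_assoc]

namespace NodeRel

variable {T : ℕ → G}

theorem prel (h : NodeRel T) (hs : ev T spW ^ 10 = 1) : PRel T where
  cox := h.cox
  spider := hs
  f1a := by
    have q := h.cox.sq
    have h1 := c9_eq (s := fun i => T (sg 1 2 3 6 7 11 i)) (valid_of_good (by decide +kernel) h.cox)
      (t4 := T 16) (t6 := T 17) (t7 := T 20) h.th4 h.th6_1 h.th7_12
    exact (h1.trans (inv7 (q 1 (by norm_num)) (q 6 (by norm_num)) (q 11 (by norm_num)) (q 3 (by norm_num))
      (h.sq 16 (by norm_num) (by norm_num)) (h.sq 17 (by norm_num) (by norm_num))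
      (h.sq 20 (by norm_num) (by norm_num)) (q 5 (by norm_num)) h.cen1)).symm
  f1b := by
    have q := h.cox.sq
    have h1 := c9_eq (s := fun i => T (sg 1 2 3 11 12 6 i)) (valid_of_good (by decide +kernel) h.cox)
      (t4 := T 16) (t6 := T 17) (t7 := T 20)
      (perm4 (h.cox.cm 1 (by norm_num) 6 (by norm_num) (by decide)) (h.cox.cm 1 (by norm_num) 11 (by norm_num)
        (by decide)) (h.cox.cm 6 (by norm_num) 11 (by norm_num) (by decide)) h.th4).1 h.th6_1 h.th7_13
    have h2 : T 1 * T 11 * T 6 * T 3 * T 16 * T 17 * T 20 = T 1 * T 6 * T 11 * T 3 * T 16 * T 17 * T 20 := by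
      have := h.cox.cm 11 (by norm_num) 6 (by norm_num) (by decide)
      simp only [mul_assoc]
      rw [← mul_assoc (T 11), this]
      simp only [mul_assoc]
    exact ((h1.trans h2).trans (inv7 (q 1 (by norm_num)) (q 6 (by norm_num)) (q 11 (by norm_num)) (q 3 (by norm_num))
      (h.sq 16 (by norm_num) (by norm_num)) (h.sq 17 (by norm_num) (by norm_num))
      (h.sq 20 (by norm_num) (by norm_num)) (q 5 (by norm_num)) h.cen1)).symm
  f2a := by
    have q := h.cox.sq
    have h1 := c9_eq (s := fun i => T (sg 6 7 8 1 2 11 i)) (valid_of_good (by decide +kernel) h.cox)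
      (t4 := T 16) (t6 := T 18) (t7 := T 21)
      (perm4 (h.cox.cm 1 (by norm_num) 6 (by norm_num) (by decide)) (h.cox.cm 1 (by norm_num) 11 (by norm_num)
        (by decide)) (h.cox.cm 6 (by norm_num) 11 (by norm_num) (by decide)) h.th4).2.1 h.th6_2 h.th7_21
    have h2 : T 6 * T 1 * T 11 * T 8 * T 16 * T 18 * T 21 = T 1 * T 6 * T 11 * T 8 * T 16 * T 18 * T 21 := by
      rw [h.cox.cm 6 (by norm_num) 1 (by norm_num) (by decide)]
    exact ((h1.trans h2).trans (inv7 (q 1 (by norm_num)) (q 6 (by norm_num)) (q 11 (by norm_num)) (q 8 (by norm_num))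
      (h.sq 16 (by norm_num) (by norm_num)) (h.sq 18 (by norm_num) (by norm_num))
      (h.sq 21 (by norm_num) (by norm_num)) (q 10 (by norm_num)) h.cen2)).symm
  f2b := by
    have q := h.cox.sq
    have h1 := c9_eq (s := fun i => T (sg 6 7 8 11 12 1 i)) (valid_of_good (by decide +kernel) h.cox)
      (t4 := T 16) (t6 := T 18) (t7 := T 21)
      (perm4 (h.cox.cm 1 (by norm_num) 6 (by norm_num) (by decide)) (h.cox.cm 1 (by norm_num) 11 (by norm_num)
        (by decide)) (h.cox.cm 6 (by norm_num) 11 (by norm_num) (by decide)) h.th4).2.2.1 h.th6_2 h.th7_23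
    have h2 : T 6 * T 11 * T 1 * T 8 * T 16 * T 18 * T 21 = T 1 * T 6 * T 11 * T 8 * T 16 * T 18 * T 21 := by
      have e1 := h.cox.cm 11 (by norm_num) 1 (by norm_num) (by decide)
      have e2 := h.cox.cm 6 (by norm_num) 1 (by norm_num) (by decide)
      rw [mul_assoc (T 6), e1, ← mul_assoc (T 6), e2]
    exact ((h1.trans h2).trans (inv7 (q 1 (by norm_num)) (q 6 (by norm_num)) (q 11 (by norm_num)) (q 8 (by norm_num))
      (h.sq 16 (by norm_num) (by norm_num)) (h.sq 18 (by norm_num) (by norm_num))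
      (h.sq 21 (by norm_num) (by norm_num)) (q 10 (by norm_num)) h.cen2)).symm
  f3a := by
    have q := h.cox.sq
    have h1 := c9_eq (s := fun i => T (sg 11 12 13 1 2 6 i)) (valid_of_good (by decide +kernel) h.cox)
      (t4 := T 16) (t6 := T 19) (t7 := T 22)
      (perm4 (h.cox.cm 1 (by norm_num) 6 (by norm_num) (by decide)) (h.cox.cm 1 (by norm_num) 11 (by norm_num)
        (by decide)) (h.cox.cm 6 (by norm_num) 11 (by norm_num) (by decide)) h.th4).2.2.2.1 h.th6_3 h.th7_31
    have h2 : T 11 * T 1 * T 6 * T 13 * T 16 * T 19 * T 22 = T 1 * T 6 * T 11 * T 13 * T 16 * T 19 * T 22 := by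
      have e1 := h.cox.cm 11 (by norm_num) 1 (by norm_num) (by decide)
      have e2 := h.cox.cm 11 (by norm_num) 6 (by norm_num) (by decide)
      rw [e1, mul_assoc (T 1), e2, ← mul_assoc (T 1)]
    exact (h1.trans h2).trans (inv7 (q 1 (by norm_num)) (q 6 (by norm_num)) (q 11 (by norm_num)) (q 13 (by norm_num))
      (h.sq 16 (by norm_num) (by norm_num)) (h.sq 19 (by norm_num) (by norm_num))
      (h.sq 22 (by norm_num) (by norm_num)) (one_mul 1) h.cen3)
  f3b := by
    have q := h.cox.sq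
    have h1 := c9_eq (s := fun i => T (sg 11 12 13 6 7 1 i)) (valid_of_good (by decide +kernel) h.cox)
      (t4 := T 16) (t6 := T 19) (t7 := T 22)
      (perm4 (h.cox.cm 1 (by norm_num) 6 (by norm_num) (by decide)) (h.cox.cm 1 (by norm_num) 11 (by norm_num)
        (by decide)) (h.cox.cm 6 (by norm_num) 11 (by norm_num) (by decide)) h.th4).2.2.2.2 h.th6_3 h.th7_32
    have h2 : T 11 * T 6 * T 1 * T 13 * T 16 * T 19 * T 22 = T 1 * T 6 * T 11 * T 13 * T 16 * T 19 * T 22 := by
      have e1 := h.cox.cm 6 (by norm_num) 1 (by norm_num) (by decide)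
      have e2 := h.cox.cm 11 (by norm_num) 1 (by norm_num) (by decide)
      have e3 := h.cox.cm 11 (by norm_num) 6 (by norm_num) (by decide)
      rw [mul_assoc (T 11), e1, ← mul_assoc (T 11), e2, mul_assoc (T 1), e3, ← mul_assoc (T 1)]
    exact (h1.trans h2).trans (inv7 (q 1 (by norm_num)) (q 6 (by norm_num)) (q 11 (by norm_num)) (q 13 (by norm_num))
      (h.sq 16 (by norm_num) (by norm_num)) (h.sq 19 (by norm_num) (by norm_num))
      (h.sq 22 (by norm_num) (by norm_num)) (one_mul 1) h.cen3)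

end NodeRel

end Cfsg.Agent.MonsterP.NodesRel
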