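import Cfsg.Agent.MonsterP.NodesCox

/-!
# The element `ζ` of order 3

`ζ = T 5 * T 14`; it is inverted by the nodes `0 .. 12`, it is the value of the word `zW` (the square of
`T 23 * T 12`, `T 23` = the conjugate of `T 12` by the word `pW`), and `(T 13 * ζ) ^ 3 = 1`.
-/

set_option autoImplicit false

namespace Cfsg.Agent.MonsterP.NodesZeta

open Cfsg.Agent.Bimonster Cfsg.Agent.Bimonster.Tits

variable {G : Type*} [Group G]

/-- the identities for `ζ` -/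
structure ZetaRel (T : ℕ → G) : Prop where
  cox : CoxRel 14 T
  th4 : T 0 * T 16 * T 0 = T 11 * T 6 * T 1 * T 0 * T 1 * T 6 * T 11
  th6_1 : T 2 * T 17 * T 2 = T 16 * T 3 * T 1 * T 2 * T 1 * T 3 * T 16
  th6_2 : T 7 * T 18 * T 7 = T 16 * T 8 * T 6 * T 7 * T 6 * T 8 * T 16
  sq : ∀ i, 14 ≤ i → i < 24 → T i * T i = 1
  u_5 : T 5 * T 14 * T 5 = T 14 * T 5 * T 14
  u_x : ∀ i ∈ [0, 1, 2, 3, 6, 7, 8, 9, 10, 11, 12], T i * T 14 * T i = T 5 * T 14 * T 5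
  u_4 : T 4 * (T 5 * T 14 * T 10 * (T 5 * T 14)⁻¹) * T 4 = T 10 * (T 5 * T 14 * T 10 * (T 5 * T 14)⁻¹) * T 10
  e_eq : T 5 * T 13 = T 15
  e_u : T 15 * T 14 * T 15 = T 14 * T 15 * T 14
  x_eq : T 23 = T 18 * T 9 * T 17 * T 4 * T 7 * T 17 * T 2 * T 18 * T 11 * T 12 *
    (T 18 * T 9 * T 17 * T 4 * T 7 * T 17 * T 2 * T 18 * T 11)⁻¹
  x_12 : T 12 * T 23 * T 12 = T 5 * T 14 * T 23 * (T 5 * T 14)⁻¹

namespace ZetaRel

theorem flip {t z : G} (ht : t * t = 1) (h : t * z * t = z⁻¹) : t * z⁻¹ * t = z := by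
  rw [← h]
  calc t * (t * z * t) * t = (t * t) * z * (t * t) := by group
    _ = z := by rw [ht, one_mul, mul_one]

theorem cube3 {x y : G} (hx : x * x = 1) (hy : y * y = 1) (hb : x * y * x = y * x * y) : (x * y) ^ 3 = 1 := by
  rw [pow_succ, pow_two]
  calc x * y * (x * y) * (x * y) = (x * y * x) * (y * x * y) := by group
    _ = (y * x * y) * (y * x * y) := by rw [hb]
    _ = y * x * (y * y) * x * y := by group
    _ = 1 := by rw [hy, mul_one, mul_assoc y, hx, mul_one, hy]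

theorem pW_lt : ∀ i ∈ pW, i < 13 := by decide +kernel

variable {T : ℕ → G} (h : ZetaRel T)
include h

theorem inv_lt {i : ℕ} (hi : i < 14) : (T i)⁻¹ = T i := inv_eq_of_mul_eq_one_left (h.cox.sq i hi)

theorem inv_ge {i : ℕ} (hi : 14 ≤ i) (hi' : i < 24) : (T i)⁻¹ = T i := inv_eq_of_mul_eq_one_left (h.sq i hi hi')

theorem cube : (T 5 * T 14) ^ 3 = 1 :=
  cube3 (h.cox.sq 5 (by norm_num)) (h.sq 14 (by norm_num) (by norm_num)) h.u_5

theorem zinv : (T 5 * T 14)⁻¹ = T 14 * T 5 := by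
  rw [mul_inv_rev, h.inv_lt (by norm_num : 5 < 14), h.inv_ge (by norm_num : 14 ≤ 14) (by norm_num)]

theorem inv_x {i : ℕ} (hi : i ∈ [0, 1, 2, 3, 6, 7, 8, 9, 10, 11, 12]) :
    T i * (T 5 * T 14) * T i = (T 5 * T 14)⁻¹ := by
  have h5 : T 5 * T 5 = 1 := h.cox.sq 5 (by norm_num)
  have hc : T i * T 5 = T 5 * T i := by
    have h1 : ∀ i ∈ [0, 1, 2, 3, 6, 7, 8, 9, 10, 11, 12], i < 14 ∧ adjB i 5 = false := by decide
    exact h.cox.cm i (h1 i hi).1 5 (by norm_num) (h1 i hi).2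
  rw [h.zinv]
  calc T i * (T 5 * T 14) * T i = (T i * T 5) * T 14 * T i := by group
    _ = T 5 * (T i * T 14 * T i) := by rw [hc]; group
    _ = (T 5 * T 5) * T 14 * T 5 := by rw [h.u_x i hi]; group
    _ = T 14 * T 5 := by rw [h5, one_mul]

theorem inv_5 : T 5 * (T 5 * T 14) * T 5 = (T 5 * T 14)⁻¹ := by
  rw [h.zinv, ← mul_assoc, h.cox.sq 5 (by norm_num), one_mul]

theorem inv_4 : T 4 * (T 5 * T 14) * T 4 = (T 5 * T 14)⁻¹ := by
  have h4 : T 4 * T 4 = 1 := h.cox.sq 4 (by norm_num)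
  have h10 : T 10 * T 10 = 1 := h.cox.sq 10 (by norm_num)
  have hc : T 4 * T 10 = T 10 * T 4 := h.cox.cm 4 (by norm_num) 10 (by norm_num) (by decide)
  have hz := h.inv_x (i := 10) (by decide)
  have h3 := h.cube
  have hu := h.u_4
  generalize T 5 * T 14 = z at hz h3 hu ⊢
  -- `z T₁₀ z⁻¹ = z⁻¹ T₁₀`
  have e1 : T 10 * z = z⁻¹ * T 10 := by
    rw [← hz, mul_assoc, mul_assoc, h10, mul_one]
  have e2 : z * T 10 = T 10 * z⁻¹ := by
    rw [← hz, ← mul_assoc, ← mul_assoc, h10, one_mul]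
  have e3 : z * T 10 * z⁻¹ = z⁻¹ * T 10 := by
    have h4' : z * z = z⁻¹ := by
      rw [eq_inv_iff_mul_eq_one, ← pow_two, ← pow_succ, h3]
    calc z * T 10 * z⁻¹ = T 10 * (z * z)⁻¹ := by rw [e2]; group
      _ = T 10 * z := by rw [h4', inv_inv]
      _ = z⁻¹ * T 10 := e1
  rw [e3] at hu
  -- `T₄ z⁻¹ T₁₀ T₄ = T₁₀ z⁻¹ T₁₀ T₁₀ = T₁₀ z⁻¹ = z T₁₀`
  have e4 : T 4 * z⁻¹ * T 4 * T 10 = z * T 10 := by
    calc T 4 * z⁻¹ * T 4 * T 10 = T 4 * z⁻¹ * (T 4 * T 10) := by group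
      _ = T 4 * (z⁻¹ * T 10) * T 4 := by rw [hc]; group
      _ = T 10 * z⁻¹ * (T 10 * T 10) := by rw [hu]; group
      _ = z * T 10 := by rw [h10, mul_one, e2]
  have e5 : T 4 * z⁻¹ * T 4 = z := mul_right_cancel e4
  have e6 : (T 4 * z⁻¹ * T 4)⁻¹ = z⁻¹ := by rw [e5]
  rw [mul_inv_rev, mul_inv_rev, inv_inv, h.inv_lt (by norm_num : 4 < 14), ← mul_assoc] at e6
  exact e6

/-- the nodes `0 .. 12` invert `ζ` -/
theorem inv {i : ℕ} (hi : i < 13) : T i * (T 5 * T 14) * T i = (T 5 * T 14)⁻¹ := by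
  by_cases h4 : i = 4
  · subst h4; exact h.inv_4
  · by_cases h5 : i = 5
    · subst h5; exact h.inv_5
    · apply h.inv_x
      have h1 : ∀ i < 13, i ≠ 4 → i ≠ 5 → i ∈ [0, 1, 2, 3, 6, 7, 8, 9, 10, 11, 12] := by decide
      exact h1 i hi h4 h5

theorem word {w : List ℕ} (hw : ∀ i ∈ w, i < 13) :
    ev T w * (T 5 * T 14) * (ev T w)⁻¹ = T 5 * T 14 ∨ ev T w * (T 5 * T 14) * (ev T w)⁻¹ = (T 5 * T 14)⁻¹ := by
  induction w with
  | nil => left; simp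
  | cons i w ih =>
    have hi : i < 13 := hw i (by simp)
    have h1 := h.inv hi
    have h2 : T i * (T 5 * T 14)⁻¹ * T i = T 5 * T 14 := flip (h.cox.sq i (by omega)) h1
    have h3 : ev T (i :: w) * (T 5 * T 14) * (ev T (i :: w))⁻¹ =
        T i * (ev T w * (T 5 * T 14) * (ev T w)⁻¹) * T i := by
      rw [ev_cons, mul_inv_rev, h.inv_lt (by omega : i < 14)]
      group
    rw [h3]
    rcases ih fun j hj => hw j (by simp [hj]) with h4 | h4
    · right; rw [h4, h1]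
    · left; rw [h4, h2]

theorem ev_t4 : ev T t4W = T 16 := by
  have q0 : T 0 * T 0 = 1 := h.cox.sq 0 (by norm_num)
  have h1 : T 16 = T 0 * (T 11 * T 6 * T 1 * T 0 * T 1 * T 6 * T 11) * T 0 := by
    rw [← h.th4]
    calc T 16 = (T 0 * T 0) * T 16 * (T 0 * T 0) := by rw [q0, one_mul, mul_one]
      _ = _ := by group
  rw [h1]
  simp only [t4W, ev_cons, ev_nil, mul_one, mul_assoc]

theorem ev_t6 {b c d r : ℕ} (hc : T c * T c = 1)
    (h6 : T c * T r * T c = T 16 * T d * T b * T c * T b * T d * T 16) : ev T (t6W b c d) = T r := by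
  have h1 : T r = T c * (T 16 * T d * T b * T c * T b * T d * T 16) * T c := by
    rw [← h6]
    calc T r = (T c * T c) * T r * (T c * T c) := by rw [hc, one_mul, mul_one]
      _ = _ := by group
  rw [h1]
  simp only [t6W, ev_cons, ev_append, ev_nil, mul_one, mul_assoc, List.cons_append, h.ev_t4]

theorem ev_p : ev T pW = T 18 * T 9 * T 17 * T 4 * T 7 * T 17 * T 2 * T 18 * T 11 := by
  have h1 : ev T (t6W 1 2 3) = T 17 := h.ev_t6 (h.cox.sq 2 (by norm_num)) h.th6_1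
  have h2 : ev T (t6W 6 7 8) = T 18 := h.ev_t6 (h.cox.sq 7 (by norm_num)) h.th6_2
  simp only [pW, ev_append, ev_cons, ev_nil, mul_one, List.append_assoc, List.cons_append, h1, h2, mul_assoc]

theorem ev_x : ev T pW * T 12 * (ev T pW)⁻¹ = T 23 := by
  rw [h.ev_p, h.x_eq]

theorem x_inv : T 23 * (T 5 * T 14) * T 23 = (T 5 * T 14)⁻¹ := by
  have h1 := h.inv (i := 12) (by norm_num)
  have h23 : (T 23)⁻¹ = T 23 := h.inv_ge (by norm_num) (by norm_num)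
  have h2 : (ev T pW)⁻¹ * (T 5 * T 14) * ev T pW = T 5 * T 14 ∨
      (ev T pW)⁻¹ * (T 5 * T 14) * ev T pW = (T 5 * T 14)⁻¹ := by
    rcases h.word pW_lt with h3 | h3
    · left
      calc (ev T pW)⁻¹ * (T 5 * T 14) * ev T pW =
          (ev T pW)⁻¹ * (ev T pW * (T 5 * T 14) * (ev T pW)⁻¹) * ev T pW := by rw [h3]
        _ = _ := by group
    · right
      have h4 : (T 5 * T 14) = (ev T pW * (T 5 * T 14) * (ev T pW)⁻¹)⁻¹ := by rw [h3, inv_inv]
      calc (ev T pW)⁻¹ * (T 5 * T 14) * ev T pW =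
          (ev T pW)⁻¹ * (ev T pW * (T 5 * T 14) * (ev T pW)⁻¹)⁻¹ * ev T pW := by rw [← h4]
        _ = _ := by group
  have h3 : T 23 * (T 5 * T 14) * T 23 = ev T pW * (T 12 * ((ev T pW)⁻¹ * (T 5 * T 14) * ev T pW) * T 12) *
      (ev T pW)⁻¹ := by
    nth_rw 2 [← h23]
    rw [← h.ev_x, mul_inv_rev, mul_inv_rev, inv_inv, h.inv_lt (by norm_num : 12 < 14)]
    group
  have h4 : T 12 * (T 5 * T 14)⁻¹ * T 12 = T 5 * T 14 := flip (h.cox.sq 12 (by norm_num)) h1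
  rw [h3]
  rcases h2 with h5 | h5
  · rw [h5, h1]
    have h6 : (T 5 * T 14) = ev T pW * (T 5 * T 14) * (ev T pW)⁻¹ := by
      nth_rw 2 [← h5]
      group
    calc ev T pW * (T 5 * T 14)⁻¹ * (ev T pW)⁻¹ = (ev T pW * (T 5 * T 14) * (ev T pW)⁻¹)⁻¹ := by group
      _ = _ := by rw [← h6]
  · rw [h5, h4]
    have h6 : (T 5 * T 14) = ev T pW * (T 5 * T 14)⁻¹ * (ev T pW)⁻¹ := by
      rw [← h5]
      group
    calc ev T pW * (T 5 * T 14) * (ev T pW)⁻¹ = (ev T pW * (T 5 * T 14)⁻¹ * (ev T pW)⁻¹)⁻¹ := by group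
      _ = _ := by rw [← h6]

theorem ev_z : ev T zW = T 5 * T 14 := by
  have h0 : ∀ i ∈ pW, T i * T i = 1 := fun i hi => h.cox.sq i (lt_trans (pW_lt i hi) (by norm_num))
  have h1 : ev T (pW ++ 12 :: pW.reverse ++ [12]) = T 23 * T 12 := by
    rw [ev_append, ev_append, ev_cons, ev_reverse h0, ev_cons, ev_nil, mul_one, ← mul_assoc, h.ev_x]
  unfold zW
  rw [ev_rep, h1, pow_two]
  have h2 : T 23 * T 12 * (T 23 * T 12) = T 23 * (T 12 * T 23 * T 12) := by group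
  rw [h2, h.x_12]
  have h3 : T 23 * (T 5 * T 14 * T 23 * (T 5 * T 14)⁻¹) = (T 23 * (T 5 * T 14) * T 23) * (T 5 * T 14)⁻¹ := by
    group
  rw [h3, h.x_inv]
  have h4 := h.cube
  generalize T 5 * T 14 = z at h4 ⊢
  have h5 : z * z * z = 1 := by rw [← h4, pow_succ, pow_two]
  calc z⁻¹ * z⁻¹ = z⁻¹ * z⁻¹ * (z * z * z) := by rw [h5, mul_one]
    _ = z := by group

/-- **The relations for `ζ`.** -/
theorem zrel : ZRel T where
  cube := by rw [h.ev_z, h.cube]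
  inv := fun i hi => by rw [h.ev_z, h.inv hi]
  ord := by
    rw [h.ev_z]
    have h1 : T 13 * (T 5 * T 14) = T 15 * T 14 := by
      rw [← mul_assoc, h.cox.cm 13 (by norm_num) 5 (by norm_num) (by decide), h.e_eq]
    rw [h1]
    exact cube3 (h.sq 15 (by norm_num) (by norm_num)) (h.sq 14 (by norm_num) (by norm_num)) h.e_u

end ZetaRel

end Cfsg.Agent.MonsterP.NodesZeta
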