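import Cfsg.Agent.MonsterP.NodeQ
import Cfsg.Agent.MonsterP.NodeU
import Cfsg.Agent.MonsterP.NodeTheta
import Cfsg.Agent.MonsterP.NodePairs
import Cfsg.Agent.MonsterP.NodesRel
import Cfsg.Agent.MonsterP.NodesZeta
import Cfsg.Agent.MonsterX.MainTrans

/-!
# From the kernel identities between axes to identities between involutions

`T i = W (aw i) * t₀ * (W (aw i))⁻¹` for the rows of the tables, and an identity of axes gives an identity of
conjugates.
-/

set_option autoImplicit false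

namespace Cfsg.Agent.MonsterP.NodesConj

open Cfsg.Agent.Monster.VecEngine Cfsg.Agent.Monster.VecSpace Cfsg.Agent.MonsterX.Space
open Cfsg.Agent.MonsterX Cfsg.Agent.MonsterX.Model Cfsg.Agent.MonsterX.Conc Cfsg.Agent.MonsterX.InstData
open Cfsg.Agent.MonsterX.MainTrans Cfsg.Agent.MonsterX.MainBasic
open Cfsg.Agent.MonsterP.NodeData Cfsg.Agent.MonsterP.NodeVec Cfsg.Agent.MonsterP.NodesRel

/-- What is used about the model. -/
structure Hyp (K₀ : Type) [Group K₀] : Prop where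
  P : BaseVec.Pack K₀
  hT : MTrans M
  /-- `OrdInv.inv_of ξ_sq P.tau` -/
  hI : OrdChk.Inv

variable {K₀ : Type} [Group K₀]

namespace Hyp

variable (H : Hyp K₀)
include H

theorem t₀_mem : M.t₀ ∈ M.G := C_le (H.P.hG.Q_le H.P.hR.t₀_mem)

theorem t₀_sq : M.t₀ * M.t₀ = 1 := by
  have h := H.P.hR.t₀_sq
  exact h

theorem W_mem {w : List ℕ} (h : ∀ n ∈ w, n < 46) : W w ∈ M.G := H.P.W_mem_G h

/-- A row whose involution is given by the standard word. -/
theorem T_w {i : ℕ} (h : tw i = OrdChk.ivA (aw i) (OrdChk.cat [13, 14] (aw i))) (hl : ∀ n ∈ aw i, n < 46) :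
    T i = W (aw i) * M.t₀ * (W (aw i))⁻¹ := by
  unfold T
  rw [h, OrdChk.W_ivA H.hI _ _ hl, OrdChk.cat_eq, W_append]
  rfl

/-- A row in `Q`. -/
theorem T_q {i : ℕ} (h : qC i = true) (hq : ∀ n ∈ tw i, n < 24 ∨ n = 45)
    (hc : ∀ n ∈ aw i, n < 46 ∧ n ≠ 40 ∧ n ≠ 41) : T i = W (aw i) * M.t₀ * (W (aw i))⁻¹ := by
  have h1 := qC_sound h
  have hEC : ∀ n, n < 46 → n ≠ 40 → n ≠ 41 → E n ∈ C := by
    intro n hn h0 h1
    rcases Nat.lt_or_ge n 40 with h2 | h2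
    · exact E_mem_C h2
    · exact N_le_C (ProgM.Inv.E_mem_N' (Or.inr ⟨by omega, hn⟩))
  have hw : W (aw i) ∈ C := Conc.W_mem fun n hn => hEC n (hc n hn).1 (hc n hn).2.1 (hc n hn).2.2
  have ht : T i ∈ C := by
    refine Conc.W_mem fun n hn => ?_
    rcases hq n hn with h2 | h2
    · exact hEC n (by omega) (by omega) (by omega)
    · exact hEC n (by omega) (by omega) (by omega)
  have h0 : M.t₀ ∈ C := H.P.hG.Q_le H.P.hR.t₀_mem
  have h2 : (W (aw i) * M.t₀)⁻¹ * (T i * W (aw i)) = 1 := by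
    refine BaseVec.eq_one_C H.P.hG H.P.hR H.P.hL H.P.lines ?_ ?_
    · exact C.mul_mem (C.inv_mem (C.mul_mem hw h0)) (C.mul_mem ht hw)
    · rw [LinearEquiv.mul_apply, h1]
      exact (W (aw i) * M.t₀).symm_apply_apply _
  rw [inv_mul_eq_one] at h2
  rw [h2, mul_inv_cancel_right]

theorem T_conj {i : ℕ} (hi : i < 23) : T i = W (aw i) * M.t₀ * (W (aw i))⁻¹ := by
  have h1 : ∀ i < 23, i ∈ NodeQ.rows ∨ tw i = OrdChk.ivA (aw i) (OrdChk.cat [13, 14] (aw i)) := by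
    decide +kernel
  rcases h1 i hi with h2 | h2
  · exact H.T_q (NodeQ.q_row i h2) (NodeQ.tw_Q i h2) (NodeQ.aw_C i h2)
  · exact H.T_w h2 (NodeQ.aw_lt i hi)

end Hyp

/-- The rows which are involutions with the axis `ax i`. -/
def Row (i : ℕ) : Prop := W (aw i) ∈ M.G ∧ T i = W (aw i) * M.t₀ * (W (aw i))⁻¹

namespace Hyp

variable (H : Hyp K₀)
include H

theorem row {i : ℕ} (hi : i < 23) : Row i := ⟨H.W_mem (NodeQ.aw_lt i hi), H.T_conj hi⟩

theorem T_mem {i : ℕ} (hi : Row i) : T i ∈ M.G := by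
  rw [hi.2]
  exact M.G.mul_mem (M.G.mul_mem hi.1 H.t₀_mem) (M.G.inv_mem hi.1)

theorem T_sq {i : ℕ} (hi : Row i) : T i * T i = 1 := by
  rw [hi.2]
  calc W (aw i) * M.t₀ * (W (aw i))⁻¹ * (W (aw i) * M.t₀ * (W (aw i))⁻¹) =
      W (aw i) * (M.t₀ * M.t₀) * (W (aw i))⁻¹ := by group
    _ = 1 := by rw [H.t₀_sq]; group

theorem T_inv {i : ℕ} (hi : Row i) : (T i)⁻¹ = T i := inv_eq_of_mul_eq_one_left (H.T_sq hi)

/-- **An identity of axes gives an identity of involutions.** -/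
theorem conj {i j : ℕ} (hi : Row i) (hj : Row j) {g k : V ≃ₗ[ℚ] V} (hg : g ∈ M.G) (hk : k ∈ M.G)
    (h : g (ax i) = k (ax j)) : g * T i * g⁻¹ = k * T j * k⁻¹ := by
  have h1 : (g * W (aw i)) M.a₀ = (k * W (aw j)) M.a₀ := h
  have h2 := conj_eq H.P.hG H.P.hR H.P.hL H.P.hO H.hT (M.G.mul_mem hg hi.1) (M.G.mul_mem hk hj.1) h1
  rw [hi.2, hj.2]
  calc g * (W (aw i) * M.t₀ * (W (aw i))⁻¹) * g⁻¹ = g * W (aw i) * M.t₀ * (g * W (aw i))⁻¹ := by group
    _ = k * W (aw j) * M.t₀ * (k * W (aw j))⁻¹ := h2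
    _ = _ := by group

/-- The product of the involutions of a list, the first acts first. -/
theorem TL_mem {l : List ℕ} (hl : ∀ i ∈ l, Row i) : TL l ∈ M.G := by
  induction l with
  | nil => rw [TL_nil]; exact M.G.one_mem
  | cons j l ih =>
    rw [TL_cons]
    exact M.G.mul_mem (ih fun i hi => hl i (by simp [hi])) (H.T_mem (hl j (by simp)))

/-- The form of the kernel checks. -/
theorem conjL {i j : ℕ} {l l' : List ℕ} (hi : Row i) (hj : Row j) (hl : ∀ k ∈ l, Row k) (hl' : ∀ k ∈ l', Row k)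
    (h : app l (ax i) = app l' (ax j)) : TL l * T i * (TL l)⁻¹ = TL l' * T j * (TL l')⁻¹ := by
  rw [← TL_apply, ← TL_apply] at h
  exact H.conj hi hj (H.TL_mem hl) (H.TL_mem hl') h

end Hyp

end Cfsg.Agent.MonsterP.NodesConj
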