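import Cfsg.Agent.Bimonster.Graph

/-!
# The Coxeter element of `E₇`

The ninth power of a Coxeter element of `E₇` is the product of seven orthogonal reflections: three of them are the
nodes `b, b', b''`, one is `d`, the others are the highest roots of the `D₄`, the `D₆` and the `E₇`.
Letters of the diagram: `0 = a, 1 = b, 2 = c, 3 = d, 6 = b', 7 = c', 11 = b''`.
-/

set_option autoImplicit false
set_option maxRecDepth 100000

namespace Cfsg.Agent.MonsterP.NodesCox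

open Cfsg.Agent.Bimonster Cfsg.Agent.Bimonster.Tits

/-- the letters of the diagram -/
def mem7 (i : ℕ) : Bool :=
  Nat.beq i 0 || Nat.beq i 1 || Nat.beq i 2 || Nat.beq i 3 || Nat.beq i 6 || Nat.beq i 7 || Nat.beq i 11

/-- the moves -/
def R7 : Rules where
  sq i := mem7 i
  cm i j := mem7 i && mem7 j && !adjB i j
  br i j := mem7 i && mem7 j && adjB i j

/-- the Coxeter element -/
def cW : List ℕ := [0, 1, 6, 11, 2, 7, 3]

/-- the highest root of the `D₆` -/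
def r6W : List ℕ := t6W 1 2 3

/-- the highest root of the `E₇` -/
def r7W : List ℕ := 7 :: r6W ++ (t4W ++ (6 :: 7 :: 6 :: t4W ++ (r6W ++ [7])))

/-- the product of the seven reflections -/
def sevenW : List ℕ := 1 :: 6 :: 11 :: 3 :: t4W ++ (r6W ++ r7W)

/-- the certificate -/
def cert : List ℕ := [
  184, 186, 166, 169, 172, 175, 179, 183, 151, 154, 139, 124, 127, 130, 133, 136, 140, 145, 148, 151, 155, 160,
  164, 148, 151, 154, 136, 139, 142, 145, 148, 151, 155, 133, 136, 140, 127, 118, 121, 124, 128, 133, 112, 100,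
  103, 106, 109, 113, 119, 106, 109, 112, 94, 97, 101, 91, 94, 67, 70, 55, 40, 43, 46, 49, 52, 56, 61, 64, 67, 71,
  76, 79, 83, 88, 91, 95, 100, 104, 109, 113, 118, 122, 127, 130, 134, 139, 143, 148, 116, 121, 124, 127, 130, 112,
  116, 121, 124, 79, 82, 86, 91, 94, 97, 100, 103, 106, 109, 112, 116, 121, 125, 131, 136, 95, 100, 103, 106, 91,
  95, 100, 76, 79, 82, 85, 88, 91, 95, 101, 107, 112, 115, 118, 73, 77, 82, 85, 71, 76, 79, 46, 37, 40, 43, 47, 52,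
  55, 59, 65, 70, 73, 76, 80, 86, 91, 94, 61, 43, 46, 49, 52, 56, 62, 67, 70, 73, 40, 43, 34, 37, 40, 44, 49, 28,
  32, 37, 25, 10, 13, 16, 20, 26, 31, 34, 38, 43, 46, 50, 55, 58, 62, 67, 70, 74, 79, 82, 86, 91, 95, 100, 103,
  107, 112, 115, 119, 124, 127, 131, 137, 142, 145, 149, 154, 158, 163, 167, 133, 128, 134, 139, 142, 122, 127,
  130, 134, 139, 143, 148, 151, 154, 127, 118, 122, 128, 133, 136, 139, 143, 148, 91, 94, 88, 83, 89, 95, 100, 103,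
  106, 109, 112, 115, 118, 121, 97, 91, 77, 82, 85, 88, 92, 98, 103, 106, 109, 112, 82, 85, 73, 77, 82, 86, 91, 94,
  98, 103, 106, 46, 49, 52, 55, 58, 61, 65, 70, 73, 76, 79, 41, 46, 49, 52, 55, 59, 64, 67, 37, 41, 46, 49, 53, 58,
  61, 46, 13, 16, 19, 22, 25, 29, 34, 37, 41, 47, 52, 55, 58, 62, 68, 73, 76, 80, 85, 88, 91, 94, 98, 103, 107,
  113, 118, 122, 127, 130, 133, 136, 139, 143, 149, 155, 160, 58, 61, 64, 67, 70, 73, 55, 58, 50, 55, 59, 64, 67,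
  70, 74, 79, 82, 85, 88, 91, 94, 98, 103, 46, 50, 55, 59, 64, 67, 70, 74, 79, 82, 85, 88, 92, 97, 43, 38, 44, 49,
  52, 55, 59, 64, 67, 70, 74, 79, 82, 86, 91, 94, 98, 104, 109, 112, 115, 118, 121, 124, 128, 133, 106, 100, 49,
  52, 46, 40, 34, 37, 41, 47, 53, 58, 61, 64, 67, 70, 74, 80, 85, 88, 91, 94, 97, 101, 107, 112, 115, 118, 122,
  127, 112, 115, 109, 103, 61, 64, 67, 70, 73, 58, 61, 64, 55, 58, 49, 52, 43, 46, 13, 16, 19, 22, 25, 28, 31, 34,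
  37, 40, 43, 47, 53, 59, 65, 70, 74, 79, 82, 85, 88, 91, 94, 97, 100, 104, 110, 116, 121, 124, 128, 134, 139, 142,
  112, 70, 73, 67, 28, 23, 29, 34, 37, 40, 43, 46, 49, 52, 55, 58, 62, 68, 74, 79, 82, 85, 88, 91, 58, 61, 31, 25,
  19, 22, 26, 32, 37, 40, 43, 46, 49, 53, 58, 62, 67, 70, 74, 79, 82, 49, 52, 55, 16, 19, 7, 11, 16, 20, 25, 28,
  32, 37, 40, 44, 49, 52, 56, 61, 64, 67, 70, 74, 79, 83, 88, 92, 97, 100, 103, 107, 113, 118, 121, 97, 100, 64,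
  34, 37, 40, 31, 34, 25, 7, 10, 13, 16, 19, 22, 26, 31, 35, 41, 46, 49, 52, 55, 59, 65, 70, 73, 76, 22, 25, 28, 2,
  7, 10, 13, 17, 22, 25, 29, 34, 37, 41, 46, 49, 53, 58, 61, 65, 70, 73, 77, 82, 85, 88, 92, 97, 101, 106, 109,
  113, 118, 122, 127, 130, 134, 139, 143, 148, 151, 155, 161, 166, 170, 175, 178, 180, 172, 175, 177, 164, 169,
  172, 174, 157, 160, 152, 146, 151, 155, 161, 118, 121, 124, 115, 110, 116, 121, 125, 130, 133, 136, 104, 109,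
  112, 116, 121, 125, 130, 133, 137, 142, 145, 148, 151, 154, 139, 109, 100, 104, 110, 115, 118, 121, 125, 130,
  133, 97, 100, 103, 94, 89, 95, 100, 104, 109, 112, 115, 118, 121, 125, 130, 134, 140, 145, 112, 115, 109, 100,
  103, 85, 88, 91, 94, 97, 100, 104, 110, 116, 121, 124, 127, 100, 103, 94, 80, 85, 88, 91, 95, 100, 104, 109, 112,
  116, 121, 124, 128, 133, 136, 140, 146, 151, 155, 160, 164, 169, 171, 158, 163, 166, 168, 154, 158, 163, 165,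
  149, 154, 157, 160, 162, 142, 145, 137, 131, 136, 140, 146, 151, 154, 157, 159, 134, 139, 142, 146, 151, 154,
  156, 153, 124, 127, 109, 85, 88, 76, 80, 85, 89, 94, 97, 100, 104, 110, 115, 118, 121, 124, 128, 133, 136, 139,
  142, 146, 150, 147, 144, 73, 76, 79, 82, 85, 88, 91, 68, 73, 76, 79, 82, 85, 64, 68, 73, 76, 79, 61, 64, 68, 73,
  58, 61, 55, 50, 56, 62, 67, 70, 74, 80, 86, 92, 97, 100, 103, 106, 109, 112, 115, 118, 121, 94, 97, 100, 88, 91,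
  82, 85, 46, 49, 52, 55, 58, 61, 65, 43, 46, 34, 38, 43, 47, 52, 55, 59, 64, 68, 73, 76, 79, 82, 86, 92, 97, 101,
  106, 109, 112, 115, 118, 122, 127, 130, 133, 136, 139, 141, 138, 135, 132, 128, 132, 129, 124, 127, 130, 133,
  135, 132, 129, 126, 73, 76, 79, 52, 32, 37, 40, 43, 47, 53, 58, 61, 64, 68, 73, 76, 80, 85, 88, 92, 97, 101, 106,
  109, 112, 115, 118, 85, 40, 43, 46, 37, 28, 32, 38, 43, 47, 52, 55, 58, 61, 64, 68, 73, 76, 80, 86, 91, 94, 97,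
  101, 106, 91, 94, 88, 82, 25, 28, 31, 34, 37, 40, 22, 25, 28, 19, 14, 20, 25, 29, 34, 37, 41, 46, 49, 52, 55, 58,
  61, 64, 68, 73, 76, 79, 83, 89, 95, 100, 103, 107, 53, 58, 61, 64, 67, 70, 73, 49, 53, 58, 61, 64, 67, 46, 49,
  53, 58, 61, 37, 40, 43, 46, 34, 37, 40, 25, 28, 31, 34, 10, 13, 16, 19, 22, 25, 28, 31, 35, 41, 47, 52, 55, 58,
  62, 68, 74, 79, 82, 85, 88, 91, 94, 98, 76, 79, 70, 31, 34, 37, 40, 43, 46, 50, 55, 25, 28, 31, 19, 22, 5, 10,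
  13, 16, 19, 23, 28, 32, 37, 40, 44, 49, 52, 56, 61, 64, 67, 71, 76, 80, 85, 88, 92, 97, 101, 106, 110, 115, 119,
  123, 120, 117, 112, 114, 104, 109, 111, 106, 108, 100, 103, 105, 97, 100, 102, 94, 97, 99, 89, 94, 96, 91, 93,
  83, 88, 91, 93, 85, 79, 82, 86, 90, 88, 90, 74, 52, 55, 58, 61, 64, 67, 47, 52, 55, 58, 61, 64, 68, 73, 77, 82,
  71, 76, 64, 43, 47, 52, 55, 58, 61, 65, 70, 73, 77, 83, 88, 91, 93, 90, 87, 85, 87, 79, 83, 88, 90, 73, 68, 74,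
  79, 82, 85, 88, 91, 93, 85, 52, 55, 58, 37, 40, 43, 47, 52, 55, 59, 64, 67, 70, 73, 76, 80, 86, 90, 73, 76, 79,
  67, 70, 61, 64, 28, 31, 34, 37, 40, 43, 47, 52, 55, 58, 61, 65, 71, 76, 80, 85, 87, 83, 88, 90, 76, 73, 77, 82,
  85, 87, 82, 85, 87, 79, 67, 70, 73, 76, 80, 84, 82, 84, 49, 52, 55, 58, 61, 64, 67, 70, 73, 76, 79, 82, 85, 88,
  90, 87, 84, 81, 46, 49, 52, 55, 43, 34, 37, 40, 44, 49, 52, 56, 61, 64, 67, 70, 37, 31, 34, 38, 43, 19, 22, 25,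
  29, 16, 19, 23, 28, 32, 37, 40, 44, 49, 52, 56, 61, 40, 43, 46, 49, 35, 40, 43, 19, 22, 25, 28, 14, 19, 22, 25,
  29, 34, 37, 40, 44, 50, 55, 58, 62, 67, 71, 76, 78, 75, 72, 20, 25, 28, 31, 35, 40, 43, 46, 49, 53, 22, 25, 29,
  34, 16, 19, 23, 28, 31, 35, 40, 43, 47, 52, 56, 61, 64, 67, 69, 66, 61, 63, 58, 60, 57, 54, 51, 48, 31, 34, 37,
  40, 43, 45, 42, 39, 36, 32, 36, 33, 28, 31, 34, 37, 39, 36, 33, 30, 23, 27, 24, 21, 18, 8, 13, 15, 10, 12, 9, 6,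
  3, 0]

theorem cert_ok : run R7 cert 0 (rep 9 cW ++ sevenW.reverse) = some (87, []) := by
  decide +kernel

variable {G : Type*} [Group G]

theorem mem7_lt {i : ℕ} (h : mem7 i = true) : i = 0 ∨ i = 1 ∨ i = 2 ∨ i = 3 ∨ i = 6 ∨ i = 7 ∨ i = 11 := by
  unfold mem7 at h
  simp only [Bool.or_eq_true, Nat.beq_eq] at h
  omega

theorem c9 {s : ℕ → G} (h : Valid R7 s 1) : ev s cW ^ 9 = ev s sevenW := by
  rw [← ev_rep]
  refine eq_of_run_reverse h (fun i hi => ?_) cert_ok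
  have h1 : (sevenW.all mem7) = true := by decide +kernel
  exact h.sq i (List.all_eq_true.1 h1 i hi)

/-- **The product of the seven reflections.** -/
theorem c9_eq {s : ℕ → G} (h : Valid R7 s 1) {t4 t6 t7 : G}
    (h4 : s 0 * t4 * s 0 = s 11 * s 6 * s 1 * s 0 * s 1 * s 6 * s 11)
    (h6 : s 2 * t6 * s 2 = t4 * s 3 * s 1 * s 2 * s 1 * s 3 * t4)
    (h7 : s 7 * t7 * s 7 = t6 * t4 * s 6 * s 7 * s 6 * t4 * t6) :
    ev s cW ^ 9 = s 1 * s 6 * s 11 * s 3 * t4 * t6 * t7 := by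
  have q0 : s 0 * s 0 = 1 := h.sq 0 rfl
  have q2 : s 2 * s 2 = 1 := h.sq 2 rfl
  have q7 : s 7 * s 7 = 1 := h.sq 7 rfl
  have key : ∀ a x y : G, a * a = 1 → a * x * a = y → a * y * a = x := by
    intro a x y ha hx
    rw [← hx]
    calc a * (a * x * a) * a = (a * a) * x * (a * a) := by group
      _ = x := by rw [ha, one_mul, mul_one]
  have e4 : ev s t4W = t4 := by
    rw [← key _ _ _ q0 h4]
    simp only [t4W, ev_cons, ev_nil, mul_one, mul_assoc]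
  have e6 : ev s r6W = t6 := by
    rw [← key _ _ _ q2 h6]
    simp only [r6W, t6W, ev_cons, ev_append, ev_nil, mul_one, mul_assoc, List.cons_append, e4]
  have e7 : ev s r7W = t7 := by
    rw [← key _ _ _ q7 h7]
    simp only [r7W, ev_cons, ev_append, ev_nil, mul_one, mul_assoc, List.cons_append, e4, e6]
  rw [c9 h]
  simp only [sevenW, ev_cons, ev_append, List.cons_append, e4, e6, e7, mul_assoc]

end Cfsg.Agent.MonsterP.NodesCox
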