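/-
Generation of the Monster of the 196884-model: a subgroup of `G` containing the stabilisers of two axes
`s₁, s₂ ∈ S` with inner product `1` is `G`.
-/
import Cfsg.Agent.MonsterX.MainTrans

set_option autoImplicit false

namespace Cfsg.Agent.MonsterP.NodesGen

open Cfsg.Agent.MonsterX.Model Cfsg.Agent.MonsterX.MainBasic Cfsg.Agent.MonsterX.MainTrans

variable {W : Type} [AddCommGroup W] [Module ℚ W] {M : MData W} {K₀ : Type} [Group K₀]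

/-- the stabiliser in `G` of the vector `s` is contained in `H` -/
def St (M : MData W) (H : Subgroup (W ≃ₗ[ℚ] W)) (s : W) : Prop := ∀ g ∈ M.G, g s = s → g ∈ H

/-- `C` is transitive on the pairs of members of `S` with inner product `1` -/
def Tr (M : MData W) : Prop :=
  ∀ c ∈ M.S, M.F c M.a₀ = 1 → ∀ c' ∈ M.S, M.F c' M.a₀ = 1 → ∃ g ∈ M.C, g M.a₀ = M.a₀ ∧ g c = c'

theorem inv_fix {g : W ≃ₗ[ℚ] W} {x : W} (h : g x = x) : g⁻¹ x = x := (eq_inv_apply g h).symm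

theorem St.conj {H : Subgroup (W ≃ₗ[ℚ] W)} {s : W} (h : St M H s) {k : W ≃ₗ[ℚ] W} (hk : k ∈ M.G) (hkH : k ∈ H) :
    St M H (k s) := by
  intro g hg hgs
  have h1 : k⁻¹ * g * k ∈ H := by
    apply h _ (M.G.mul_mem (M.G.mul_mem (M.G.inv_mem hk) hg) hk)
    rw [LinearEquiv.mul_apply, LinearEquiv.mul_apply, hgs, inv_apply']
  have h2 : g = k * (k⁻¹ * g * k) * k⁻¹ := by group
  rw [h2]
  exact H.mul_mem (H.mul_mem hkH h1) (H.inv_mem hkH)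

theorem tr' (hR : MRep M) (tr : Tr M) {s : W} (hs : s ∈ M.S) {c c' : W} (hc : c ∈ M.S) (h : M.F c s = 1)
    (hc' : c' ∈ M.S) (h' : M.F c' s = 1) : ∃ g ∈ M.C, g s = s ∧ g c = c' := by
  obtain ⟨k, hk, rfl⟩ := hs
  have e : ∀ x, M.F (k⁻¹ x) M.a₀ = M.F x (k M.a₀) := by
    intro x
    rw [← hR.C_isom k hk, apply_inv']
  obtain ⟨g, hg, h1, h2⟩ := tr (k⁻¹ c) (C_S (M.C.inv_mem hk) hc) (by rw [e, h]) (k⁻¹ c')
    (C_S (M.C.inv_mem hk) hc') (by rw [e, h'])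
  refine ⟨k * g * k⁻¹, M.C.mul_mem (M.C.mul_mem hk hg) (M.C.inv_mem hk), ?_, ?_⟩
  · rw [LinearEquiv.mul_apply, LinearEquiv.mul_apply, inv_apply', h1]
  · rw [LinearEquiv.mul_apply, LinearEquiv.mul_apply, h2, apply_inv']

section

variable (hR : MRep M) (hL : MLat M) (tr : Tr M) {H : Subgroup (W ≃ₗ[ℚ] W)}
include hR tr

/-- from one neighbour of `s` to all -/
theorem step {s c : W} (hs : s ∈ M.S) (h : St M H s) (hc : c ∈ M.S) (hsc : M.F c s = 1) (hSc : St M H c) {c' : W}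
    (hc' : c' ∈ M.S) (hsc' : M.F c' s = 1) : St M H c' := by
  obtain ⟨g, hg, h1, h2⟩ := tr' hR tr hs hc hsc hc' hsc'
  rw [← h2]
  exact hSc.conj (C_le hg) (h g (C_le hg) h1)

include hL

theorem all {s₁ s₂ : W} (h₁ : s₁ ∈ M.S) (h₂ : s₂ ∈ M.S) (h : M.F s₂ s₁ = 1) (H₁ : St M H s₁) (H₂ : St M H s₂) :
    ∀ s ∈ M.S, St M H s ∧ ∃ c ∈ M.S, M.F c s = 1 ∧ St M H c := by
  have hp : ∀ a c, a ∈ M.S → c ∈ M.S → M.F c a = 1 → (St M H a ∧ ∃ b ∈ M.S, M.F b a = 1 ∧ St M H b) →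
      St M H c ∧ ∃ b ∈ M.S, M.F b c = 1 ∧ St M H b := by
    rintro a c ha hc hac ⟨hSa, b, hb, hab, hSb⟩
    exact ⟨step hR tr ha hSa hb hab hSb hc hac, a, ha, by rw [hR.F_symm, hac], hSa⟩
  have h0 : St M H M.a₀ ∧ ∃ b ∈ M.S, M.F b M.a₀ = 1 ∧ St M H b := by
    have key : ∀ a, Relation.ReflTransGen (fun a c => c ∈ M.S ∧ M.F c a = 1) a s₁ → a ∈ M.S →
        St M H a ∧ ∃ b ∈ M.S, M.F b a = 1 ∧ St M H b := by
      intro a ha
      induction ha using Relation.ReflTransGen.head_induction_on with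
      | refl => intro _; exact ⟨H₁, s₂, h₂, h, H₂⟩
      | head h' _ ih =>
        intro haS
        exact hp _ _ h'.1 haS (by rw [hR.F_symm, h'.2]) (ih h'.1)
    exact key _ (hL.conn s₁ h₁) a₀_mem_S
  intro s hs
  have h1 := hL.conn s hs
  clear hs
  induction h1 with
  | refl => exact h0
  | @tail b c h2 h3 ih =>
    have hb : b ∈ M.S := by
      rcases Relation.ReflTransGen.cases_tail h2 with h4 | ⟨_, _, h4⟩
      · rw [h4]; exact a₀_mem_S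
      · exact h4.1
    exact hp b c hb h3.1 h3.2 ih

/-- **Generation.** -/
theorem G_le (tri : ∃ b ∈ M.S, ∃ c ∈ M.S, M.F b M.a₀ = 1 ∧ M.F c M.a₀ = 1 ∧ M.F b c = 1) (hτ : M.τ M.a₀ = M.a₀)
    {s₁ s₂ : W} (h₁ : s₁ ∈ M.S) (h₂ : s₂ ∈ M.S) (h : M.F s₂ s₁ = 1) (H₁ : St M H s₁) (H₂ : St M H s₂) :
    M.G ≤ H := by
  have hall := all hR hL tr h₁ h₂ h H₁ H₂
  have htri : ∀ a ∈ M.S, ∀ c ∈ M.S, M.F c a = 1 → ∃ b ∈ M.S, M.F b a = 1 ∧ M.F b c = 1 := by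
    intro a ha c hc hac
    obtain ⟨k, hk, rfl⟩ := ha
    obtain ⟨b, hb, c₀, hc₀, e1, e2, e3⟩ := tri
    obtain ⟨g, hg, h4, h5⟩ := tr' hR tr ⟨k, hk, rfl⟩ (C_S hk hc₀) (by rw [hR.C_isom k hk, e2]) hc hac
    refine ⟨g (k b), C_S hg (C_S hk hb), ?_, ?_⟩
    · rw [← h4, hR.C_isom g hg, hR.C_isom k hk, e1]
    · rw [← h5, hR.C_isom g hg, hR.C_isom k hk, e3]
  have htrans : ∀ s ∈ M.S, ∃ g ∈ M.C, g ∈ H ∧ g M.a₀ = s := by
    intro s hs
    have h1 := hL.conn s hs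
    clear hs
    induction h1 with
    | refl => exact ⟨1, M.C.one_mem, H.one_mem, rfl⟩
    | @tail b c h2 h3 ih =>
      have hb : b ∈ M.S := by
        rcases Relation.ReflTransGen.cases_tail h2 with h4 | ⟨_, _, h4⟩
        · rw [h4]; exact a₀_mem_S
        · exact h4.1
      obtain ⟨g, hg, hgH, hgb⟩ := ih
      obtain ⟨d, hd, hdb, hdc⟩ := htri b hb c h3.1 h3.2
      obtain ⟨k, hk, h4, h5⟩ := tr' hR tr hd hb (by rw [hR.F_symm, hdb]) h3.1 (by rw [hR.F_symm, hdc])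
      refine ⟨k * g, M.C.mul_mem hk hg, H.mul_mem ((hall d hd).1 k (C_le hk) h4) hgH, ?_⟩
      rw [LinearEquiv.mul_apply, hgb, h5]
  have hC : M.C ≤ H := by
    intro g hg
    obtain ⟨k, hk, hkH, hka⟩ := htrans (g M.a₀) ⟨g, hg, rfl⟩
    have h1 : k⁻¹ * g ∈ H := (hall _ a₀_mem_S).1 _ (C_le (M.C.mul_mem (M.C.inv_mem hk) hg)) (by
      rw [LinearEquiv.mul_apply, ← hka, inv_apply'])
    have h2 : g = k * (k⁻¹ * g) := by group
    rw [h2]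
    exact H.mul_mem hkH h1
  have hτ' : M.τ ∈ H := (hall _ a₀_mem_S).1 _ τ_mem hτ
  unfold MData.G
  rw [Subgroup.closure_le]
  rintro x (hx | hx)
  · exact hC hx
  · rw [Set.mem_singleton_iff] at hx
    rw [hx]; exact hτ'

end

/-- The stabiliser of the axis of a conjugate of `t₀` whose centraliser is in `H`. -/
theorem St_of_cent (hG : MGroup M K₀) (hR : MRep M) (hL : MLat M) (hO : MOrbit M) (hT : MTrans M)
    {H : Subgroup (W ≃ₗ[ℚ] W)} {g : W ≃ₗ[ℚ] W} (hg : g ∈ M.G)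
    (h : ∀ k ∈ M.G, k * (g * M.t₀ * g⁻¹) = g * M.t₀ * g⁻¹ * k → k ∈ H) : St M H (g M.a₀) := by
  intro k hk hk'
  apply h k hk
  have h1 := comm_t₀ hG hR hL hO hT (M.G.mul_mem (M.G.mul_mem (M.G.inv_mem hg) hk) hg) (by
    rw [LinearEquiv.mul_apply, LinearEquiv.mul_apply, hk', inv_apply'])
  calc k * (g * M.t₀ * g⁻¹) = g * (g⁻¹ * k * g * M.t₀) * g⁻¹ := by group
    _ = g * (M.t₀ * (g⁻¹ * k * g)) * g⁻¹ := by rw [h1]
    _ = g * M.t₀ * g⁻¹ * k := by group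

end Cfsg.Agent.MonsterP.NodesGen
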