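import Cfsg.Agent.Bimonster.Graph

/-!
# The relations of the nodes are reflected by an injective homomorphism
-/

set_option autoImplicit false

namespace Cfsg.Agent.MonsterP.NodesRefl

open Cfsg.Agent.Bimonster Cfsg.Agent.Bimonster.Tits

variable {G H : Type*} [Group G] [Group H] {f : G →* H} {t : ℕ → G}

theorem cox_of_map (hf : Function.Injective f) {n : ℕ} (h : CoxRel n fun i => f (t i)) : CoxRel n t where
  sq i hi := hf (by rw [map_mul, map_one]; exact h.sq i hi)
  cm i hi j hj ha := hf (by rw [map_mul, map_mul]; exact h.cm i hi j hj ha)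
  br i hi j hj ha := hf (by simp only [map_mul]; exact h.br i hi j hj ha)

theorem prel_of_map (hf : Function.Injective f) (h : PRel fun i => f (t i)) : PRel t where
  cox := cox_of_map hf h.cox
  spider := hf (by rw [map_pow, map_ev, h.spider, map_one])
  f1a := hf (by rw [map_pow, map_ev]; exact h.f1a)
  f1b := hf (by rw [map_pow, map_ev]; exact h.f1b)
  f2a := hf (by rw [map_pow, map_ev]; exact h.f2a)
  f2b := hf (by rw [map_pow, map_ev]; exact h.f2b)
  f3a := hf (by rw [map_pow, map_ev, h.f3a, map_one])
  f3b := hf (by rw [map_pow, map_ev, h.f3b, map_one])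

theorem zrel_of_map (hf : Function.Injective f) (h : ZRel fun i => f (t i)) : ZRel t where
  cube := hf (by rw [map_pow, map_ev, h.cube, map_one])
  inv i hi := hf (by rw [map_mul, map_mul, map_ev, map_inv, map_ev]; exact h.inv i hi)
  ord := hf (by rw [map_pow, map_mul, map_ev, h.ord, map_one])

end Cfsg.Agent.MonsterP.NodesRefl
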