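import Cfsg.Agent.MonsterP.NodesInst
import Cfsg.Agent.MonsterP.NodesRefl
import Cfsg.Agent.MonsterP.NodeSpider

/-!
# The nodes of the presentation as elements of the group of the model

`y H i : M.G` : the involution `T i`; `prel`, `zrel` : the relations; `y_conj` : the word form.
-/

set_option autoImplicit false

namespace Cfsg.Agent.MonsterP.NodesGrp

open Cfsg.Agent.Monster.VecEngine Cfsg.Agent.Monster.VecSpace Cfsg.Agent.MonsterX.Space
open Cfsg.Agent.MonsterX Cfsg.Agent.MonsterX.Model Cfsg.Agent.MonsterX.Conc Cfsg.Agent.MonsterX.InstData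
open Cfsg.Agent.MonsterP.NodeData Cfsg.Agent.MonsterP.NodeVec Cfsg.Agent.MonsterP.NodesConj
open Cfsg.Agent.Bimonster Cfsg.Agent.Bimonster.Tits

theorem tw_lt30 : ∀ i < 30, ∀ n ∈ tw i, n < 46 := by decide +kernel

theorem twT_length : twT.length = 30 := by decide +kernel

theorem tw_lt (i : ℕ) : ∀ n ∈ tw i, n < 46 := by
  by_cases h : i < 30
  · exact tw_lt30 i h
  · have e : tw i = [] := by
      unfold tw
      rw [CertVec.nth_eq, List.getD_eq_default _ _ (by rw [twT_length]; omega)]
    rw [e]
    simp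

variable {K₀ : Type} [Group K₀] (H : Hyp K₀)

/-- The involution of a node. -/
noncomputable def y (i : ℕ) : M.G := ⟨T i, H.W_mem (tw_lt i)⟩

theorem y_coe (i : ℕ) : (y H i : V ≃ₗ[ℚ] V) = T i := rfl

include H in
theorem prelT : PRel T := NodesInst.prel H (NodeSpider.spider H.P (NodesInst.cox H) (NodesInst.th4 H))

include H in
theorem zrelT : ZRel T := NodesInst.zrel H

/-- **The relations `PRel`.** -/
theorem prel : PRel (y H) := NodesRefl.prel_of_map (f := M.G.subtype) M.G.subtype_injective (prelT H)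

/-- **The relations `ZRel`.** -/
theorem zrel : ZRel (y H) := NodesRefl.zrel_of_map (f := M.G.subtype) M.G.subtype_injective (zrelT H)

/-- The word form. -/
theorem y_conj {i : ℕ} (hi : i < 24) : (y H i : V ≃ₗ[ℚ] V) = W (aw i) * M.t₀ * (W (aw i))⁻¹ :=
  (NodesInst.row H hi).2

end Cfsg.Agent.MonsterP.NodesGrp
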