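import Cfsg.Agent.MonsterP.NodesConj
import Cfsg.Agent.MonsterP.NodeZ

/-!
# The nodes of the presentation in the model of the Monster

`NodesInst.prel` : the relations `PRel` for the involutions `T i`, `i < 14` (with the spider relation as hypothesis);
`NodesInst.zrel` : the relations `ZRel`.
-/

set_option autoImplicit false

namespace Cfsg.Agent.MonsterP.NodesInst

open Cfsg.Agent.Monster.VecEngine Cfsg.Agent.Monster.VecSpace Cfsg.Agent.MonsterX.Space
open Cfsg.Agent.MonsterX Cfsg.Agent.MonsterX.Model Cfsg.Agent.MonsterX.Conc Cfsg.Agent.MonsterX.InstData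
open Cfsg.Agent.MonsterX.MainTrans Cfsg.Agent.MonsterX.MainBasic
open Cfsg.Agent.MonsterP.NodeData Cfsg.Agent.MonsterP.NodeVec Cfsg.Agent.MonsterP.NodesRel
open Cfsg.Agent.MonsterP.NodesConj Cfsg.Agent.MonsterP.NodesZeta
open Cfsg.Agent.Bimonster Cfsg.Agent.Bimonster.Tits

variable {K₀ : Type} [Group K₀] (H : Hyp K₀)
include H

theorem row23 : Row 23 := by
  have h1 : ∀ n ∈ aw 23, n < 46 := by decide +kernel
  exact ⟨H.W_mem h1, H.T_w (by decide +kernel) h1⟩

theorem row {i : ℕ} (hi : i < 24) : Row i := by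
  rcases Nat.lt_or_ge i 23 with h | h
  · exact H.row h
  · rw [show i = 23 by omega]; exact row23 H

theorem mem {i : ℕ} (hi : i < 24) : T i ∈ M.G := H.T_mem (row H hi)

theorem inv {i : ℕ} (hi : i < 24) : (T i)⁻¹ = T i := H.T_inv (row H hi)

theorem sq {i : ℕ} (hi : i < 24) : T i * T i = 1 := H.T_sq (row H hi)

theorem comm_of {i j : ℕ} (hi : i < 24) (hj : j < 24) (h : T i (ax j) = ax j) : T i * T j = T j * T i := by
  have h1 := H.conj (row H hj) (row H hj) (mem H hi) M.G.one_mem (by rw [h]; rfl)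
  rw [inv_one, mul_one, one_mul, mul_inv_eq_iff_eq_mul] at h1
  exact h1

theorem braid_of {i j : ℕ} (hi : i < 24) (hj : j < 24) (h : T i (ax j) = T j (ax i)) :
    T i * T j * T i = T j * T i * T j := by
  have h1 := H.conj (row H hj) (row H hi) (mem H hi) (mem H hj) h
  rwa [inv H hi, inv H hj] at h1

omit H in
theorem adj_eq (i j : ℕ) : adj i j = adjB i j := rfl

theorem cox : CoxRel 14 T where
  sq i hi := sq H (by omega)
  cm i hi j hj ha := by
    by_cases hne : i = j
    · rw [hne]
    · rcases NodePairs.comm hi hj hne ((adj_eq i j).trans ha) with h | h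
      · exact comm_of H (by omega) (by omega) h
      · exact (comm_of H (by omega) (by omega) h).symm
  br i hi j hj ha := by
    by_cases hne : i = j
    · rw [hne]
    · exact braid_of H (by omega) (by omega) (NodePairs.join hi hj hne ((adj_eq i j).trans ha))

theorem th4 : T 0 * T 16 * T 0 = T 11 * T 6 * T 1 * T 0 * T 1 * T 6 * T 11 := by
  have h1 := H.conj (row H (i := 16) (by norm_num)) (row H (i := 0) (by norm_num)) (mem H (i := 0) (by norm_num))
    (k := T 11 * T 6 * T 1)
    (M.G.mul_mem (M.G.mul_mem (mem H (by norm_num)) (mem H (by norm_num))) (mem H (by norm_num))) NodeTheta.theta4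
  rw [inv H (i := 0) (by norm_num), mul_inv_rev, mul_inv_rev, inv H (i := 1) (by norm_num),
    inv H (i := 6) (by norm_num), inv H (i := 11) (by norm_num)] at h1
  rw [h1]
  simp only [mul_assoc]

theorem th6 {b c d r : ℕ} (hb : b < 24) (hc : c < 24) (hd : d < 24) (hr : r < 24)
    (h : T c (ax r) = T 16 (T d (T b (ax c)))) :
    T c * T r * T c = T 16 * T d * T b * T c * T b * T d * T 16 := by
  have h1 := H.conj (row H hr) (row H hc) (mem H hc) (k := T 16 * T d * T b)
    (M.G.mul_mem (M.G.mul_mem (mem H (by norm_num)) (mem H hd)) (mem H hb)) h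
  rw [inv H hc, mul_inv_rev, mul_inv_rev, inv H hb, inv H hd, inv H (i := 16) (by norm_num)] at h1
  rw [h1]
  simp only [mul_assoc]

theorem th7 {b c s r : ℕ} (hb : b < 24) (hc : c < 24) (hs : s < 24) (hr : r < 24)
    (h : T c (ax r) = T s (T 16 (T b (ax c)))) :
    T c * T r * T c = T s * T 16 * T b * T c * T b * T 16 * T s := by
  have h1 := H.conj (row H hr) (row H hc) (mem H hc) (k := T s * T 16 * T b)
    (M.G.mul_mem (M.G.mul_mem (mem H hs) (mem H (by norm_num))) (mem H hb)) h
  rw [inv H hc, mul_inv_rev, mul_inv_rev, inv H hb, inv H hs, inv H (i := 16) (by norm_num)] at h1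
  rw [h1]
  simp only [mul_assoc]

theorem nodeRel : NodeRel T where
  cox := cox H
  th4 := th4 H
  th6_1 := th6 H (by norm_num) (by norm_num) (by norm_num) (by norm_num) (NodeTheta.theta6 (k := 1) (by decide))
  th6_2 := th6 H (by norm_num) (by norm_num) (by norm_num) (by norm_num) (NodeTheta.theta6 (k := 2) (by decide))
  th6_3 := th6 H (by norm_num) (by norm_num) (by norm_num) (by norm_num) (NodeTheta.theta6 (k := 3) (by decide))
  th7_12 := th7 H (by norm_num) (by norm_num) (by norm_num) (by norm_num)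
    (NodeTheta.theta7 (k := 1) (l := 2) (by decide) (by decide) (by decide))
  th7_13 := th7 H (by norm_num) (by norm_num) (by norm_num) (by norm_num)
    (NodeTheta.theta7 (k := 1) (l := 3) (by decide) (by decide) (by decide))
  th7_21 := th7 H (by norm_num) (by norm_num) (by norm_num) (by norm_num)
    (NodeTheta.theta7 (k := 2) (l := 1) (by decide) (by decide) (by decide))
  th7_23 := th7 H (by norm_num) (by norm_num) (by norm_num) (by norm_num)
    (NodeTheta.theta7 (k := 2) (l := 3) (by decide) (by decide) (by decide))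
  th7_31 := th7 H (by norm_num) (by norm_num) (by norm_num) (by norm_num)
    (NodeTheta.theta7 (k := 3) (l := 1) (by decide) (by decide) (by decide))
  th7_32 := th7 H (by norm_num) (by norm_num) (by norm_num) (by norm_num)
    (NodeTheta.theta7 (k := 3) (l := 2) (by decide) (by decide) (by decide))
  cen1 := NodeQ.cen1
  cen2 := NodeQ.cen2
  cen3 := NodeQ.cen3
  sq i _ hi := sq H (by omega)

/-- **The relations of the presentation.** -/
theorem prel (hs : ev T spW ^ 10 = 1) : PRel T := (nodeRel H).prel hs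

theorem zetaRel : ZetaRel T where
  cox := cox H
  th4 := th4 H
  th6_1 := (nodeRel H).th6_1
  th6_2 := (nodeRel H).th6_2
  sq i _ hi := sq H hi
  u_5 := braid_of H (by norm_num) (by norm_num) NodeU.f_u
  u_x i hi := by
    have h0 : ∀ i ∈ [0, 1, 2, 3, 6, 7, 8, 9, 10, 11, 12], i < 24 ∧ i ∈ [0, 1, 2, 3, 5, 6, 7, 8, 9, 10, 11, 12] := by
      decide
    have h1 := H.conj (row H (i := 14) (by norm_num)) (row H (i := 14) (by norm_num)) (mem H (h0 i hi).1)
      (mem H (i := 5) (by norm_num)) (NodeZ.x_u (h0 i hi).2)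
    rwa [inv H (h0 i hi).1, inv H (i := 5) (by norm_num)] at h1
  u_4 := by
    have h1 := H.conj (row H (i := 10) (by norm_num)) (row H (i := 10) (by norm_num))
      (g := T 4 * (T 5 * T 14)) (k := T 10 * (T 5 * T 14))
      (M.G.mul_mem (mem H (by norm_num)) (M.G.mul_mem (mem H (by norm_num)) (mem H (by norm_num))))
      (M.G.mul_mem (mem H (by norm_num)) (M.G.mul_mem (mem H (by norm_num)) (mem H (by norm_num)))) NodeZ.e_f
    have h4 := inv H (i := 4) (by norm_num)
    have h10 := inv H (i := 10) (by norm_num)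
    calc T 4 * (T 5 * T 14 * T 10 * (T 5 * T 14)⁻¹) * T 4 =
        T 4 * (T 5 * T 14) * T 10 * ((T 4)⁻¹ * (T 5 * T 14))⁻¹ := by group
      _ = T 4 * (T 5 * T 14) * T 10 * (T 4 * (T 5 * T 14))⁻¹ := by rw [h4]
      _ = T 10 * (T 5 * T 14) * T 10 * (T 10 * (T 5 * T 14))⁻¹ := h1
      _ = T 10 * (T 5 * T 14) * T 10 * ((T 10)⁻¹ * (T 5 * T 14))⁻¹ := by rw [h10]
      _ = _ := by group
  e_eq := NodeQ.e_eq
  e_u := braid_of H (by norm_num) (by norm_num) NodeU.e_u
  x_eq := by
    have hg : T 18 * T 9 * T 17 * T 4 * T 7 * T 17 * T 2 * T 18 * T 11 ∈ M.G := by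
      refine M.G.mul_mem (M.G.mul_mem (M.G.mul_mem (M.G.mul_mem (M.G.mul_mem (M.G.mul_mem (M.G.mul_mem (M.G.mul_mem
        ?_ ?_) ?_) ?_) ?_) ?_) ?_) ?_) ?_ <;> exact mem H (by norm_num)
    have h1 := H.conj (row H (i := 12) (by norm_num)) (row H (i := 23) (by norm_num)) hg M.G.one_mem
      NodeZ.x_eq
    rw [inv_one, mul_one, one_mul] at h1
    exact h1.symm
  x_12 := by
    have h1 := H.conj (row H (i := 23) (by norm_num)) (row H (i := 23) (by norm_num)) (g := T 12)
      (k := T 5 * T 14) (mem H (by norm_num)) (M.G.mul_mem (mem H (by norm_num)) (mem H (by norm_num))) NodeZ.c_x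
    rwa [inv H (i := 12) (by norm_num)] at h1

/-- **The relations for `ζ`.** -/
theorem zrel : ZRel T := (zetaRel H).zrel

end Cfsg.Agent.MonsterP.NodesInst
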