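import Cfsg.Agent.MonsterP.Bottom
import Cfsg.Agent.MonsterP.Assembly
import Cfsg.Agent.MonsterU.Sheet3

/-!
# `π` is an isomorphism: one Morse level is enough (helper227)

`SetData` of `Assembly.lean` (the homomorphisms `α : K →* Γ`, `β : N →* Γ` from the sheet on `S`), the local
hypotheses `LocHyp` of the FIRST level (axes), and the bottom sheet of `Bottom.lean`.
-/

set_option autoImplicit false

namespace Cfsg.Agent.MonsterP.OneLevel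

open Cfsg.Agent.MonsterU Cfsg.Agent.MonsterU.Morse Cfsg.Agent.MonsterU.GlueP Cfsg.Agent.MonsterU.Local
open Cfsg.Agent.MonsterP.Bottom (Bot)

variable {Γ G X : Type*} [Group Γ] [Group G] [MulAction G X]

/-- Transitivity on the lines joining `K` to a point of `Bot`: the points of the standard line through
`v = k x₀` are of height `0` only if `v` is in the `D`-orbit of `x₀`. -/
theorem trans_of {K N Dg : Subgroup G} {τ ξ : G} (hG : Geom K N Dg τ ξ) {x₀ : X} (hτ : τ • x₀ = x₀)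
    (hT : ∀ k ∈ K, (∃ k' ∈ K, τ • k • x₀ = k' • x₀ ∨ τ⁻¹ • k • x₀ = k' • x₀) →
      ∃ d ∈ Dg, k • x₀ = d • x₀)
    (g : G) (hg : g • x₀ = x₀) (hadj : Glue.Adj K N ((1 : G) : G ⧸ K) (g : G ⧸ K)) :
    ∃ c ∈ K, c • x₀ = x₀ ∧ ∃ m ∈ N, m • x₀ = x₀ ∧ (g : G ⧸ K) = ((c * m : G) : G ⧸ K) := by
  have hτ' : τ⁻¹ • x₀ = x₀ := by rw [inv_smul_eq_iff]; exact hτ.symm
  rcases hG.adj_cases hadj with h1 | ⟨k, n, hn, h1, h2⟩
  · exact ⟨1, K.one_mem, one_smul _ _, 1, N.one_mem, one_smul _ _, by rw [← h1, mul_one]⟩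
  · have hk : k ∈ K := by
      rw [QuotientGroup.eq] at h1
      simpa using h1
    have hnx : n • x₀ = x₀ := by
      rcases hn with rfl | rfl
      · exact hτ
      · exact hτ'
    -- `k n K = g K` contains `x₀`
    rw [QuotientGroup.eq] at h2
    have h3 : n⁻¹ • k⁻¹ • x₀ = ((g⁻¹ * (k * n))⁻¹) • x₀ := by
      rw [mul_inv_rev, inv_inv, mul_smul, hg, mul_inv_rev, mul_smul]
    have h4 : ∃ k' ∈ K, τ • k⁻¹ • x₀ = k' • x₀ ∨ τ⁻¹ • k⁻¹ • x₀ = k' • x₀ := by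
      refine ⟨_, K.inv_mem h2, ?_⟩
      rcases hn with rfl | rfl
      · exact Or.inr h3
      · rw [inv_inv] at h3; exact Or.inl h3
    obtain ⟨d, hd, hkd⟩ := hT _ (K.inv_mem hk) h4
    have hc : (k * d) • x₀ = x₀ := by rw [mul_smul, ← hkd, smul_inv_smul]
    have hcK : k * d ∈ K := K.mul_mem hk (hG.D_K hd)
    have hgk : (g : G ⧸ K) = ((k * d * (d⁻¹ * n) : G) : G ⧸ K) := by
      rw [QuotientGroup.eq]
      have : g⁻¹ * (k * d * (d⁻¹ * n)) = g⁻¹ * (k * n) := by group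
      rw [this]; exact h2
    rw [hgk]
    rcases hG.mul_D hn (Dg.inv_mem hd) with h5 | ⟨d', hd', h5⟩ | ⟨d', hd', h5⟩
    · refine ⟨k * d, hcK, hc, 1, N.one_mem, one_smul _ _, ?_⟩
      rw [mul_one]
      exact mk_mul_K (hG.D_K h5)
    · refine ⟨k * d, hcK, hc, τ, hG.τ_N, hτ, ?_⟩
      rw [h5, ← mul_assoc]
      exact mk_mul_K (hG.D_K hd')
    · refine ⟨k * d, hcK, hc, τ⁻¹, N.inv_mem hG.τ_N, hτ', ?_⟩
      rw [h5, ← mul_assoc]
      exact mk_mul_K (hG.D_K hd')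

variable {π : Γ →* G} {H : Subgroup Γ} {n : Γ} {x₀ : X}

/-- `SetData` gives the inputs of `Bottom.lean`. -/
theorem inputs {D : CovData π H n x₀} {K N : Subgroup G} {S T₀ : Set X} {s : X → Γ ⧸ H}
    (W : SetData D K N S T₀ s) (hn : π n ∈ K) (hΓ : Subgroup.closure ((H : Set Γ) ∪ {n}) = ⊤)
    (hgen : Subgroup.closure ((K : Set G) ∪ N) = ⊤)
    (trans : ∀ g : G, g • x₀ = x₀ → Glue.Adj K N ((1 : G) : G ⧸ K) (g : G ⧸ K) →
      ∃ c ∈ K, c • x₀ = x₀ ∧ ∃ m ∈ N, m • x₀ = x₀ ∧ (g : G ⧸ K) = ((c * m : G) : G ⧸ K)) :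
    Bottom.Inputs π H n x₀ K N W.α W.β where
  cov := D
  gen := hΓ
  genG := hgen
  πα x h := W.π_α ⟨x, h⟩
  πβ x h := W.π_β ⟨x, h⟩
  αH := by
    intro x h hx
    obtain ⟨a, ha, rfl⟩ := D.onto x hx
    rw [W.α_of_H ha h]; exact ha
  βH := by
    intro x h hx
    obtain ⟨a, ha, rfl⟩ := D.onto x hx
    rw [W.β_of_H ha h]; exact ha
  edgeK := ⟨π n, hn, by rw [W.α_n hn, inv_mul_cancel]; exact H.one_mem⟩
  trans := trans

/-- The height is `0` exactly at the points of `Bot`. -/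
theorem ht_zero_iff {K : Subgroup G} {P : X → Prop} {h : X → ℕ} (hi : Inv K P h)
    (hz : ∀ g : G, h (g • x₀) = 0 ↔ ∃ k ∈ K, g • x₀ = k • x₀) (x : G ⧸ K) :
    ht K h x₀ x = 0 ↔ x ∈ Bot K x₀ := by
  obtain ⟨g, rfl⟩ := QuotientGroup.mk_surjective x
  rw [ht_mk hi, hz]
  constructor
  · rintro ⟨k, hk, h1⟩
    exact ⟨g * k, by rw [mul_smul, ← h1, smul_inv_smul], (mk_mul_K hk).symm⟩
  · rintro ⟨g', hg', h1⟩
    rw [QuotientGroup.eq] at h1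
    exact ⟨g⁻¹ * g', h1, by rw [mul_smul, hg']⟩

/-- **The isomorphism from one Morse level.** -/
theorem bijective {D : CovData π H n x₀} {K N : Subgroup G} {S T₀ : Set X} {s : X → Γ ⧸ H}
    (W : SetData D K N S T₀ s) (hn : π n ∈ K) (hΓ : Subgroup.closure ((H : Set Γ) ∪ {n}) = ⊤)
    (hgen : Subgroup.closure ((K : Set G) ∪ N) = ⊤)
    (unique : ∀ m ∈ K, ∀ n ∈ N, ∀ n' ∈ N, n' ∉ K → n⁻¹ * m * n' ∈ K → m ∈ N)
    {Dg : Subgroup G} {τ ξ : G} (hG : Geom K N Dg τ ξ) (hτ : τ • x₀ = x₀)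
    (h4 : ∀ a b, Pm τ a → Pm τ b → ∃ c ∈ K, ∃ m ∈ N, ∃ c' ∈ K, a * ξ * b = c * m * c' ∧
      ξ • b • x₀ ∈ T₀ ∧ c' • x₀ ∈ T₀)
    (hT : ∀ k ∈ K, (∃ k' ∈ K, τ • k • x₀ = k' • x₀ ∨ τ⁻¹ • k • x₀ = k' • x₀) →
      ∃ d ∈ Dg, k • x₀ = d • x₀)
    {P : X → Prop} {h : X → ℕ} (hi : Inv K P h) (hL : LocHyp K Dg τ ξ P h)
    (hP : ∀ g : G, P (g • x₀)) (hb : ∃ b, ∀ g : G, h (g • x₀) ≤ b)
    (hz : ∀ g : G, h (g • x₀) = 0 ↔ ∃ k ∈ K, g • x₀ = k • x₀) : Function.Bijective π := by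
  have hI := inputs W hn hΓ hgen (trans_of hG hτ hT)
  have hc := coverP W.kn unique (W.plane hG.τ_N hG.ξ_K h4)
  have hm := morse hG Sheet3.triHyp hi hL x₀
  have huniv : Pts K P x₀ = Set.univ := by
    rw [Set.eq_univ_iff_forall]
    intro x
    obtain ⟨g, rfl⟩ := QuotientGroup.mk_surjective x
    rw [mem_Pts hi]
    exact hP _
  rw [huniv] at hm
  refine hI.bijective hc hm ?_ (ht_zero_iff hi hz)
  obtain ⟨b, hb⟩ := hb
  refine ⟨b, fun x => ?_⟩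
  obtain ⟨g, rfl⟩ := QuotientGroup.mk_surjective x
  rw [ht_mk hi]
  exact hb _

end Cfsg.Agent.MonsterP.OneLevel
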