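import Cfsg.Agent.MonsterX.KModel
import Cfsg.Agent.MonsterX.KSLat
import Cfsg.Agent.MonsterP.LeechTriple

/-!
# Transitivity of `K` on adjacent pairs and on triangles of short elements

`K` (the centraliser of the central involution of the extraspecial group) is transitive on the ordered
pairs of short elements with inner product `±16`, and on the triples of type IIa.
-/

set_option autoImplicit false

namespace Cfsg.Agent.MonsterP.SChar

open Cfsg Cfsg.Agent.LeechMat.Core Cfsg.Agent.MonsterX.KSide Cfsg.Agent.MonsterX.Lat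
  Cfsg.Agent.MonsterX.KLift Cfsg.Agent.MonsterX.KSLat

variable {G V P W : Type*} [Group G] [AddCommGroup V] [Module ℚ V]
  [DistribMulAction G V] [SMulCommClass G ℚ V] [Group P] [AddCommGroup W] [Module ℚ W]
  (M : KS G V P W)

/-! ### The characters of the extraspecial group -/

/-- The commutator of `q` and `x`. -/
noncomputable def chi (_M : KS G V P W) (x q : P) : ZMod 2 := by
  classical exact if q * x * q⁻¹ = x then 0 else 1

theorem chi_eq_zero {x q : P} : chi M x q = 0 ↔ q * x * q⁻¹ = x := by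
  unfold chi
  split_ifs with h
  · exact ⟨fun _ => h, fun _ => rfl⟩
  · exact ⟨fun h' => absurd h' (by decide), fun h' => absurd h' h⟩

theorem chi_eq_one {x q : P} : chi M x q = 1 ↔ q * x * q⁻¹ = M.zc * x := by
  unfold chi
  split_ifs with h
  · refine ⟨fun h' => absurd h' (by decide), fun h' => ?_⟩
    rw [h] at h'
    exact absurd h'.symm (M.zc_ne' x)
  · exact ⟨fun _ => (M.comm_or q x).resolve_left h, fun _ => rfl⟩

theorem chi_cases (x q : P) : chi M x q = 0 ∨ chi M x q = 1 := by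
  generalize chi M x q = c
  revert c
  decide

theorem chi_mul_right (x q q' : P) : chi M x (q * q') = chi M x q + chi M x q' := by
  have e : q * q' * x * (q * q')⁻¹ = q * (q' * x * q'⁻¹) * q⁻¹ := by group
  have ez : ∀ t : P, q * (M.zc * t) * q⁻¹ = M.zc * (q * t * q⁻¹) := by
    intro t
    rw [← mul_assoc q, ← M.zc_comm q]
    group
  rcases chi_cases M x q with h | h <;> rcases chi_cases M x q' with h' | h' <;> rw [h, h']
  · rw [chi_eq_zero] at h h'
    rw [add_zero, chi_eq_zero, e, h', h]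
  · rw [chi_eq_zero] at h
    rw [chi_eq_one] at h'
    rw [zero_add, chi_eq_one, e, h', ez, h]
  · rw [chi_eq_one] at h
    rw [chi_eq_zero] at h'
    rw [add_zero, chi_eq_one, e, h', h]
  · rw [chi_eq_one] at h h'
    have : (1 : ZMod 2) + 1 = 0 := by decide
    rw [this, chi_eq_zero, e, h', ez, h, M.zc_zc]

theorem chi_mul_left (x y q : P) : chi M (x * y) q = chi M x q + chi M y q := by
  have e : q * (x * y) * q⁻¹ = (q * x * q⁻¹) * (q * y * q⁻¹) := by group
  rcases chi_cases M x q with h | h <;> rcases chi_cases M y q with h' | h' <;> rw [h, h']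
  · rw [chi_eq_zero] at h h'
    rw [add_zero, chi_eq_zero, e, h', h]
  · rw [chi_eq_zero] at h
    rw [chi_eq_one] at h'
    rw [zero_add, chi_eq_one, e, h', h, ← mul_assoc, ← M.zc_comm, mul_assoc]
  · rw [chi_eq_one] at h
    rw [chi_eq_zero] at h'
    rw [add_zero, chi_eq_one, e, h', h, mul_assoc]
  · rw [chi_eq_one] at h h'
    have : (1 : ZMod 2) + 1 = 0 := by decide
    rw [this, chi_eq_zero, e, h', h, mul_assoc, ← mul_assoc x, ← M.zc_comm x, mul_assoc, M.zc_zc]

theorem chi_one (x : P) : chi M x 1 = 0 := by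
  rw [chi_eq_zero, one_mul, inv_one, mul_one]

/-- Not central. -/
def NC (x : P) : Prop := ∃ q, chi M x q = 1

theorem exists_chi₂ {x y : P} (hx : NC M x) (hy : NC M y) (hxy : NC M (x * y)) (a b : ZMod 2) :
    ∃ q, chi M x q = a ∧ chi M y q = b := by
  obtain ⟨q₁, h₁⟩ := hx
  obtain ⟨q₂, h₂⟩ := hy
  obtain ⟨q₃, h₃⟩ := hxy
  rw [chi_mul_left] at h₃
  have key : ∀ b₁ b₂ a₃ b₃ a b : ZMod 2, a₃ + b₃ = 1 → ∃ i j k : Bool,
      (cond i 1 0 + cond j b₂ 0 + cond k a₃ 0 = a) ∧ (cond i b₁ 0 + cond j 1 0 + cond k b₃ 0 = b) := by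
    decide
  obtain ⟨i, j, k, e1, e2⟩ := key (chi M y q₁) (chi M x q₂) (chi M x q₃) (chi M y q₃) a b h₃
  refine ⟨cond i q₁ 1 * cond j q₂ 1 * cond k q₃ 1, ?_, ?_⟩
  · rw [chi_mul_right, chi_mul_right, ← e1]
    cases i <;> cases j <;> cases k <;> simp [chi_one, h₁]
  · rw [chi_mul_right, chi_mul_right, ← e2]
    cases i <;> cases j <;> cases k <;> simp [chi_one, h₂]

theorem exists_chi₃ {x y w : P} (hx : NC M x) (hy : NC M y) (hxy : NC M (x * y)) (hw : NC M w)
    (hxw : NC M (x * w)) (hyw : NC M (y * w)) (hxyw : NC M (x * y * w)) (a b c : ZMod 2) :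
    ∃ q, chi M x q = a ∧ chi M y q = b ∧ chi M w q = c := by
  obtain ⟨q₁, h₁, h₁'⟩ := exists_chi₂ M hx hy hxy 1 0
  obtain ⟨q₂, h₂, h₂'⟩ := exists_chi₂ M hx hy hxy 0 1
  -- an element with `(0,0,1)`
  have h3 : ∃ q, chi M x q = 0 ∧ chi M y q = 0 ∧ chi M w q = 1 := by
    have key : ∀ q : P, (chi M x q * chi M w q₁ + chi M y q * chi M w q₂ + chi M w q = 1) →
        ∃ q, chi M x q = 0 ∧ chi M y q = 0 ∧ chi M w q = 1 := by
      intro q hq
      rcases chi_cases M x q with h | h <;> rcases chi_cases M y q with h' | h' <;>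
        rw [h, h'] at hq
      · exact ⟨q, h, h', by simpa using hq⟩
      · refine ⟨q₂ * q, ?_, ?_, ?_⟩
        · rw [chi_mul_right, h, h₂, add_zero]
        · rw [chi_mul_right, h', h₂']; decide
        · rw [chi_mul_right]; simpa using hq
      · refine ⟨q₁ * q, ?_, ?_, ?_⟩
        · rw [chi_mul_right, h, h₁]; decide
        · rw [chi_mul_right, h', h₁', add_zero]
        · rw [chi_mul_right]; simpa using hq
      · refine ⟨q₁ * q₂ * q, ?_, ?_, ?_⟩
        · rw [chi_mul_right, chi_mul_right, h, h₁, h₂]; decide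
        · rw [chi_mul_right, chi_mul_right, h', h₁', h₂']; decide
        · rw [chi_mul_right, chi_mul_right]; simpa using hq
    rcases chi_cases M w q₁ with h | h <;> rcases chi_cases M w q₂ with h' | h'
    · obtain ⟨q, hq⟩ := hw
      exact key q (by rw [h, h', mul_zero, mul_zero, zero_add, zero_add]; exact hq)
    · obtain ⟨q, hq⟩ := hyw
      rw [chi_mul_left] at hq
      exact key q (by rw [h, h', mul_zero, mul_one, zero_add]; exact hq)
    · obtain ⟨q, hq⟩ := hxw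
      rw [chi_mul_left] at hq
      exact key q (by rw [h, h', mul_zero, mul_one, add_zero]; exact hq)
    · obtain ⟨q, hq⟩ := hxyw
      rw [chi_mul_left, chi_mul_left] at hq
      exact key q (by rw [h, h', mul_one, mul_one]; exact hq)
  obtain ⟨q₃, h₃, h₃', h₃''⟩ := h3
  have key : ∀ c₁ c₂ a b c : ZMod 2, ∃ i j k : Bool,
      (cond i 1 0 + cond j 0 0 + cond k 0 0 = a) ∧ (cond i 0 0 + cond j 1 0 + cond k 0 0 = b) ∧
      (cond i c₁ 0 + cond j c₂ 0 + cond k 1 0 = c) := by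
    decide
  obtain ⟨i, j, k, e1, e2, e3⟩ := key (chi M w q₁) (chi M w q₂) a b c
  refine ⟨cond i q₁ 1 * cond j q₂ 1 * cond k q₃ 1, ?_, ?_, ?_⟩
  · rw [chi_mul_right, chi_mul_right, ← e1]
    cases i <;> cases j <;> cases k <;> simp [chi_one, h₁, h₂, h₃]
  · rw [chi_mul_right, chi_mul_right, ← e2]
    cases i <;> cases j <;> cases k <;> simp [chi_one, h₁', h₂', h₃']
  · rw [chi_mul_right, chi_mul_right, ← e3]
    cases i <;> cases j <;> cases k <;> simp [chi_one, h₃'']

/-! ### Short elements -/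

/-- Adjacent short elements: inner product `±16`. -/
def Ad (x y : P) : Prop := dot (M.lam x) (M.lam y) = 16 ∨ dot (M.lam x) (M.lam y) = -16

theorem Ad.symm {x y : P} (h : Ad M x y) : Ad M y x := by
  unfold Ad at h ⊢
  rw [dot_comm]
  exact h

theorem ad_z_left {x y : P} : Ad M (M.zc * x) y ↔ Ad M x y := by
  unfold Ad
  rw [M.lam_z]

theorem ad_z_right {x y : P} : Ad M x (M.zc * y) ↔ Ad M x y := by
  unfold Ad
  rw [M.lam_z]

variable {M} {θ : leechLattice → P}

/-- Multiplication of short elements. -/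
theorem mul_mem' (L : Lift M θ) {x y : P} (hx : x ∈ M.Sh) (hy : y ∈ M.Sh) {u : leechLattice}
    (hu : nrm u = 32) (h : u = M.lam x - M.lam y ∨ u = M.lam x + M.lam y) :
    x * y ∈ M.Sh ∧ (M.lam (x * y) = u ∨ M.lam (x * y) = -u) := by
  obtain ⟨w, hw, huw⟩ := M.lam_surj u hu
  have h1 : Eqz M (θ u) (θ (M.lam w)) := θ_pm L huw
  have h2 : Eqz M (θ (M.lam w)) w := L.lam w hw
  have h3 : Eqz M (θ u) (θ (M.lam x) * θ (M.lam y)) := by
    rcases h with h | h
    · rw [h, sub_eq_add_neg]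
      have h4 : Eqz M (θ (M.lam x + -M.lam y)) (θ (M.lam x) * θ (-M.lam y)) := L.add _ _
      exact h4.trans ((Eqz.refl _).mul (θ_neg L _))
    · rw [h]; exact L.add _ _
  have h5 : Eqz M (θ (M.lam x) * θ (M.lam y)) (x * y) := Eqz.mul (L.lam x hx) (L.lam y hy)
  have h6 : Eqz M (x * y) w := ((h3.trans h5).symm.trans (h1.trans h2))
  have hlw : M.lam w = u ∨ M.lam w = -u := by
    rcases huw with e | e
    · exact Or.inl e.symm
    · right; rw [e, neg_neg]
  rcases h6 with e | e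
  · rw [e]; exact ⟨hw, hlw⟩
  · rw [e, M.lam_z]; exact ⟨M.Sh_z w hw, hlw⟩

theorem nrm_pm {x y : P} (hx : x ∈ M.Sh) (hy : y ∈ M.Sh) (h : Ad M x y) :
    (dot (M.lam x) (M.lam y) = 16 ∧ nrm (M.lam x - M.lam y) = 32) ∨
      (dot (M.lam x) (M.lam y) = -16 ∧ nrm (M.lam x + M.lam y) = 32) := by
  rcases h with h | h
  · left
    refine ⟨h, ?_⟩
    rw [nrm_sub, M.lam_norm x hx, M.lam_norm y hy, h]
    norm_num
  · right
    refine ⟨h, ?_⟩
    rw [nrm_add, M.lam_norm x hx, M.lam_norm y hy, h]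
    norm_num

theorem mul_mem (L : Lift M θ) {x y : P} (hx : x ∈ M.Sh) (hy : y ∈ M.Sh) (h : Ad M x y) :
    x * y ∈ M.Sh := by
  rcases nrm_pm hx hy h with ⟨-, h1⟩ | ⟨-, h1⟩
  · exact (mul_mem' L hx hy h1 (Or.inl rfl)).1
  · exact (mul_mem' L hx hy h1 (Or.inr rfl)).1

theorem mul_comm' (L : Lift M θ) {x y : P} (hx : x ∈ M.Sh) (hy : y ∈ M.Sh) (h : Ad M x y) :
    x * y = y * x := by
  have h1 : (16 : ℤ) ∣ dot (M.lam x) (M.lam y) := by
    rcases h with h | h <;> rw [h] <;> norm_num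
  rw [L.comm] at h1
  rcases L.lam x hx with e | e <;> rcases L.lam y hy with e' | e' <;> rw [e, e'] at h1
  · exact h1
  · rw [← mul_assoc, ← M.zc_comm, mul_assoc, mul_assoc] at h1
    exact mul_left_cancel h1
  · rw [mul_assoc, ← mul_assoc y, ← M.zc_comm, mul_assoc] at h1
    exact mul_left_cancel h1
  · have h2 : ∀ a b : P, M.zc * a * (M.zc * b) = a * b := by
      intro a b
      rw [mul_assoc, ← mul_assoc a, ← M.zc_comm, mul_assoc, M.zc_zc]
    rwa [h2, h2] at h1

theorem dot_mul_right (L : Lift M θ) {x y : P} (hx : x ∈ M.Sh) (hy : y ∈ M.Sh) (h : Ad M x y)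
    (v : leechLattice) :
    (dot (M.lam x) (M.lam y) = 16 ∧ (dot v (M.lam (x * y)) = dot v (M.lam x) - dot v (M.lam y) ∨
      dot v (M.lam (x * y)) = -(dot v (M.lam x) - dot v (M.lam y)))) ∨
    (dot (M.lam x) (M.lam y) = -16 ∧ (dot v (M.lam (x * y)) = dot v (M.lam x) + dot v (M.lam y) ∨
      dot v (M.lam (x * y)) = -(dot v (M.lam x) + dot v (M.lam y)))) := by
  have hadd : ∀ a b : leechLattice, dot v (a + b) = dot v a + dot v b := by
    intro a b
    show dotInt _ _ = dotInt _ _ + dotInt _ _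
    unfold dotInt
    rw [← Finset.sum_add_distrib]
    refine Finset.sum_congr rfl fun i _ => ?_
    rw [AddSubgroup.coe_add, Pi.add_apply]
    ring
  have hsub : ∀ a b : leechLattice, dot v (a - b) = dot v a - dot v b := by
    intro a b
    rw [sub_eq_add_neg, hadd, dot_neg_right, sub_eq_add_neg]
  rcases nrm_pm hx hy h with ⟨h0, h1⟩ | ⟨h0, h1⟩
  · left
    refine ⟨h0, ?_⟩
    rcases (mul_mem' L hx hy h1 (Or.inl rfl)).2 with e | e
    · left; rw [e, hsub]
    · right; rw [e, dot_neg_right, hsub]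
  · right
    refine ⟨h0, ?_⟩
    rcases (mul_mem' L hx hy h1 (Or.inr rfl)).2 with e | e
    · left; rw [e, hadd]
    · right; rw [e, dot_neg_right, hadd]

theorem dot_self' {x : P} (hx : x ∈ M.Sh) : dot (M.lam x) (M.lam x) = 32 := by
  rw [KS.dot_self, M.lam_norm x hx]

theorem ad_mul_left (L : Lift M θ) {x y : P} (hx : x ∈ M.Sh) (hy : y ∈ M.Sh) (h : Ad M x y) :
    Ad M x (x * y) := by
  have h1 := dot_self' hx
  unfold Ad
  rcases dot_mul_right L hx hy h (M.lam x) with ⟨h2, h3 | h3⟩ | ⟨h2, h3 | h3⟩ <;> rw [h3] <;> omega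

theorem ad_mul_right (L : Lift M θ) {x y : P} (hx : x ∈ M.Sh) (hy : y ∈ M.Sh) (h : Ad M x y) :
    Ad M y (x * y) := by
  have h1 := dot_self' hy
  have h4 : dot (M.lam y) (M.lam x) = dot (M.lam x) (M.lam y) := dot_comm _ _
  unfold Ad
  rcases dot_mul_right L hx hy h (M.lam y) with ⟨h2, h3 | h3⟩ | ⟨h2, h3 | h3⟩ <;> rw [h3] <;> omega

theorem nc_of_mem (L : Lift M θ) {x : P} (hx : x ∈ M.Sh) : NC M x := by
  obtain ⟨q, hq⟩ := exists_flip L x hx
  exact ⟨q, (chi_eq_one M).2 hq⟩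

/-- An element over a lattice vector which is not twice a vector is not central. -/
theorem nc_of_lift (L : Lift M θ) {x : P} {v : leechLattice} (h : Eqz M x (θ v))
    (hv : ∀ w : leechLattice, v ≠ 2 • w) : NC M x := by
  by_contra hcon
  unfold NC at hcon
  push Not at hcon
  have h1 : ∀ q, x * q = q * x := by
    intro q
    have h2 := (chi_cases M x q).resolve_right (hcon q)
    rw [chi_eq_zero] at h2
    exact (mul_inv_eq_iff_eq_mul.1 h2).symm
  have h2 : Eqz M (θ v) 1 := by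
    refine h.symm.trans ?_
    rcases L.center x h1 with h | h
    · exact Or.inl h
    · right; rw [h, mul_one]
  obtain ⟨w, hw⟩ := L.ker v (by
    rcases h2 with h | h
    · exact Or.inl h
    · right; rwa [mul_one] at h)
  exact hv w hw

theorem exists_conj₂ (L : Lift M θ) {x y x' y' : P} (hx : x ∈ M.Sh) (hy : y ∈ M.Sh) (h : Ad M x y)
    (hx' : Eqz M x' x) (hy' : Eqz M y' y) : ∃ q, q * x * q⁻¹ = x' ∧ q * y * q⁻¹ = y' := by
  obtain ⟨q, h1, h2⟩ := exists_chi₂ M (nc_of_mem L hx) (nc_of_mem L hy)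
    (nc_of_mem L (mul_mem L hx hy h)) (by classical exact if x' = x then 0 else 1)
    (by classical exact if y' = y then 0 else 1)
  refine ⟨q, ?_, ?_⟩
  · by_cases e : x' = x
    · rw [if_pos e] at h1
      rw [e]
      exact (chi_eq_zero M).1 h1
    · rw [if_neg e] at h1
      rw [hx'.resolve_left e]
      exact (chi_eq_one M).1 h1
  · by_cases e : y' = y
    · rw [if_pos e] at h2
      rw [e]
      exact (chi_eq_zero M).1 h2
    · rw [if_neg e] at h2
      rw [hy'.resolve_left e]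
      exact (chi_eq_one M).1 h2

theorem exists_conj₃ {x y w x' y' w' : P} (hx : NC M x) (hy : NC M y) (hxy : NC M (x * y))
    (hw : NC M w) (hxw : NC M (x * w)) (hyw : NC M (y * w)) (hxyw : NC M (x * y * w))
    (hx' : Eqz M x' x) (hy' : Eqz M y' y) (hw' : Eqz M w' w) :
    ∃ q, q * x * q⁻¹ = x' ∧ q * y * q⁻¹ = y' ∧ q * w * q⁻¹ = w' := by
  obtain ⟨q, h1, h2, h3⟩ := exists_chi₃ M hx hy hxy hw hxw hyw hxyw
    (by classical exact if x' = x then 0 else 1) (by classical exact if y' = y then 0 else 1)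
    (by classical exact if w' = w then 0 else 1)
  refine ⟨q, ?_, ?_, ?_⟩
  · by_cases e : x' = x
    · rw [if_pos e] at h1
      rw [e]
      exact (chi_eq_zero M).1 h1
    · rw [if_neg e] at h1
      rw [hx'.resolve_left e]
      exact (chi_eq_one M).1 h1
  · by_cases e : y' = y
    · rw [if_pos e] at h2
      rw [e]
      exact (chi_eq_zero M).1 h2
    · rw [if_neg e] at h2
      rw [hy'.resolve_left e]
      exact (chi_eq_one M).1 h2
  · by_cases e : w' = w
    · rw [if_pos e] at h3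
      rw [e]
      exact (chi_eq_zero M).1 h3
    · rw [if_neg e] at h3
      rw [hw'.resolve_left e]
      exact (chi_eq_one M).1 h3

/-! ### The action of `K` -/

/-- An element of `K` acting on `P` through `α`. -/
def ActsBy (M : KS G V P W) (k : G) (α : P ≃* P) : Prop :=
  k ∈ M.K ∧ ∃ A T, Acts M.Sh M.lam M.u M.X M.Θ M.ρ k A α T

theorem ActsBy.sh {k : G} {α : P ≃* P} (h : ActsBy M k α) {x : P} (hx : x ∈ M.Sh) : α x ∈ M.Sh := by
  obtain ⟨-, A, T, hA⟩ := h
  exact hA.act_sh x hx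

theorem ActsBy.zc {k : G} {α : P ≃* P} (L : Lift M θ) (_h : ActsBy M k α) : α M.zc = M.zc :=
  α_zc L α

theorem ActsBy.smul_a {k : G} {α : P ≃* P} (h : ActsBy M k α) {x : P} (hx : x ∈ M.Sh) :
    k • M.a x = M.a (α x) := by
  obtain ⟨-, A, T, hA⟩ := h
  have hu : M.u (M.lam (α x)) = M.u (A • M.lam x) := by
    rcases hA.act_lam x hx with h | h
    · rw [h]
    · rw [h, M.u_neg]
  rw [KS.a, KS.a, smul_add, smul_comm, hA.act_u, hA.act_X x hx, hu]

/-- correct by an element of the extraspecial group -/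
theorem ActsBy.conj (L : Lift M θ) {k : G} {α : P ≃* P} (h : ActsBy M k α) (q : P) :
    ∃ k' α', ActsBy M k' α' ∧ ∀ x, α' x = q * α x * q⁻¹ := by
  obtain ⟨hk, A, T, hA⟩ := h
  obtain ⟨A₂, α₂, T₂, hA₂⟩ := M.acts (M.ι q * k) (M.K.mul_mem (M.ι_mem q) hk)
  refine ⟨_, α₂, ⟨M.K.mul_mem (M.ι_mem q) hk, A₂, T₂, hA₂⟩, fun x => ?_⟩
  have hinj := M.ι_injective (fun p hp => L.center p (fun y => mul_inv_eq_iff_eq_mul.1 (hp y)))
  have h3 := conj_ι hA₂ x
  rw [mul_assoc, conj_ι hA, ← mul_assoc, ← mul_assoc] at h3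
  have h4 := mul_right_cancel h3
  rw [← map_mul, ← map_mul] at h4
  have h5 := hinj h4
  rw [h5, mul_inv_cancel_right]

/-- an element of `K` mapping lattice vectors as prescribed, up to sign -/
theorem exists_actsBy (M : KS G V P W) (g : Co0) : ∃ k α, ActsBy M k α ∧
    ∀ x ∈ M.Sh, ∀ y ∈ M.Sh, (g • M.lam x = M.lam y ∨ g • M.lam x = -M.lam y) → Eqz M y (α x) := by
  obtain ⟨k, hk, α, T, A', hA, hpm⟩ := exists_acts M g
  refine ⟨k, α, ⟨hk, A', T, hA⟩, fun x hx y hy h => ?_⟩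
  apply M.lam_inj (α x) (hA.act_sh x hx) y hy
  rcases hA.act_lam x hx with e | e <;> rcases hpm (M.lam x) with e' | e' <;>
    rcases h with e'' | e'' <;> rw [e, e', e''] <;> simp

/-- **`K` is transitive on the adjacent pairs.** -/
theorem trans_pair (L : Lift M θ) {x y x' y' : P} (hx : x ∈ M.Sh) (hy : y ∈ M.Sh)
    (hx' : x' ∈ M.Sh) (hy' : y' ∈ M.Sh) (h : Ad M x y) (h' : Ad M x' y') :
    ∃ k α, ActsBy M k α ∧ α x = x' ∧ α y = y' := by
  have key : ∃ g : Co0, g • M.lam x = M.lam x' ∧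
      (g • M.lam y = M.lam y' ∨ g • M.lam y = -M.lam y') := by
    have hn : ∀ {t : P}, t ∈ M.Sh → nrm (-M.lam t) = 32 := by
      intro t ht
      rw [nrm_neg, M.lam_norm t ht]
    rcases h with h | h <;> rcases h' with h' | h'
    · obtain ⟨g, h1, h2⟩ := LeechTriple.exists_pair _ _ _ _ (M.lam_norm x hx) (M.lam_norm y hy)
        (M.lam_norm x' hx') (M.lam_norm y' hy') h h'
      exact ⟨g, h1, Or.inl h2⟩
    · obtain ⟨g, h1, h2⟩ := LeechTriple.exists_pair _ _ _ (-M.lam y') (M.lam_norm x hx)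
        (M.lam_norm y hy) (M.lam_norm x' hx') (hn hy') h (by rw [dot_neg_right, h']; rfl)
      exact ⟨g, h1, Or.inr h2⟩
    · obtain ⟨g, h1, h2⟩ := LeechTriple.exists_pair_neg _ _ _ (-M.lam y') (M.lam_norm x hx)
        (M.lam_norm y hy) (M.lam_norm x' hx') (hn hy') h (by rw [dot_neg_right, h'])
      exact ⟨g, h1, Or.inr h2⟩
    · obtain ⟨g, h1, h2⟩ := LeechTriple.exists_pair_neg _ _ _ _ (M.lam_norm x hx)
        (M.lam_norm y hy) (M.lam_norm x' hx') (M.lam_norm y' hy') h h'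
      exact ⟨g, h1, Or.inl h2⟩
  obtain ⟨g, h1, h2⟩ := key
  obtain ⟨k, α, hk, hα⟩ := exists_actsBy M g
  have ex := hα x hx x' hx' (Or.inl h1)
  have ey := hα y hy y' hy' h2
  have had : Ad M (α x) (α y) := by
    rcases ex.symm with e | e <;> rcases ey.symm with e' | e' <;> rw [e, e']
    · exact h'
    · rwa [ad_z_right]
    · rwa [ad_z_left]
    · rwa [ad_z_left, ad_z_right]
  obtain ⟨q, hq1, hq2⟩ := exists_conj₂ L (hk.sh hx) (hk.sh hy) had ex ey
  obtain ⟨k', α', hk', hα'⟩ := hk.conj L q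
  exact ⟨k', α', hk', by rw [hα', hq1], by rw [hα', hq2]⟩

/-- Triples of type IIa. -/
structure IIa (M : KS G V P W) (x y w : P) : Prop where
  xy : Ad M x y
  xw : Ad M x w
  yw : Ad M y w
  pos : 0 < dot (M.lam x) (M.lam y) * dot (M.lam x) (M.lam w) * dot (M.lam y) (M.lam w)

/-- signs making all inner products of a IIa triple positive -/
theorem IIa.signs {x y w : P} (h : IIa M x y w) : ∃ r s t : leechLattice,
    (r = M.lam x ∨ r = -M.lam x) ∧ (s = M.lam y ∨ s = -M.lam y) ∧ (t = M.lam w ∨ t = -M.lam w) ∧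
      dot r s = 16 ∧ dot r t = 16 ∧ dot s t = 16 := by
  obtain ⟨h1, h2, h3, h4⟩ := h
  rcases h1 with h1 | h1 <;> rcases h2 with h2 | h2 <;> rcases h3 with h3 | h3 <;>
    rw [h1, h2, h3] at h4 <;> norm_num at h4
  · exact ⟨_, _, _, Or.inl rfl, Or.inl rfl, Or.inl rfl, h1, h2, h3⟩
  · refine ⟨_, _, _, Or.inl rfl, Or.inl rfl, Or.inr rfl, h1, ?_, ?_⟩
    · rw [dot_neg_right, h2]; rfl
    · rw [dot_neg_right, h3]; rfl
  · refine ⟨_, _, _, Or.inl rfl, Or.inr rfl, Or.inl rfl, ?_, h2, ?_⟩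
    · rw [dot_neg_right, h1]; rfl
    · rw [dot_neg_left, h3]; rfl
  · refine ⟨_, _, _, Or.inr rfl, Or.inl rfl, Or.inl rfl, ?_, ?_, h3⟩
    · rw [dot_neg_left, h1]; rfl
    · rw [dot_neg_left, h2]; rfl

theorem nrm_ne_two {v : leechLattice} (hv : nrm v = 32 ∨ nrm v = 64 ∨ nrm v = 96) (w : leechLattice) :
    v ≠ 2 • w := by
  rintro rfl
  rw [nrm_two] at hv
  have h5 : (16 : ℤ) ∣ nrm w := Cfsg.Agent.Leech.Basic.sixteen_dvd_sqNorm w.2
  have h6 : nrm w ≠ 16 := by
    intro h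
    have h7 := eq_zero_of_nrm (v := w) (by rw [h]; norm_num)
    rw [h7, nrm_zero] at h
    norm_num at h
  obtain ⟨c, hc⟩ := h5
  rw [hc] at hv h6
  omega

theorem dot_add_left (a b v : leechLattice) : dot (a + b) v = dot a v + dot b v := by
  show dotInt _ _ = dotInt _ _ + dotInt _ _
  unfold dotInt
  rw [← Finset.sum_add_distrib]
  refine Finset.sum_congr rfl fun i _ => ?_
  rw [AddSubgroup.coe_add, Pi.add_apply]
  ring

/-- the elements of a IIa triple are independent modulo the centre -/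
theorem IIa.nc (L : Lift M θ) {x y w : P} (hx : x ∈ M.Sh) (hy : y ∈ M.Sh) (hw : w ∈ M.Sh)
    (h : IIa M x y w) : NC M (x * y * w) := by
  obtain ⟨r, s, t, hr, hs, ht, hrs, hrt, hst⟩ := h.signs
  have er : Eqz M x (θ r) := (θ_pm L hr).trans (L.lam x hx) |>.symm
  have es : Eqz M y (θ s) := (θ_pm L hs).trans (L.lam y hy) |>.symm
  have et : Eqz M w (θ (-t)) := ((θ_neg L t).trans ((θ_pm L ht).trans (L.lam w hw))).symm
  have h1 : Eqz M (x * y * w) (θ (r + s + -t)) := by
    have e1 : Eqz M (θ (r + s)) (θ r * θ s) := L.add r s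
    have e2 : Eqz M (θ (r + s + -t)) (θ (r + s) * θ (-t)) := L.add (r + s) (-t)
    exact ((er.mul es).mul et).trans ((e2.trans (e1.mul (Eqz.refl _))).symm)
  have nr : nrm r = 32 := by
    rcases hr with rfl | rfl
    · exact M.lam_norm x hx
    · rw [nrm_neg, M.lam_norm x hx]
  have ns : nrm s = 32 := by
    rcases hs with rfl | rfl
    · exact M.lam_norm y hy
    · rw [nrm_neg, M.lam_norm y hy]
  have nt : nrm t = 32 := by
    rcases ht with rfl | rfl
    · exact M.lam_norm w hw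
    · rw [nrm_neg, M.lam_norm w hw]
  refine nc_of_lift L h1 (nrm_ne_two (Or.inr (Or.inl ?_)))
  rw [nrm_add, nrm_add, nrm_neg, dot_add_left, dot_neg_right, dot_neg_right, nr, ns, nt, hrs, hrt, hst]
  norm_num

/-- **`K` is transitive on the triples of type IIa.** -/
theorem trans_IIa (L : Lift M θ) {x y w x' y' w' : P} (hx : x ∈ M.Sh) (hy : y ∈ M.Sh)
    (hw : w ∈ M.Sh) (hx' : x' ∈ M.Sh) (hy' : y' ∈ M.Sh) (hw' : w' ∈ M.Sh) (h : IIa M x y w)
    (h' : IIa M x' y' w') : ∃ k α, ActsBy M k α ∧ α x = x' ∧ α y = y' ∧ α w = w' := by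
  obtain ⟨r, s, t, hr, hs, ht, hrs, hrt, hst⟩ := h.signs
  obtain ⟨r', s', t', hr', hs', ht', hrs', hrt', hst'⟩ := h'.signs
  have nn : ∀ {v : leechLattice} {x : P}, x ∈ M.Sh → (v = M.lam x ∨ v = -M.lam x) → nrm v = 32 := by
    rintro v x hx (rfl | rfl)
    · exact M.lam_norm x hx
    · rw [nrm_neg, M.lam_norm x hx]
  obtain ⟨g, hg1, hg2, hg3⟩ := LeechTriple.exists_triple r s t r' s' t' (nn hx hr) (nn hy hs)
    (nn hw ht) (nn hx' hr') (nn hy' hs') (nn hw' ht') hrs hrt hst hrs' hrt' hst'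
  obtain ⟨k, α, hk, hα⟩ := exists_actsBy M g
  have cv : ∀ {r r' : leechLattice} {x x' : P}, g • r = r' → (r = M.lam x ∨ r = -M.lam x) →
      (r' = M.lam x' ∨ r' = -M.lam x') → (g • M.lam x = M.lam x' ∨ g • M.lam x = -M.lam x') := by
    rintro r r' x x' e (rfl | rfl) (rfl | rfl)
    · exact Or.inl e
    · exact Or.inr e
    · right
      rw [co0_smul_neg] at e
      rw [← e, neg_neg]
    · left
      rw [co0_smul_neg] at e
      exact neg_injective e
  have ex := hα x hx x' hx' (cv hg1 hr hr')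
  have ey := hα y hy y' hy' (cv hg2 hs hs')
  have ew := hα w hw w' hw' (cv hg3 ht ht')
  have lz : ∀ {x x' : P}, Eqz M x' x → M.lam x = M.lam x' := by
    rintro x x' (rfl | rfl)
    · rfl
    · rw [M.lam_z]
  have h'' : IIa M (α x) (α y) (α w) := by
    obtain ⟨a1, a2, a3, a4⟩ := h'
    unfold Ad at a1 a2 a3
    refine ⟨?_, ?_, ?_, ?_⟩
    · unfold Ad; rw [lz ex, lz ey]; exact a1
    · unfold Ad; rw [lz ex, lz ew]; exact a2
    · unfold Ad; rw [lz ey, lz ew]; exact a3
    · rw [lz ex, lz ey, lz ew]; exact a4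
  have mx := hk.sh hx
  have my := hk.sh hy
  have mw := hk.sh hw
  obtain ⟨q, hq1, hq2, hq3⟩ := exists_conj₃ (nc_of_mem L mx) (nc_of_mem L my)
    (nc_of_mem L (mul_mem L mx my h''.xy)) (nc_of_mem L mw) (nc_of_mem L (mul_mem L mx mw h''.xw))
    (nc_of_mem L (mul_mem L my mw h''.yw)) (h''.nc L mx my mw) ex ey ew
  obtain ⟨k', α', hk', hα'⟩ := hk.conj L q
  exact ⟨k', α', hk', by rw [hα', hq1], by rw [hα', hq2], by rw [hα', hq3]⟩

end Cfsg.Agent.MonsterP.SChar
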