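import Cfsg.Agent.MonsterP.TZero
import Cfsg.Agent.MonsterP.Assembly

/-!
# The set `T₀` in terms of the covering data over the group of the model
-/

set_option autoImplicit false

namespace Cfsg.Agent.MonsterP.TZero

open Cfsg.Agent.MonsterX.Space Cfsg.Agent.MonsterX.Conc Cfsg.Agent.MonsterX
open Cfsg.Agent.MonsterX.CertOrb

theorem smul_def (g : ↥InstData.M.G) (x : V) : g • x = (g : V ≃ₗ[ℚ] V) x := rfl

variable {Γ : Type*} [Group Γ] {π : Γ →* ↥InstData.M.G} {H : Subgroup Γ} {n : Γ}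

/-- `T₀` is connected in the graph of the covering. -/
theorem connT (D : CovData π H n a₀) (h₀ : Adj π n a₀ a₀ b₀) : CovData.Conn π n a₀ T₀ := by
  intro x hx y hy
  refine conn (R := Adj π n a₀) ?_ (fun x y h => D.symm h) h₀ x hx y hy
  intro g hg x y hxy
  have hg' : g ∈ InstData.M.G := C_le_G (N_le_C hg)
  exact hxy.smul (⟨g, hg'⟩ : ↥InstData.M.G)

/-- The group `⟨N, τ⟩` preserves `T₀`. -/
theorem smul_mem_iff {D₀ : Subgroup (V ≃ₗ[ℚ] V)} (h : TauData Conc.N D₀ τ (E 12)) {g : V ≃ₗ[ℚ] V}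
    (hg : g ∈ Subgroup.closure ((Conc.N : Set (V ≃ₗ[ℚ] V)) ∪ {τ})) (x : V) : g x ∈ T₀ ↔ x ∈ T₀ := by
  have key : ∀ g ∈ Subgroup.closure ((Conc.N : Set (V ≃ₗ[ℚ] V)) ∪ {τ}),
      ∀ x ∈ T₀, g x ∈ T₀ ∧ g⁻¹ x ∈ T₀ := by
    intro g hg
    induction hg using Subgroup.closure_induction with
    | mem g hg =>
      rcases hg with hg | hg
      · exact fun x hx => ⟨N_mem hg hx, N_mem (Conc.N.inv_mem hg) hx⟩
      · rw [Set.mem_singleton_iff] at hg
        subst hg
        exact fun x hx => tau_mem h hx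
    | one => exact fun x hx => ⟨hx, by rw [inv_one]; exact hx⟩
    | mul a b _ _ iha ihb =>
      intro x hx
      refine ⟨(iha _ (ihb x hx).1).1, ?_⟩
      rw [mul_inv_rev]
      exact (ihb _ (iha x hx).2).2
    | inv a _ iha =>
      intro x hx
      exact ⟨(iha x hx).2, by rw [inv_inv]; exact (iha x hx).1⟩
  constructor
  · intro hx
    have h1 := (key g hg _ hx).2
    have h2 : g⁻¹ (g x) = x := by
      rw [← LinearEquiv.mul_apply, inv_mul_cancel]
      rfl
    rwa [h2] at h1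
  · intro hx
    exact (key g hg x hx).1

end Cfsg.Agent.MonsterP.TZero
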