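import Cfsg.Agent.MonsterX.KRowsInst
import Cfsg.Agent.MonsterP.SGraph
import Cfsg.Agent.MonsterP.TZeroG

/-!
# The sheet over `S` for the concrete model

The three short elements `x₀`, `x₁`, `x₂ = z x₀ x₁` (axes `a₀`, `b₀`, `c₀`), and `x₃ = x_Ω x₀ x₁`: `τ` fixes `a₀`, `b₀`
and maps `c₀` to the axis of `x₃`, so one closed triangle `(a₀, b₀, c₀)` gives a closed triangle of type IIa.
-/

set_option autoImplicit false
set_option maxRecDepth 100000

namespace Cfsg.Agent.MonsterP.SInst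

open Cfsg Cfsg.Agent.Monster.PauliBasic Cfsg.Agent.MonsterX Cfsg.Agent.MonsterX.Space
open Cfsg.Agent.MonsterX.Conc Cfsg.Agent.MonsterX.InstData Cfsg.Agent.MonsterX.Short
open Cfsg.Agent.MonsterX.KSide Cfsg.Agent.MonsterX.KLift Cfsg.Agent.MonsterX.KModel Cfsg.Agent.MonsterX.KAsm
open Cfsg.Agent.MonsterX.KInst Cfsg.Agent.MonsterX.KLetX Cfsg.Agent.MonsterX.KRowsInst
open Cfsg.Agent.MonsterP.SChar Cfsg.Agent.MonsterP.SGraph Cfsg.Agent.MonsterP.TZero
open Cfsg.Agent.MonsterU.Morse Cfsg.Agent.MonsterX.KSLat Cfsg.Agent.MonsterX.Lat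
open Cfsg.Agent.Monster.PauliPlanes Cfsg.Agent.Monster.PauliGates Cfsg.Agent.MonsterX.KLetW

/-! ### General lemmas -/

section general

variable {G V P W : Type*} [Group G] [AddCommGroup V] [Module ℚ V]
  [DistribMulAction G V] [SMulCommClass G ℚ V] [Group P] [AddCommGroup W] [Module ℚ W]
  {M : KS G V P W} {θ : leechLattice → P}

/-- If the product of two short elements is short, they are adjacent. -/
theorem ad_of_mul_mem (L : Lift M θ) {x y : P} (hx : x ∈ M.Sh) (hy : y ∈ M.Sh) (hxy : x * y ∈ M.Sh)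
    (h : y ≠ x) (hz : y ≠ M.zc * x) : Ad M x y := by
  rcases dot_cases hx hy with e | e | e | e
  · exact absurd e h
  · exact absurd e hz
  · exact e
  exfalso
  have h1 : Eqz M (θ (M.lam x + M.lam y)) (θ (M.lam (x * y))) := by
    have e1 : Eqz M (θ (M.lam x + M.lam y)) (θ (M.lam x) * θ (M.lam y)) := L.add _ _
    have e2 : Eqz M (θ (M.lam x) * θ (M.lam y)) (x * y) := Eqz.mul (L.lam x hx) (L.lam y hy)
    have e3 : Eqz M (θ (M.lam (x * y))) (x * y) := L.lam _ hxy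
    exact (e1.trans e2).trans e3.symm
  obtain ⟨w, hw⟩ : ∃ w : leechLattice, M.lam x + M.lam y + M.lam (x * y) = 2 • w := by
    apply L.ker
    have e1 : Eqz M (θ (M.lam x + M.lam y + M.lam (x * y))) (θ (M.lam x + M.lam y) * θ (M.lam (x * y))) :=
      L.add _ _
    have e2 : Eqz M (θ (M.lam (x * y)) * θ (M.lam (x * y))) 1 := by
      rcases L.sq (θ (M.lam (x * y))) with e | e
      · exact Or.inl e
      · right; rw [e, mul_one]
    have e3 := (e1.trans (h1.mul (Eqz.refl _))).trans e2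
    rcases e3 with e | e
    · exact Or.inl e
    · right; rwa [mul_one] at e
  have key : ∀ v r w : leechLattice, nrm r = 32 → v + r = 2 • w → nrm v ≤ 80 → nrm v = 32 := by
    intro v r w hr hvr hv
    have a1 : nrm (v + r) = 4 * nrm w := by rw [hvr, nrm_two]
    have hsub : v - r = 2 • (w - r) := by
      rw [smul_sub, ← hvr, two_smul]
      abel
    have a2 : nrm (v - r) = 4 * nrm (w - r) := by rw [hsub, nrm_two]
    rw [nrm_add] at a1
    rw [nrm_sub] at a2
    by_cases hw0 : w = 0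
    · rw [hw0, smul_zero] at hvr
      rw [eq_neg_of_add_eq_zero_left hvr, nrm_neg, hr]
    · by_cases hw1 : w - r = 0
      · rw [sub_eq_zero.1 hw1] at hvr
        have : v = r := by
          rw [two_smul] at hvr
          exact add_right_cancel hvr
        rw [this, hr]
      · have b1 := le_nrm hw0
        have b2 := le_nrm hw1
        omega
  have hnx := M.lam_norm x hx
  have hny := M.lam_norm y hy
  have hp : nrm (M.lam x + M.lam y) ≤ 80 := by
    rw [nrm_add, hnx, hny]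
    rcases e with e | e | e <;> rw [e] <;> norm_num
  have h3 := key _ _ w (M.lam_norm _ hxy) hw hp
  rw [nrm_add, hnx, hny] at h3
  rcases e with e | e | e <;> rw [e] at h3 <;> norm_num at h3

/-- A closed triangle which is not a line is of type IIa. -/
theorem IIa_of_not_line (L : Lift M θ) {x y w : P} (hx : x ∈ M.Sh) (hy : y ∈ M.Sh) (hw : w ∈ M.Sh)
    (h1 : Ad M x y) (h2 : Ad M x w) (h3 : Ad M y w) (hne : w ≠ x * y) (hne' : w ≠ M.zc * (x * y)) :
    IIa M x y w := by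
  refine ⟨h1, h2, h3, ?_⟩
  by_contra hpos
  have e1 : dot (M.lam w) (M.lam x) = dot (M.lam x) (M.lam w) := dot_comm _ _
  have e2 : dot (M.lam w) (M.lam y) = dot (M.lam y) (M.lam w) := dot_comm _ _
  have h4 : dot (M.lam w) (M.lam (x * y)) = 32 ∨ dot (M.lam w) (M.lam (x * y)) = -32 := by
    have h5 := dot_mul_right L hx hy h1 (M.lam w)
    rw [e1, e2] at h5
    rcases h2 with h2 | h2 <;> rcases h3 with h3 | h3 <;>
      rcases h5 with ⟨h5, h6 | h6⟩ | ⟨h5, h6 | h6⟩ <;>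
      rw [h2, h3] at h6 <;> rw [h2, h3, h5] at hpos <;> first
        | (exfalso; norm_num at hpos; done)
        | (left; rw [h6]; norm_num; done)
        | (right; rw [h6]; norm_num; done)
  have hxy := mul_mem L hx hy h1
  have h7 : (dot (M.lam (x * y)) (M.lam w)) ^ 2 = 1024 := by
    rw [dot_comm]
    rcases h4 with h4 | h4 <;> rw [h4] <;> norm_num
  rcases M.eq_or_of_dot _ _ hxy hw h7 with e | e
  · exact hne e
  · exact hne' e

end general

/-! ### The short elements -/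

/-- The action of a word in the letters `< 40` on the Pauli group. -/
def alW (w : List ℕ) (x : Pauli 12) : Pauli 12 := w.foldl (fun x n => al n x) x

/-- The same on planes. -/
def plW (w : List ℕ) (L : List ℕ) : List ℕ := w.foldl (fun L n => conjPlL (circ n) L) L

theorem alW_labP (w : List ℕ) : ∀ (L : List ℕ), L.length = 2 * 12 + 1 →
    alW w (labP 12 L 0) = labP 12 (plW w L) 0 := by
  induction w with
  | nil => intro L _; rfl
  | cons n w ih =>
    intro L hL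
    show alW w (al n (labP 12 L 0)) = labP 12 (plW w (conjPlL (circ n) L)) 0
    rw [← ih _ (by rw [length_conjPlL, hL])]
    congr 1
    exact (labP_conjPlL (circ n) hL 0).symm

theorem ext' {x y : Pauli 12} (hs : x.s = y.s) (ha : ∀ i, x.a i = y.a i) (hb : ∀ i, x.b i = y.b i) :
    x = y := Pauli.ext hs (funext ha) (funext hb)

def L₀ : List ℕ := [0, 0, 0, 0, 1, 0, 1, 0, 0, 0, 0, 0, 0, 0, 0, 0, 0, 0, 0, 0, 0, 0, 0, 0, 0]
def L₁ : List ℕ := [0, 0, 0, 0, 1, 1, 0, 0, 0, 0, 0, 0, 0, 0, 0, 0, 0, 0, 0, 0, 0, 0, 0, 0, 0]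
def L₂ : List ℕ := [0, 0, 0, 0, 0, 1, 1, 0, 0, 0, 0, 0, 0, 0, 0, 0, 0, 0, 0, 0, 0, 0, 0, 0, 1]
def L₃ : List ℕ := [0, 0, 0, 0, 0, 1, 1, 0, 0, 0, 0, 1, 0, 0, 0, 0, 0, 0, 0, 0, 0, 0, 0, 0, 0]

theorem plW₁ : plW [37, 37, 37] L₀ = L₁ := by decide +kernel
theorem plW₂ : plW [1, 36] L₀ = L₂ := by decide +kernel
theorem plW₃ : plW [25, 36] L₀ = L₃ := by decide +kernel

/-- `x_01`. -/
def xb : Pauli 12 := g 14 * g 13

/-- `x_02`. -/
def x₁ : Pauli 12 := g 15 * g 13

/-- `z x_01 x_02`. -/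
def x₂ : Pauli 12 := Pauli.z 12 * (xb * x₁)

/-- `x_Ω x_01 x_02`. -/
def x₃ : Pauli 12 := g 0 * (xb * x₁)

theorem xb_eq : xb = labP 12 L₀ 0 := ext' (by decide +kernel) (by decide +kernel) (by decide +kernel)
theorem x₁_eq : x₁ = labP 12 L₁ 0 := ext' (by decide +kernel) (by decide +kernel) (by decide +kernel)
theorem x₂_eq : x₂ = labP 12 L₂ 0 := ext' (by decide +kernel) (by decide +kernel) (by decide +kernel)
theorem x₃_eq : x₃ = labP 12 L₃ 0 := ext' (by decide +kernel) (by decide +kernel) (by decide +kernel)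

theorem alW₁ : alW [37, 37, 37] xb = x₁ := by rw [xb_eq, alW_labP _ _ rfl, plW₁, x₁_eq]
theorem alW₂ : alW [1, 36] xb = x₂ := by rw [xb_eq, alW_labP _ _ rfl, plW₂, x₂_eq]
theorem alW₃ : alW [25, 36] xb = x₃ := by rw [xb_eq, alW_labP _ _ rfl, plW₃, x₃_eq]

theorem ne_of_b {x y : Pauli 12} (i : Fin 12) (h : x.b i ≠ y.b i) : x ≠ y := fun e => h (by rw [e])

theorem ne₁ : x₁ ≠ xb := ne_of_b 6 (by decide +kernel)
theorem ne₁' : x₁ ≠ Pauli.z 12 * xb := ne_of_b 6 (by decide +kernel)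
theorem ne₃ : x₃ ≠ xb * x₁ := ne_of_b 11 (by decide +kernel)
theorem ne₃' : x₃ ≠ Pauli.z 12 * (xb * x₁) := ne_of_b 11 (by decide +kernel)

/-! ### The axes -/

/-- The axis of `x₂`. -/
noncomputable def c₀ : V := W [1, 36] a₀

theorem b₀_eq : W [37, 37, 37] a₀ = b₀ := W_eq_of_check (w₂ := [43, 43]) (by decide +kernel)

theorem tau_b₀ : τ b₀ = b₀ := by
  rw [← b₀_eq]
  have h : W [37, 37, 37, 40] (vecV a0B) = W [37, 37, 37] (vecV a0B) := W_eq_of_up (n := 6) (by decide +kernel)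
  have e : ([37, 37, 37, 40] : List ℕ) = [37, 37, 37] ++ [40] := rfl
  rw [e, W_append, W_single] at h
  exact h

theorem tau_c₀ : τ c₀ = W [25, 36] a₀ := by
  have h : W [1, 36, 40] (vecV a0B) = W [25, 36] (vecV a0B) := W_eq_of_up (n := 6) (by decide +kernel)
  have e : ([1, 36, 40] : List ℕ) = [1, 36] ++ [40] := rfl
  rw [e, W_append, W_single] at h
  exact h

section rows

variable (hc : ∀ n < 40, Compat (CoGens.A n) (al n))

/-- The concrete `KS`. -/
noncomputable abbrev K : KS ↥InstData.M.G V (Pauli 12) (B 12 → ℚ) := ks (rows hc)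

theorem xb_x₀ : xb = KLinkInst.x₀ := base_eq

theorem lnk : Link InstData.M (K hc) xb := by
  rw [xb_x₀]
  exact KLinkInst.link (rows hc) (hx hc)

theorem a_xb : (K hc).a xb = a₀ := by
  rw [a₀_eq', (lnk hc).a₀_eq]

/-- A letter in the group of the model. -/
noncomputable def EG (n : ℕ) (hn : n < 40) : ↥InstData.M.G := ⟨E n, C_le_G (Subgroup.subset_closure ⟨n, hn, rfl⟩)⟩

theorem acts_E {n : ℕ} (hn : n < 40) : ActsBy (K hc) (EG n hn) (al n) := by
  have h := act_E (rows hc) hn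
  refine ⟨Subgroup.mem_subgroupOf.2 (Subgroup.subset_closure ⟨n, hn, rfl⟩), CoGens.A n, (T n).toLinearMap,
    { act_u := h.act_u
      act_sh := h.compat.act_sh
      act_X := fun x _ => h.act_X x
      act_lam := h.compat.act_lam
      act_Θ := h.act_Θ
      act_ρ := h.act_ρ }⟩

/-- A letter acts on the axes. -/
theorem E_a {n : ℕ} (hn : n < 40) {x : Pauli 12} (hx : x ∈ Sh) :
    al n x ∈ Sh ∧ E n ((K hc).a x) = (K hc).a (al n x) :=
  ⟨(acts_E hc hn).sh hx, (acts_E hc hn).smul_a hx⟩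

theorem W_a (w : List ℕ) : (∀ n ∈ w, n < 40) → ∀ {x : Pauli 12}, x ∈ Sh →
    alW w x ∈ Sh ∧ W w ((K hc).a x) = (K hc).a (alW w x) := by
  induction w with
  | nil =>
    intro _ x hx
    refine ⟨hx, ?_⟩
    rw [W_nil]
    rfl
  | cons n w ih =>
    intro hw x hx
    obtain ⟨h1, h2⟩ := E_a hc (hw n (by simp)) hx
    obtain ⟨h3, h4⟩ := ih (fun m hm => hw m (by simp [hm])) h1
    refine ⟨h3, ?_⟩
    rw [W_cons, LinearEquiv.mul_apply, h2, h4]
    rfl

theorem xb_mem : xb ∈ Sh := by rw [xb_x₀]; exact KLinkInst.x₀_mem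

include hc in
theorem x₁_mem : x₁ ∈ Sh := by
  rw [← alW₁]
  exact (W_a hc [37, 37, 37] (by decide) xb_mem).1

include hc in
theorem x₂_mem : x₂ ∈ Sh := by
  rw [← alW₂]
  exact (W_a hc [1, 36] (by decide) xb_mem).1

include hc in
theorem x₃_mem : x₃ ∈ Sh := by
  rw [← alW₃]
  exact (W_a hc [25, 36] (by decide) xb_mem).1

theorem a_x₁ : (K hc).a x₁ = b₀ := by
  rw [← alW₁, ← (W_a hc [37, 37, 37] (by decide) xb_mem).2, a_xb, b₀_eq]

theorem a_x₂ : (K hc).a x₂ = c₀ := by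
  rw [← alW₂, ← (W_a hc [1, 36] (by decide) xb_mem).2, a_xb]
  rfl

theorem a_x₃ : (K hc).a x₃ = τ c₀ := by
  rw [← alW₃, ← (W_a hc [25, 36] (by decide) xb_mem).2, a_xb, tau_c₀]

theorem ad₁ : Ad (K hc) xb x₁ := by
  refine ad_of_mul_mem (lift (rows hc)) xb_mem (x₁_mem hc) ?_ ne₁ ne₁'
  have h : Pauli.z 12 * x₂ = xb * x₁ := (K hc).zc_zc (xb * x₁)
  have h2 : Pauli.z 12 * x₂ ∈ (K hc).Sh := (K hc).Sh_z _ (x₂_mem hc)
  rwa [h] at h2

theorem S_eq : InstData.M.S = (K hc).S := (lnk hc).S_eq (lift (rows hc))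

end rows

/-! ### The sheet -/

section general

variable {Γ G V P W : Type*} [Group Γ] [Group G] [AddCommGroup V] [Module ℚ V]
  [DistribMulAction G V] [SMulCommClass G ℚ V] [Group P] [AddCommGroup W] [Module ℚ W]
  {M : KS G V P W} {θ : leechLattice → P}
  {π : Γ →* G} {H : Subgroup Γ} {n : Γ} {o o' w : P}

/-- A normalised sheet over `S`, from a closed triangle and an element `t` moving it to a triangle of type IIa. -/
theorem exists_sheet_of (L : Lift M θ) (ho : o ∈ M.Sh) (ho' : o' ∈ M.Sh) (hw : w ∈ M.Sh) (had : Ad M o o')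
    (hne : w ≠ o * o') (hne' : w ≠ M.zc * (o * o')) {a b c : V} (ha : M.a o = a) (hb : M.a o' = b)
    (hc : M.a (M.zc * (o * o')) = c) (D : CovData π H n a) (hn : π n • a = b) (hcl : D.Closed a b c)
    (t : G) (hta : t • a = a) (htb : t • b = b) (htc : t • c = M.a w) :
    (∃ s : V → Γ ⧸ H, Sheet (Adj π n a) (Adj' H n) D.pr M.S s ∧ s a = ((1 : Γ) : Γ ⧸ H)) ∧
      CovData.Conn π n a M.S ∧ Adj π n a a b := by
  subst ha hb hc
  have E : Edge M π n o o' := ⟨ho, ho', had, hn⟩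
  have h1 := CovData.Closed.smul D hcl t
  rw [hta, htb, htc] at h1
  have h2 : IIa M o o' w := IIa_of_not_line L ho ho' hw had ((adj_iff L E ho hw).1 h1.2.1)
    ((adj_iff L E ho' hw).1 h1.2.2.1) hne hne'
  obtain ⟨s, hs⟩ := exists_sheet D L E hcl ⟨o, ho, o', ho', w, hw, h2, h1⟩
  obtain ⟨s', hs', hs''⟩ := D.normalize hs ⟨o, ho, rfl⟩
  exact ⟨⟨s', hs', hs''⟩, connS L E, (adj_iff L E ho ho').2 had⟩

end general

section model

variable (hc : ∀ n < 40, Compat (CoGens.A n) (al n))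
variable {Γ : Type*} [Group Γ] {π : Γ →* ↥InstData.M.G} {H : Subgroup Γ} {n : Γ}

/-- `τ` in the group of the model. -/
noncomputable def τG : ↥InstData.M.G := ⟨τ, Subgroup.subset_closure (Or.inr rfl)⟩

include hc

/-- **The sheet over `S` in the concrete model.** -/
theorem exists_sheet (D : CovData π H n a₀) (hn : π n • a₀ = b₀) (hb : D.Closed a₀ b₀ c₀) :
    (∃ s : V → Γ ⧸ H, Sheet (Adj π n a₀) (Adj' H n) D.pr InstData.M.S s ∧ s a₀ = ((1 : Γ) : Γ ⧸ H)) ∧
      CovData.Conn π n a₀ InstData.M.S ∧ Adj π n a₀ a₀ b₀ := by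
  rw [S_eq hc]
  exact exists_sheet_of (lift (rows hc)) xb_mem (x₁_mem hc) (x₃_mem hc) (ad₁ hc) ne₃ ne₃' (a_xb hc) (a_x₁ hc)
    (a_x₂ hc) D hn hb τG tau_a₀ tau_b₀ (a_x₃ hc).symm

end model

end Cfsg.Agent.MonsterP.SInst
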