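import Cfsg.Agent.Bimonster.Words
import Cfsg.Agent.BM.Psi

/-!
# The subgroups `2 · B` of a group with the Monster relations

Let `v` satisfy `Bimonster.PRel` (the relations on the 14 nodes of `Y553`: `a = 0`, arms `1 .. 5`, `6 .. 10`,
`11 .. 13`), and suppose that the presented Baby Monster `Spor.BabyMonster` is finite of order at most `N`.
Then

* `A v = ⟨0..4, 6..8, 11..13⟩` (type `Y433`) is finite of order at most `2 N`; it contains the involution
  `v 10 = f2`, which centralises it, and `A v ⧸ ⟨v 10⟩` is a quotient of `Spor.BabyMonster`;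
* the same for the mirror image `B v = ⟨0..3, 6..9, 11..13⟩` and `v 5 = f1`.
-/

set_option autoImplicit false
set_option maxRecDepth 100000
set_option linter.constructorNameAsVariable false

namespace Cfsg.Agent.MonsterP.TwoB

open Cfsg.Spor
open Cfsg.Agent.Bimonster Cfsg.Agent.Bimonster.Tits
open Cfsg.Agent.BM.Psi (Rel pow_rot)
open Cfsg.Agent.Lib.PermNetOrbit (cox_lift_eq_one)

/-! ### The relations of the presented Baby Monster from a Coxeter-type list -/

section General

variable {G : Type*} [Group G]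

theorem lab_cases (a b : BabyMonster.Gen) :
    (a = b ∧ coxLabel BabyMonster.edges a b = 1) ∨
    coxLabel BabyMonster.edges a b = 2 ∨ coxLabel BabyMonster.edges a b = 3 := by
  cases a <;> cases b <;> decide

/-- The relations of the presented Baby Monster. -/
theorem rel_intro {x : BabyMonster.Gen → G} (sq : ∀ a, x a * x a = 1)
    (cm : ∀ a b, coxLabel BabyMonster.edges a b = 2 → x a * x b = x b * x a)
    (br : ∀ a b, coxLabel BabyMonster.edges a b = 3 → x a * x b * x a = x b * x a * x b)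
    (spider : (x .t5 * x .t4 * x .t3 * x .t5 * x .t6 * x .t7 * x .t5 * x .t9 * x .t10) ^ 10 = 1)
    (e7a : (x .t5 * x .t4 * x .t3 * x .t6 * x .t7 * x .t8 * x .t9) ^ 9 = 1)
    (e7b : (x .t5 * x .t4 * x .t3 * x .t6 * x .t9 * x .t10 * x .t11) ^ 9 = 1) : Rel x := by
  refine cox_lift_eq_one _ _ _ (fun a _ b _ => ?_) ?_
  · rcases lab_cases a b with ⟨rfl, h⟩ | h | h
    · rw [h, pow_one, sq]
    · rw [h, pow_two]
      calc x a * x b * (x a * x b) = x a * x b * (x b * x a) := by rw [cm a b h]
        _ = x a * (x b * x b) * x a := by simp only [mul_assoc]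
        _ = 1 := by rw [sq, mul_one, sq]
    · rw [h]
      calc (x a * x b) ^ 3 = (x a * x b * x a) * (x b * x a * x b) := by
            simp only [pow_succ, pow_zero, one_mul, mul_assoc]
        _ = (x b * x a * x b) * (x b * x a * x b) := by rw [br a b h]
        _ = x b * x a * (x b * x b) * x a * x b := by simp only [mul_assoc]
        _ = x b * (x a * x a) * x b := by rw [sq b, mul_one]; simp only [mul_assoc]
        _ = 1 := by rw [sq, mul_one, sq]
  · intro r hr
    simp only [BabyMonster.extra, List.mem_cons, List.not_mem_nil, or_false] at hr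
    rcases hr with rfl | rfl | rfl
    · simpa only [map_pow, map_mul, FreeGroup.lift_apply_of] using spider
    · simpa only [map_pow, map_mul, FreeGroup.lift_apply_of] using e7a
    · simpa only [map_pow, map_mul, FreeGroup.lift_apply_of] using e7b

/-- The homomorphism from the presented Baby Monster. -/
def lift {x : BabyMonster.Gen → G} (h : Rel x) : Spor.BabyMonster →* G :=
  PresentedGroup.toGroup (f := x) h

theorem lift_of {x : BabyMonster.Gen → G} (h : Rel x) (t : BabyMonster.Gen) :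
    lift h (PresentedGroup.of t) = x t :=
  PresentedGroup.toGroup.of h

theorem lift_surjective {x : BabyMonster.Gen → G} (h : Rel x)
    (hgen : Subgroup.closure (Set.range x) = ⊤) : Function.Surjective (lift h) := by
  rw [← MonoidHom.range_eq_top, eq_top_iff, ← hgen, Subgroup.closure_le]
  rintro _ ⟨t, rfl⟩
  exact ⟨_, lift_of h t⟩

/-- A group of which the quotient by a central element `c` of order at most two is a quotient of the
presented Baby Monster. -/
theorem two_cover {A : Type*} [Group A] {x : BabyMonster.Gen → A}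
    (hgen : Subgroup.closure (Set.range x) = ⊤) {c : A} [hN : (Subgroup.zpowers c).Normal]
    (hc2 : c * c = 1) (h : Rel (fun t => (QuotientGroup.mk (s := Subgroup.zpowers c) (x t))))
    {N : ℕ} (hfin : Finite Spor.BabyMonster) (hcard : Nat.card Spor.BabyMonster ≤ N) :
    Finite A ∧ Nat.card A ≤ 2 * N ∧ Function.Surjective (lift h) := by
  classical
  have hsurj : Function.Surjective (lift h) := by
    apply lift_surjective
    have e : Set.range (fun t => (QuotientGroup.mk (s := Subgroup.zpowers c) (x t))) =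
        (QuotientGroup.mk' (Subgroup.zpowers c)) '' Set.range x := by
      rw [← Set.range_comp]; rfl
    rw [e, ← MonoidHom.map_closure, hgen, ← MonoidHom.range_eq_map, MonoidHom.range_eq_top]
    exact QuotientGroup.mk'_surjective _
  have hfq : Finite (A ⧸ Subgroup.zpowers c) := Finite.of_surjective _ hsurj
  have hcq : Nat.card (A ⧸ Subgroup.zpowers c) ≤ N :=
    (Nat.card_le_card_of_surjective _ hsurj).trans hcard
  have hz : Nat.card (Subgroup.zpowers c) ≤ 2 := by
    rw [Nat.card_zpowers]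
    exact Nat.le_of_dvd (by norm_num) (orderOf_dvd_of_pow_eq_one (by rw [pow_two, hc2]))
  have hzf : Finite (Subgroup.zpowers c) := by
    apply Nat.finite_of_card_ne_zero
    rw [Nat.card_zpowers]
    exact (isOfFinOrder_iff_pow_eq_one.2 ⟨2, by norm_num, by rw [pow_two, hc2]⟩).orderOf_pos.ne'
  have hA : Nat.card A = Nat.card (A ⧸ Subgroup.zpowers c) * Nat.card (Subgroup.zpowers c) :=
    Subgroup.card_eq_card_quotient_mul_card_subgroup _
  have hqpos : 0 < Nat.card (A ⧸ Subgroup.zpowers c) := Nat.card_pos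
  have hzpos : 0 < Nat.card (Subgroup.zpowers c) := Nat.card_pos
  refine ⟨Nat.finite_of_card_ne_zero ?_, ?_, hsurj⟩
  · rw [hA]; exact (Nat.mul_pos hqpos hzpos).ne'
  · rw [hA, mul_comm 2 N]; exact Nat.mul_le_mul hcq hz

end General

/-! ### The two node assignments -/

/-- `t5 | t4 t3 t2 t1 | t6 t7 t8 | t9 t10 t11 = 0 | 1 2 3 4 | 6 7 8 | 11 12 13` -/
def mA : BabyMonster.Gen → ℕ
  | .t5 => 0
  | .t4 => 1
  | .t3 => 2
  | .t2 => 3
  | .t1 => 4
  | .t6 => 6
  | .t7 => 7
  | .t8 => 8
  | .t9 => 11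
  | .t10 => 12
  | .t11 => 13

/-- `t5 | t4 t3 t2 t1 | t6 t7 t8 | t9 t10 t11 = 0 | 6 7 8 9 | 11 12 13 | 1 2 3` -/
def mB : BabyMonster.Gen → ℕ
  | .t5 => 0
  | .t4 => 6
  | .t3 => 7
  | .t2 => 8
  | .t1 => 9
  | .t6 => 11
  | .t7 => 12
  | .t8 => 13
  | .t9 => 1
  | .t10 => 2
  | .t11 => 3

theorem mA_lt (a : BabyMonster.Gen) : mA a < 14 := by cases a <;> decide
theorem mB_lt (a : BabyMonster.Gen) : mB a < 14 := by cases a <;> decide

theorem mA_two (a b : BabyMonster.Gen) (h : coxLabel BabyMonster.edges a b = 2) :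
    adjB (mA a) (mA b) = false := by
  revert h; cases a <;> cases b <;> decide
theorem mA_three (a b : BabyMonster.Gen) (h : coxLabel BabyMonster.edges a b = 3) :
    adjB (mA a) (mA b) = true := by
  revert h; cases a <;> cases b <;> decide
theorem mB_two (a b : BabyMonster.Gen) (h : coxLabel BabyMonster.edges a b = 2) :
    adjB (mB a) (mB b) = false := by
  revert h; cases a <;> cases b <;> decide
theorem mB_three (a b : BabyMonster.Gen) (h : coxLabel BabyMonster.edges a b = 3) :
    adjB (mB a) (mB b) = true := by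
  revert h; cases a <;> cases b <;> decide

section PRel

variable {E : Type*} [Group E] {v : ℕ → E}

theorem eqA1 (h : PRel v) : ev v [0, 1, 2, 6, 7, 8, 11] = ev v Bimonster.f2a :=
  eq_of_run_reverse h.cox.valid (fun i hi => h.cox.sq i (by revert i; decide))
    (ms := [19, 15, 19, 16, 12, 16, 12, 10, 6, 7, 3, 3, 0]) (n := 7) (by decide +kernel)

theorem eqA2 (h : PRel v) : ev v [0, 1, 2, 6, 11, 12, 13] = ev v Bimonster.f3a :=
  eq_of_run_reverse h.cox.valid (fun i hi => h.cox.sq i (by revert i; decide))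
    (ms := [18, 19, 15, 13, 10, 6, 10, 6, 7, 3, 3, 0]) (n := 7) (by decide +kernel)

theorem eqB1 (h : PRel v) : ev v [0, 6, 7, 11, 12, 13, 1] = ev v Bimonster.f3b :=
  eq_of_run_reverse h.cox.valid (fun i hi => h.cox.sq i (by revert i; decide))
    (ms := [19, 15, 19, 16, 12, 16, 12, 10, 6, 7, 3, 3, 0]) (n := 7) (by decide +kernel)

theorem eqB2 (h : PRel v) : ev v [0, 6, 7, 11, 1, 2, 3] = ev v Bimonster.f1a :=
  eq_of_run_reverse h.cox.valid (fun i hi => h.cox.sq i (by revert i; decide))
    (ms := [18, 19, 15, 13, 10, 6, 10, 6, 7, 3, 3, 0]) (n := 7) (by decide +kernel)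

theorem e7A1 (h : PRel v) : (v 0 * v 1 * v 2 * v 6 * v 7 * v 8 * v 11) ^ 9 = v 10 := by
  have := h.f2a
  rw [← eqA1 h] at this
  simpa only [ev_cons, ev_nil, mul_one, mul_assoc] using this.symm

theorem e7A2 (h : PRel v) : (v 0 * v 1 * v 2 * v 6 * v 11 * v 12 * v 13) ^ 9 = 1 := by
  have := h.f3a
  rw [← eqA2 h] at this
  simpa only [ev_cons, ev_nil, mul_one, mul_assoc] using this

theorem e7B1 (h : PRel v) : (v 0 * v 6 * v 7 * v 11 * v 12 * v 13 * v 1) ^ 9 = 1 := by
  have := h.f3b
  rw [← eqB1 h] at this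
  simpa only [ev_cons, ev_nil, mul_one, mul_assoc] using this

theorem e7B2 (h : PRel v) : (v 0 * v 6 * v 7 * v 11 * v 1 * v 2 * v 3) ^ 9 = v 5 := by
  have := h.f1a
  rw [← eqB2 h] at this
  simpa only [ev_cons, ev_nil, mul_one, mul_assoc] using this.symm

theorem spA (h : PRel v) : (v 0 * v 1 * v 2 * v 0 * v 6 * v 7 * v 0 * v 11 * v 12) ^ 10 = 1 := by
  have := h.spider
  simpa only [spW, ev_cons, ev_nil, mul_one, mul_assoc] using this

theorem spB (h : PRel v) : (v 0 * v 6 * v 7 * v 0 * v 11 * v 12 * v 0 * v 1 * v 2) ^ 10 = 1 := by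
  have h2 : ((v 0 * v 1 * v 2) * (v 0 * v 6 * v 7 * v 0 * v 11 * v 12)) ^ 10 = 1 := by
    simpa only [mul_assoc] using spA h
  simpa only [mul_assoc] using pow_rot h2

end PRel

section Sub

variable {E : Type*} [Group E]

/-- The subgroup generated by the nodes `m a`. -/
def sub (m : BabyMonster.Gen → ℕ) (v : ℕ → E) : Subgroup E :=
  Subgroup.closure (Set.range fun a => v (m a))

/-- The generators as elements of the subgroup. -/
def gx (m : BabyMonster.Gen → ℕ) (v : ℕ → E) (a : BabyMonster.Gen) : sub m v :=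
  ⟨v (m a), Subgroup.subset_closure ⟨a, rfl⟩⟩

theorem gx_coe (m : BabyMonster.Gen → ℕ) (v : ℕ → E) (a : BabyMonster.Gen) :
    ((gx m v a : sub m v) : E) = v (m a) := rfl

theorem gx_closure (m : BabyMonster.Gen → ℕ) (v : ℕ → E) :
    Subgroup.closure (Set.range (gx m v)) = ⊤ := by
  have h := Subgroup.closure_closure_coe_preimage (k := Set.range fun a => v (m a))
  refine Eq.trans ?_ h
  congr 1
  ext ⟨y, hy⟩
  constructor
  · rintro ⟨a, ha⟩
    exact ⟨a, congrArg Subtype.val ha⟩
  · rintro ⟨a, ha⟩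
    exact ⟨a, Subtype.ext ha⟩

end Sub

/-! ### The main statements -/

section Main

variable {E : Type*} [Group E] {v : ℕ → E}

/-- `⟨0..4, 6..8, 11..13⟩` -/
abbrev A (v : ℕ → E) : Subgroup E := sub mA v

/-- `⟨0..3, 6..9, 11..13⟩` -/
abbrev B (v : ℕ → E) : Subgroup E := sub mB v

theorem mem_A (a : BabyMonster.Gen) : v (mA a) ∈ A v := Subgroup.subset_closure ⟨a, rfl⟩
theorem mem_B (a : BabyMonster.Gen) : v (mB a) ∈ B v := Subgroup.subset_closure ⟨a, rfl⟩

theorem mem_A_ten (h : PRel v) : v 10 ∈ A v := by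
  rw [← e7A1 h]
  exact pow_mem (mul_mem (mul_mem (mul_mem (mul_mem (mul_mem (mul_mem
    (mem_A .t5) (mem_A .t4)) (mem_A .t3)) (mem_A .t6)) (mem_A .t7)) (mem_A .t8)) (mem_A .t9)) 9

theorem mem_B_five (h : PRel v) : v 5 ∈ B v := by
  rw [← e7B2 h]
  exact pow_mem (mul_mem (mul_mem (mul_mem (mul_mem (mul_mem (mul_mem
    (mem_B .t5) (mem_B .t4)) (mem_B .t3)) (mem_B .t6)) (mem_B .t9)) (mem_B .t10)) (mem_B .t11)) 9

theorem A_comm_ten (h : PRel v) : ∀ g ∈ A v, v 10 * g = g * v 10 := by
  intro g hg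
  have : A v ≤ Subgroup.centralizer {v 10} := by
    refine (Subgroup.closure_le _).2 ?_
    rintro _ ⟨a, rfl⟩
    refine Subgroup.mem_centralizer_singleton_iff.2 ?_
    exact (h.cox.cm _ (mA_lt a) 10 (by norm_num) (by cases a <;> decide))
  exact (Subgroup.mem_centralizer_singleton_iff.1 (this hg)).symm

theorem B_comm_five (h : PRel v) : ∀ g ∈ B v, v 5 * g = g * v 5 := by
  intro g hg
  have : B v ≤ Subgroup.centralizer {v 5} := by
    refine (Subgroup.closure_le _).2 ?_
    rintro _ ⟨a, rfl⟩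
    refine Subgroup.mem_centralizer_singleton_iff.2 ?_
    exact (h.cox.cm _ (mB_lt a) 5 (by norm_num) (by cases a <;> decide))
  exact (Subgroup.mem_centralizer_singleton_iff.1 (this hg)).symm

/-- The central involution `f2` of `A v`. -/
def cA (h : PRel v) : A v := ⟨v 10, mem_A_ten h⟩

/-- The central involution `f1` of `B v`. -/
def cB (h : PRel v) : B v := ⟨v 5, mem_B_five h⟩

theorem normal_of_central {A : Type*} [Group A] {c : A} (hc : ∀ g : A, c * g = g * c) :
    (Subgroup.zpowers c).Normal := by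
  constructor
  intro n hn g
  have hcm : c ∈ Subgroup.center A := Subgroup.mem_center_iff.2 fun g => (hc g).symm
  have hn' : n ∈ Subgroup.center A := (Subgroup.zpowers_le.2 hcm) hn
  have e : g * n * g⁻¹ = n := by
    rw [Subgroup.mem_center_iff.1 hn' g, mul_inv_cancel_right]
  rw [e]
  exact hn

instance normA (h : PRel v) : (Subgroup.zpowers (cA h)).Normal :=
  normal_of_central fun g => Subtype.ext (A_comm_ten h g g.2)

instance normB (h : PRel v) : (Subgroup.zpowers (cB h)).Normal :=
  normal_of_central fun g => Subtype.ext (B_comm_five h g g.2)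

/-- The images of the generators in `A v ⧸ ⟨f2⟩`. -/
def qA (h : PRel v) (a : BabyMonster.Gen) : A v ⧸ Subgroup.zpowers (cA h) :=
  QuotientGroup.mk (gx mA v a)

/-- The images of the generators in `B v ⧸ ⟨f1⟩`. -/
def qB (h : PRel v) (a : BabyMonster.Gen) : B v ⧸ Subgroup.zpowers (cB h) :=
  QuotientGroup.mk (gx mB v a)

theorem mk_eq_one_of {A : Type*} [Group A] {c : A} [(Subgroup.zpowers c).Normal] {g : A}
    (h : g = 1 ∨ g = c) : (QuotientGroup.mk g : A ⧸ Subgroup.zpowers c) = 1 := by
  rw [QuotientGroup.eq_one_iff]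
  rcases h with rfl | rfl
  · exact one_mem _
  · exact Subgroup.mem_zpowers _

theorem relA (h : PRel v) : Rel (qA h) := by
  refine rel_intro (fun a => ?_) (fun a b hl => ?_) (fun a b hl => ?_) ?_ ?_ ?_
  · show QuotientGroup.mk (gx mA v a * gx mA v a) = _
    exact mk_eq_one_of (Or.inl (Subtype.ext (h.cox.sq _ (mA_lt a))))
  · show QuotientGroup.mk (gx mA v a * gx mA v b) = QuotientGroup.mk (gx mA v b * gx mA v a)
    exact congrArg _ (Subtype.ext (h.cox.cm _ (mA_lt a) _ (mA_lt b) (mA_two a b hl)))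
  · show QuotientGroup.mk (gx mA v a * gx mA v b * gx mA v a) =
      QuotientGroup.mk (gx mA v b * gx mA v a * gx mA v b)
    exact congrArg _ (Subtype.ext (h.cox.br _ (mA_lt a) _ (mA_lt b) (mA_three a b hl)))
  · show QuotientGroup.mk ((gx mA v .t5 * gx mA v .t4 * gx mA v .t3 * gx mA v .t5 * gx mA v .t6 *
      gx mA v .t7 * gx mA v .t5 * gx mA v .t9 * gx mA v .t10) ^ 10) = _
    exact mk_eq_one_of (Or.inl (Subtype.ext (spA h)))
  · show QuotientGroup.mk ((gx mA v .t5 * gx mA v .t4 * gx mA v .t3 * gx mA v .t6 * gx mA v .t7 *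
      gx mA v .t8 * gx mA v .t9) ^ 9) = _
    exact mk_eq_one_of (Or.inr (Subtype.ext (e7A1 h)))
  · show QuotientGroup.mk ((gx mA v .t5 * gx mA v .t4 * gx mA v .t3 * gx mA v .t6 * gx mA v .t9 *
      gx mA v .t10 * gx mA v .t11) ^ 9) = _
    exact mk_eq_one_of (Or.inl (Subtype.ext (e7A2 h)))

theorem relB (h : PRel v) : Rel (qB h) := by
  refine rel_intro (fun a => ?_) (fun a b hl => ?_) (fun a b hl => ?_) ?_ ?_ ?_
  · show QuotientGroup.mk (gx mB v a * gx mB v a) = _
    exact mk_eq_one_of (Or.inl (Subtype.ext (h.cox.sq _ (mB_lt a))))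
  · show QuotientGroup.mk (gx mB v a * gx mB v b) = QuotientGroup.mk (gx mB v b * gx mB v a)
    exact congrArg _ (Subtype.ext (h.cox.cm _ (mB_lt a) _ (mB_lt b) (mB_two a b hl)))
  · show QuotientGroup.mk (gx mB v a * gx mB v b * gx mB v a) =
      QuotientGroup.mk (gx mB v b * gx mB v a * gx mB v b)
    exact congrArg _ (Subtype.ext (h.cox.br _ (mB_lt a) _ (mB_lt b) (mB_three a b hl)))
  · show QuotientGroup.mk ((gx mB v .t5 * gx mB v .t4 * gx mB v .t3 * gx mB v .t5 * gx mB v .t6 *
      gx mB v .t7 * gx mB v .t5 * gx mB v .t9 * gx mB v .t10) ^ 10) = _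
    exact mk_eq_one_of (Or.inl (Subtype.ext (spB h)))
  · show QuotientGroup.mk ((gx mB v .t5 * gx mB v .t4 * gx mB v .t3 * gx mB v .t6 * gx mB v .t7 *
      gx mB v .t8 * gx mB v .t9) ^ 9) = _
    exact mk_eq_one_of (Or.inl (Subtype.ext (e7B1 h)))
  · show QuotientGroup.mk ((gx mB v .t5 * gx mB v .t4 * gx mB v .t3 * gx mB v .t6 * gx mB v .t9 *
      gx mB v .t10 * gx mB v .t11) ^ 9) = _
    exact mk_eq_one_of (Or.inr (Subtype.ext (e7B2 h)))

/-- `Spor.BabyMonster →* A v ⧸ ⟨f2⟩` -/
def homA (h : PRel v) : Spor.BabyMonster →* A v ⧸ Subgroup.zpowers (cA h) := lift (relA h)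

/-- `Spor.BabyMonster →* B v ⧸ ⟨f1⟩` -/
def homB (h : PRel v) : Spor.BabyMonster →* B v ⧸ Subgroup.zpowers (cB h) := lift (relB h)

theorem homA_of (h : PRel v) (a : BabyMonster.Gen) :
    homA h (PresentedGroup.of a) = QuotientGroup.mk (gx mA v a) := lift_of _ a

theorem homB_of (h : PRel v) (a : BabyMonster.Gen) :
    homB h (PresentedGroup.of a) = QuotientGroup.mk (gx mB v a) := lift_of _ a

theorem cA_sq (h : PRel v) : cA h * cA h = 1 := Subtype.ext (h.cox.sq 10 (by norm_num))
theorem cB_sq (h : PRel v) : cB h * cB h = 1 := Subtype.ext (h.cox.sq 5 (by norm_num))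

theorem homA_surjective (h : PRel v) : Function.Surjective (homA h) := by
  apply lift_surjective
  have e : Set.range (qA h) =
      (QuotientGroup.mk' (Subgroup.zpowers (cA h))) '' Set.range (gx mA v) := by
    rw [← Set.range_comp]; rfl
  rw [e, ← MonoidHom.map_closure, gx_closure, ← MonoidHom.range_eq_map, MonoidHom.range_eq_top]
  exact QuotientGroup.mk'_surjective _

theorem homB_surjective (h : PRel v) : Function.Surjective (homB h) := by
  apply lift_surjective
  have e : Set.range (qB h) =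
      (QuotientGroup.mk' (Subgroup.zpowers (cB h))) '' Set.range (gx mB v) := by
    rw [← Set.range_comp]; rfl
  rw [e, ← MonoidHom.map_closure, gx_closure, ← MonoidHom.range_eq_map, MonoidHom.range_eq_top]
  exact QuotientGroup.mk'_surjective _

/-- `A v` is finite of order at most `2 N`. -/
theorem card_A (h : PRel v) {N : ℕ} (hfin : Finite Spor.BabyMonster)
    (hcard : Nat.card Spor.BabyMonster ≤ N) : Finite (A v) ∧ Nat.card (A v) ≤ 2 * N :=
  have := two_cover (gx_closure mA v) (cA_sq h) (relA h) hfin hcard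
  ⟨this.1, this.2.1⟩

/-- `B v` is finite of order at most `2 N`. -/
theorem card_B (h : PRel v) {N : ℕ} (hfin : Finite Spor.BabyMonster)
    (hcard : Nat.card Spor.BabyMonster ≤ N) : Finite (B v) ∧ Nat.card (B v) ≤ 2 * N :=
  have := two_cover (gx_closure mB v) (cB_sq h) (relB h) hfin hcard
  ⟨this.1, this.2.1⟩

end Main

end Cfsg.Agent.MonsterP.TwoB
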